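import Mathlib
import Cfsg.Agent.Lib.Kondo.K2

/-! Automorphisms of a direct power of the dihedral group of order eight, and weak closure. -/

set_option autoImplicit false
set_option linter.unusedSectionVars false
set_option linter.style.haveILetI false

namespace H24.Ko

open DihedralGroup Subgroup MulAction

variable {ι : Type} [Fintype ι] [DecidableEq ι]

/-- the permutation of the factors -/
noncomputable def sig (γ : MulAut (ι → D)) (l : ι) : ι :=
  (aut_single γ.toMonoidHom γ.injective l).choose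

theorem sig_spec (γ : MulAut (ι → D)) (l : ι) :
    γ (Pi.mulSingle l zD) = Pi.mulSingle (sig γ l) zD :=
  (aut_single γ.toMonoidHom γ.injective l).choose_spec

theorem single_z_inj {a b : ι} (h : (Pi.mulSingle a zD : ι → D) = Pi.mulSingle b zD) : a = b := by
  have h2 := congrFun h a
  by_contra hne
  simp [Pi.mulSingle_eq_of_ne hne] at h2
  exact zD_ne h2

theorem sig_eq {γ : MulAut (ι → D)} {l l' : ι}
    (h : γ (Pi.mulSingle l zD) = Pi.mulSingle l' zD) : sig γ l = l' :=
  single_z_inj ((sig_spec γ l).symm.trans h)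

@[reducible] noncomputable def sigAct : MulAction (MulAut (ι → D)) ι where
  smul := sig
  one_smul l := sig_eq rfl
  mul_smul γ γ' l := sig_eq (by rw [MulAut.mul_apply, sig_spec, sig_spec]; rfl)

theorem sig_mul (γ γ' : MulAut (ι → D)) (l : ι) : sig (γ * γ') l = sig γ (sig γ' l) :=
  sigAct.mul_smul γ γ' l

theorem sig_one (l : ι) : sig (1 : MulAut (ι → D)) l = l := sig_eq rfl

theorem sig_inj (γ : MulAut (ι → D)) : Function.Injective (sig γ) := by
  intro a b h
  have := congrArg (sig γ⁻¹) h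
  rwa [← sig_mul, ← sig_mul, inv_mul_cancel, sig_one, sig_one] at this

theorem sig_surj (γ : MulAut (ι → D)) (k : ι) : ∃ l, sig γ l = k :=
  ⟨sig γ⁻¹ k, by rw [← sig_mul, mul_inv_cancel, sig_one]⟩

theorem comm_nc : ∀ d f : D, f * d ≠ d * f → d * f * d⁻¹ * f⁻¹ = zD := by decide

theorem cen_aut (γ : MulAut (ι → D)) (d : ι → D) (k : ι) (h : cen (d k)) :
    cen (γ d (sig γ k)) := by
  by_contra hc
  obtain ⟨f, hf⟩ := exists_nc _ hc
  obtain ⟨y, hy⟩ := γ.surjective (Pi.mulSingle (sig γ k) f)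
  have h1 : γ (d * y * d⁻¹ * y⁻¹) = γ (Pi.mulSingle k zD) := by
    rw [sig_spec, map_mul, map_mul, map_mul, map_inv, map_inv, hy]
    funext k'
    by_cases hk : k' = sig γ k
    · subst hk; simpa using comm_nc _ _ hf
    · simp [hk]
  have h2 := congrFun (γ.injective h1) k
  simp only [Pi.mul_apply, Pi.inv_apply, Pi.mulSingle_eq_same] at h2
  exact zD_ne (h2.symm.trans (comm_cen _ _ h))

theorem cen_aut_iff (γ : MulAut (ι → D)) (d : ι → D) (k : ι) :
    cen (γ d (sig γ k)) ↔ cen (d k) := by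
  refine ⟨fun h => ?_, cen_aut γ d k⟩
  have := cen_aut γ⁻¹ _ _ h
  rwa [← sig_mul, inv_mul_cancel, sig_one, ← MulAut.mul_apply, inv_mul_cancel] at this

theorem aut_zI (γ : MulAut (ι → D)) (I : Finset ι) : γ (zI I) = zI (I.image (sig γ)) := by
  induction I using Finset.induction_on with
  | empty => simp [zI_empty]
  | insert a s ha ih =>
    rw [zI_insert _ _ ha, map_mul, ih, sig_spec, Finset.image_insert, zI_insert]
    simpa [(sig_inj γ).eq_iff] using ha

theorem split_single (d : ι → D) (l : ι) (h : ∀ k, k ≠ l → cen (d k)) :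
    ∃ I : Finset ι, l ∉ I ∧ d = Pi.mulSingle l (d l) * zI I := by
  obtain ⟨I, hI⟩ := exists_zI (Function.update d l 1) fun k => by
    by_cases hk : k = l
    · subst hk; simpa using cen_one
    · simpa [hk] using h k hk
  have hl : l ∉ I := by
    intro hl
    have := congrFun hI l
    simp [zI, hl] at this
    exact zD_ne this.symm
  refine ⟨I, hl, funext fun k => ?_⟩
  rw [← hI]
  by_cases hk : k = l
  · subst hk; simp
  · simp [hk]

theorem aut_val (γ : MulAut (ι → D)) (d : ι → D) (l : ι) (h : ∀ k, k ≠ l → cen (d k)) :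
    γ d (sig γ l) = γ (Pi.mulSingle l (d l)) (sig γ l) := by
  obtain ⟨I, hl, hI⟩ := split_single d l h
  conv_lhs => rw [hI, map_mul, aut_zI]
  have : sig γ l ∉ I.image (sig γ) := by simpa [(sig_inj γ).eq_iff] using hl
  simp [zI, this]

theorem aut_cen_other (γ : MulAut (ι → D)) (d : ι → D) (l : ι) (h : ∀ k, k ≠ l → cen (d k))
    (k : ι) (hk : k ≠ sig γ l) : cen (γ d k) := by
  obtain ⟨k', rfl⟩ := sig_surj γ k
  exact cen_aut γ d k' (h k' fun e => hk (by rw [e]))

theorem single_cen (l : ι) (e : D) (k : ι) (hk : k ≠ l) :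
    cen ((Pi.mulSingle l e : ι → D) k) := by
  rw [Pi.mulSingle_eq_of_ne hk]; exact cen_one

theorem aut_ni (γ : MulAut (ι → D)) (d : ι → D) (l : ι) (h2 : d * d = 1) (h : ¬ cen (d l)) :
    ni (γ d (sig γ l)) :=
  ⟨congrFun (show γ d * γ d = 1 by rw [← map_mul, h2, map_one]) _, by rwa [cen_aut_iff]⟩

abbrev NI := {e : D // ni e}

@[reducible] noncomputable def niAct : MulAction (MulAut (ι → D)) (ι × NI) where
  smul γ x := (sig γ x.1, ⟨γ (Pi.mulSingle x.1 x.2.1) (sig γ x.1),
    aut_ni γ _ _ (by rw [← Pi.mulSingle_mul, x.2.2.1]; simp) (by simpa using x.2.2.2)⟩)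
  one_smul x := Prod.ext (sig_one _) (Subtype.ext (by
    change (1 : MulAut (ι → D)) _ (sig 1 x.1) = _
    rw [sig_one]; simp))
  mul_smul γ γ' x := Prod.ext (sig_mul _ _ _) (Subtype.ext (by
    change (γ * γ') _ (sig (γ * γ') x.1) = γ _ (sig γ (sig γ' x.1))
    rw [sig_mul, MulAut.mul_apply]
    exact aut_val γ _ _ (aut_cen_other γ' _ _ (single_cen _ _))))

theorem ni_conj : ∀ a e : D, ni e → ni (a * e * a⁻¹) := by decide

def cNI (a : D) : Equiv.Perm NI where
  toFun e := ⟨a * e.1 * a⁻¹, ni_conj _ _ e.2⟩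
  invFun e := ⟨a⁻¹ * e.1 * a⁻¹⁻¹, ni_conj _ _ e.2⟩
  left_inv e := Subtype.ext (by simp [mul_assoc])
  right_inv e := Subtype.ext (by simp [mul_assoc])

theorem sign_cNI : ∀ a : D, Equiv.Perm.sign (cNI a) = chD a := by decide

theorem sig_conj (d : ι → D) (l : ι) : sig (MulAut.conj d) l = l := by
  refine sig_eq ?_
  rw [MulAut.conj_apply, (single_comm_iff l zD d).2 (cen_comm _ _ cen_zD).symm]
  simp

/-- the character of the automorphism group -/
noncomputable def chi0 : MulAut (ι → D) →* ℤˣ :=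
  Equiv.Perm.sign.comp (@MulAction.toPermHom _ _ _ niAct)

theorem chi0_conj (d : ι → D) : chi0 (MulAut.conj d) = ∏ l, chD (d l) := by
  have : @MulAction.toPermHom _ _ _ niAct (MulAut.conj d) =
      Equiv.prodCongrRight fun l => cNI (d l) := by
    refine Equiv.ext fun x => Prod.ext (sig_conj _ _) (Subtype.ext ?_)
    change (MulAut.conj d) _ (sig _ x.1) = _
    rw [sig_conj]
    simp [cNI]
  rw [chi0, MonoidHom.comp_apply, this, Equiv.Perm.sign_prodCongrRight]
  simp only [sign_cNI]

section act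

variable {A α : Type*} [Group A] [Finite A] [MulAction A α] [Finite α]

theorem index_fix_rep (hc : ∀ x y : A, x * y = y * x) (T : Set α)
    (hT : ∀ (g : A), ∀ x ∈ T, g • x ∈ T) :
    ∃ R : Set α, (∀ x ∈ T, ∃ y ∈ R, x ∈ orbit A y) ∧
      (fixingSubgroup A T).index * 2 ^ R.ncard ≤ 2 ^ T.ncard := by
  induction hn : T.ncard using Nat.strong_induction_on generalizing T with
  | _ m ih =>
  rcases T.eq_empty_or_nonempty with rfl | ⟨x, hx⟩
  · have : fixingSubgroup A (∅ : Set α) = ⊤ := by
      rw [eq_top_iff]; intro g _; rw [mem_fixingSubgroup_iff]; simp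
    refine ⟨∅, by simp, ?_⟩
    rw [this, index_top]
    simpa using Nat.one_le_two_pow
  have hO : orbit A x ⊆ T := by rintro _ ⟨g, rfl⟩; exact hT g x hx
  have hc' := Set.ncard_sdiff_add_ncard_of_subset hO
  have hpos : 0 < (orbit A x).ncard := (Set.ncard_pos).2 ⟨x, mem_orbit_self x⟩
  obtain ⟨R, hR, h1⟩ := ih _ (by omega) (T \ orbit A x) (fun g y hy => ⟨hT g y hy.1,
    fun h => hy.2 (by
      have := mem_orbit_of_mem_orbit g⁻¹ h
      simpa using this)⟩) rfl
  have h3 : fixingSubgroup A (T \ orbit A x) ⊓ stabilizer A x ≤ fixingSubgroup A T := by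
    rintro g ⟨hg1, hg2⟩
    rw [mem_fixingSubgroup_iff]
    intro y hy
    by_cases hyO : y ∈ orbit A x
    · obtain ⟨k, rfl⟩ := hyO
      simp only
      rw [← mul_smul, hc, mul_smul, mem_stabilizer_iff.1 hg2]
    · exact (mem_fixingSubgroup_iff A).1 hg1 y ⟨hy, hyO⟩
  have h4 := (index_antitone h3).trans index_inf_le
  rw [index_stabilizer] at h4
  have h5 : (orbit A x).ncard * 2 ≤ 2 ^ (orbit A x).ncard := by
    obtain ⟨k, hk⟩ := Nat.exists_eq_succ_of_ne_zero hpos.ne'
    rw [hk, pow_succ]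
    exact Nat.mul_le_mul_right _ Nat.lt_two_pow_self
  refine ⟨insert x R, fun y hy => ?_, ?_⟩
  · by_cases hyO : y ∈ orbit A x
    · exact ⟨x, Set.mem_insert _ _, hyO⟩
    · obtain ⟨r, hr, h⟩ := hR y ⟨hy, hyO⟩
      exact ⟨r, Set.mem_insert_of_mem _ hr, h⟩
  · calc _ ≤ ((fixingSubgroup A (T \ orbit A x)).index * (orbit A x).ncard) *
          2 ^ (R.ncard + 1) :=
          Nat.mul_le_mul h4 (Nat.pow_le_pow_right (by norm_num) (Set.ncard_insert_le _ _))
      _ = ((fixingSubgroup A (T \ orbit A x)).index * 2 ^ R.ncard) * ((orbit A x).ncard * 2) := by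
          ring
      _ ≤ 2 ^ (T \ orbit A x).ncard * 2 ^ (orbit A x).ncard := Nat.mul_le_mul h1 h5
      _ = _ := by rw [← pow_add, hc', hn]

end act

theorem card_le_four (U : Subgroup D) (h : ∀ x ∈ U, x * x = 1) : Nat.card U ≤ 4 := by
  have h1 := U.card_mul_index
  rw [DihedralGroup.nat_card] at h1
  have h2 : U.index ≠ 1 := by
    rw [Ne, index_eq_one]
    rintro rfl
    exact absurd (h (r 1) (mem_top _)) (by decide)
  have h3 : U.index ≠ 0 := index_ne_zero_of_finite
  have : 2 ≤ U.index := by omega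
  nlinarith

theorem card_le_pow (B : Subgroup (ι → D)) (h : ∀ x ∈ B, x * x = 1) (R : Set ι)
    (hR : ∀ x ∈ B, (∀ l ∈ R, x l = 1) → x = 1) : Nat.card B ≤ 4 ^ R.ncard := by
  let F : B → ∀ l : R, B.map (Pi.evalMonoidHom (fun _ => D) l.1) := fun x l =>
    ⟨x.1 l.1, x.1, x.2, rfl⟩
  have hF : Function.Injective F := by
    intro a b hab
    have := hR (a⁻¹ * b) (mul_mem (inv_mem a.2) b.2) fun l hl => by
      have := congrArg Subtype.val (congrFun hab ⟨l, hl⟩)
      simp only [F] at this
      simp [this]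
    exact Subtype.ext (inv_mul_eq_one.1 this)
  refine (Nat.card_le_card_of_injective F hF).trans ?_
  classical
  rw [Nat.card_pi, ← Nat.card_coe_set_eq, Nat.card_eq_fintype_card, ← Finset.card_univ]
  refine Finset.prod_le_pow_card _ _ _ fun l _ => card_le_four _ ?_
  rintro _ ⟨x, hx, rfl⟩
  exact congrFun (h x hx) l.1

variable {G : Type*} [Group G] [Finite G]

section
variable (j : (ι → D) →* G) (hj : Function.Injective j)

/-- the action of the normalizer -/
noncomputable def Gam : normalizer (j.range : Set G) →* MulAut (ι → D) :=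
  (MulAut.congr (MonoidHom.ofInjective hj).symm).toMonoidHom.comp j.range.normalizerMonoidHom

theorem Gam_spec (g : normalizer (j.range : Set G)) (d : ι → D) :
    j (Gam j hj g d) = g * j d * g⁻¹ := by
  simp only [Gam, MulEquiv.toMonoidHom_eq_coe, MonoidHom.comp_apply, MonoidHom.coe_coe,
    MulAut.congr_apply, MulEquiv.trans_apply, MonoidHom.apply_ofInjective_symm]
  rfl

theorem mem_norm_j (d : ι → D) : j d ∈ normalizer (j.range : Set G) :=
  le_normalizer ⟨d, rfl⟩

theorem Gam_j (d : ι → D) : Gam j hj ⟨j d, mem_norm_j j d⟩ = MulAut.conj d := by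
  ext1 c
  apply hj
  rw [Gam_spec, MulAut.conj_apply, map_mul, map_mul, map_inv]
  rfl

include hj in
theorem big_le (nc : ∀ g ∈ normalizer (j.range : Set G),
      (∀ l, g * j (Pi.mulSingle l zD) = j (Pi.mulSingle l zD) * g) → g ∈ j.range)
    (A : Subgroup G) (hA : A ≤ normalizer (j.range : Set G)) (h2 : ∀ x ∈ A, x * x = 1)
    (hc : 4 ^ Fintype.card ι ≤ Nat.card A) : A ≤ j.range := by
  letI : MulAction (MulAut (ι → D)) ι := sigAct
  letI : MulAction A ι := MulAction.compHom ι ((Gam j hj).comp (inclusion hA))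
  have hs : ∀ (a : A) (l : ι), a • l = sig (Gam j hj ⟨a.1, hA a.2⟩) l := fun _ _ => rfl
  have hcomm : ∀ x y : A, x * y = y * x := by
    have h : ∀ x : A, x⁻¹ = x := fun x => inv_eq_of_mul_eq_one_right (Subtype.ext (h2 x x.2))
    intro x y
    rw [← h (x * y), mul_inv_rev, h, h]
  obtain ⟨R, hR, h1⟩ := index_fix_rep hcomm (Set.univ : Set ι) (fun _ _ _ => trivial)
  set K := fixingSubgroup A (Set.univ : Set ι) with hK
  have hKJ : ∀ k ∈ K, k.1 ∈ j.range := by
    intro k hk
    refine nc _ (hA k.2) fun l => ?_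
    have h3 := (mem_fixingSubgroup_iff A).1 hk l trivial
    have h4 := Gam_spec j hj ⟨k.1, hA k.2⟩ (Pi.mulSingle l zD)
    rw [sig_spec, ← hs, h3] at h4
    exact mul_inv_eq_iff_eq_mul.1 h4.symm
  have h5 := card_le_pow (A.comap j) (fun x hx => hj (by rw [map_mul, map_one]; exact h2 _ hx)) R
    (fun x hx hl => by
      have hfix : ∀ a : A, Gam j hj ⟨a.1, hA a.2⟩ x = x := by
        intro a
        apply hj
        rw [Gam_spec]
        have := congrArg Subtype.val (hcomm a ⟨_, hx⟩)
        exact mul_inv_eq_iff_eq_mul.2 this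
      have hcen : ∀ k, cen (x k) := by
        intro k
        obtain ⟨l, hlR, a, rfl⟩ := hR k trivial
        have := cen_aut (Gam j hj ⟨a.1, hA a.2⟩) x l (by rw [hl l hlR]; exact cen_one)
        rwa [hfix] at this
      obtain ⟨I, rfl⟩ := exists_zI x hcen
      rw [← zI_empty]
      congr 1
      refine Finset.eq_empty_of_forall_notMem fun k hk => ?_
      obtain ⟨l, hlR, a, rfl⟩ := hR k trivial
      have h3 := hfix a
      rw [aut_zI] at h3
      rw [← zI_inj h3] at hk
      obtain ⟨l', hl', e⟩ := Finset.mem_image.1 hk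
      rw [sig_inj _ e] at hl'
      have := hl l hlR
      simp [zI, hl'] at this
      exact zD_ne this)
  have h6 : Nat.card K ≤ Nat.card (A.comap j) := by
    choose f hf using hKJ
    refine Nat.card_le_card_of_injective
      (fun k : K => (⟨f k.1 k.2, by rw [mem_comap, hf]; exact k.1.2⟩ : A.comap j)) fun a b h => ?_
    have := congrArg (fun x : A.comap j => j x.1) h
    simp only [hf] at this
    exact Subtype.ext (Subtype.ext this)
  have h7 : K.index = 1 := by
    rw [← K.card_mul_index] at hc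
    rw [Set.ncard_univ, Nat.card_eq_fintype_card] at h1
    have h8 : K.index ≠ 0 := index_ne_zero_of_finite
    by_contra h9
    have h10 : 2 ≤ K.index := by omega
    have e1 : (4 : ℕ) ^ Fintype.card ι = 2 ^ Fintype.card ι * 2 ^ Fintype.card ι := by
      rw [← mul_pow]; rfl
    have e2 : (4 : ℕ) ^ R.ncard = 2 ^ R.ncard * 2 ^ R.ncard := by rw [← mul_pow]; rfl
    rw [e1] at hc
    rw [e2] at h5
    have hp : 0 < 2 ^ R.ncard := by positivity
    generalize 2 ^ R.ncard = u at *
    generalize 2 ^ Fintype.card ι = v at *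
    generalize K.index = i at *
    have h11 : v * v ≤ u * u * i := hc.trans (Nat.mul_le_mul_right _ (h6.trans h5))
    have h12 : (i * u) * (i * u) ≤ v * v := Nat.mul_le_mul h1 h1
    have h13 : 0 < i * u * u := by positivity
    nlinarith
  intro a ha
  exact hKJ ⟨a, ha⟩ (by rw [index_eq_one.1 h7]; trivial)

include hj in
theorem w_top' (X : Subgroup G) (wc : ∀ A : Subgroup G, A ≤ X → (∀ x ∈ A, x * x = 1) →
      4 ^ Fintype.card ι ≤ Nat.card A → A ≤ j.range) (g : G) (h : ∀ d, g * j d * g⁻¹ ∈ X)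
    (d : ι → D) : g * j d * g⁻¹ ∈ j.range := by
  let f : (ι → D) →* G := (MulAut.conj g).toMonoidHom.comp j
  have hf : Function.Injective f := (MulAut.conj g).injective.comp hj
  have w1 : ∀ s : ι → D, (∀ l, ni (s l)) → ∀ d, d * s = s * d → f d ∈ j.range := by
    intro s hs d hd
    refine wc ((centralizer {s}).map f) ?_ ?_ ?_ ⟨d, mem_centralizer_singleton_iff.2 hd, rfl⟩
    · rintro _ ⟨c, hc, rfl⟩
      exact h c
    · rintro _ ⟨c, hc, rfl⟩
      rw [← map_mul, ← map_one f]
      congr 1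
      funext l
      exact sq_of_ni _ _ (hs l) (congrFun (mem_centralizer_singleton_iff.1 hc) l)
    · rw [card_map_of_injective hf, card_cent_pi s hs]
  choose u v hu hv huv using dec01
  have h1 := w1 (fun _ => e0) (fun _ => ni0) (fun l => u (d l)) (funext fun l => hu _)
  have h2 := w1 (fun _ => e1) (fun _ => ni1) (fun l => v (d l)) (funext fun l => hv _)
  have h3 := mul_mem h1 h2
  rw [← map_mul] at h3
  have : d = (fun l => u (d l)) * fun l => v (d l) := funext fun l => huv _
  rw [this]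
  exact h3

include hj in
theorem exists_dat_of_nc (nc : ∀ g ∈ normalizer (j.range : Set G),
      (∀ l, g * j (Pi.mulSingle l zD) = j (Pi.mulSingle l zD) * g) → g ∈ j.range) :
    ∃ K : Dat G ι, K.j = j := by
  have hp : IsPGroup 2 (ι → D) := IsPGroup.of_card (n := 3 * Fintype.card ι) (by
    rw [Nat.card_fun, DihedralGroup.nat_card, Nat.card_eq_fintype_card, pow_mul]; norm_num)
  obtain ⟨S, hS⟩ := ((hp.to_subgroup ⊤).map j).exists_le_sylow
  have hS' : ∀ d, j d ∈ (S : Subgroup G) := fun d => hS ⟨d, mem_top _, rfl⟩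
  have hN : (S : Subgroup G) ≤ normalizer (j.range : Set G) := by
    haveI : Group.IsNilpotent (S : Subgroup G) := S.isPGroup'.isNilpotent
    have h1 := (normalizerCondition_iff_only_full_group_self_normalizing.1
      (Group.normalizerCondition_of_isNilpotent (G := (S : Subgroup G))))
      ((normalizer (j.range : Set G)).subgroupOf S) (le_antisymm (fun g hg => ?_) le_normalizer)
    · exact subgroupOf_eq_top.1 h1
    · rw [mem_subgroupOf]
      refine mem_normalizer_fintype ?_
      rintro _ ⟨d, rfl⟩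
      refine w_top' j hj _ (big_le j hj nc) g.1 (fun d => ?_) d
      exact (mem_normalizer_iff.1 hg ⟨j d, hS' d⟩).1 (mem_norm_j j d)
  refine ⟨⟨j, hj, S, hS', fun A hA => big_le j hj nc A (hA.trans hN),
    chi0.comp ((Gam j hj).comp (inclusion hN)), fun d => ?_⟩, rfl⟩
  rw [← chi0_conj, ← Gam_j j hj]
  rfl

end

theorem Dat.le_norm (K : Dat G ι) {T : Subgroup G} (hT : IsPGroup 2 T) (h : ∀ d, K.j d ∈ T) :
    T ≤ normalizer (K.j.range : Set G) := by
  obtain ⟨S', hS'⟩ := hT.exists_le_sylow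
  obtain ⟨g, hg⟩ := MulAction.exists_smul_eq G S' K.S
  have key : ∀ x ∈ T, g * x * g⁻¹ ∈ (K.S : Subgroup G) := by
    intro x hx
    rw [← hg]
    exact ⟨x, hS' hx, rfl⟩
  intro x hx
  have a1 := K.mem_norm (K.w_top g fun d => key _ (h d))
  have a2 := K.mem_norm (K.w_top (g * x) fun d => by
    have := key _ (mul_mem (mul_mem hx (h d)) (inv_mem hx))
    convert this using 1
    group)
  simpa using mul_mem (inv_mem a1) a2

end H24.Ko
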