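import Mathlib
import Cfsg.Agent.Lib.Kondo.A1

/-! Weights of involutions and transvections. -/

set_option autoImplicit false
set_option linter.unusedSectionVars false

namespace H24.Ko

open DihedralGroup Subgroup

variable {G : Type*} [Group G] [Finite G] {ι : Type} [Fintype ι] [DecidableEq ι]

/-- the central involution of one factor -/
abbrev zl (l : ι) : ι → D := Pi.mulSingle l zD

theorem zl_comm (l : ι) (c : ι → D) : c * zl l = zl l * c :=
  (single_comm_iff l zD c).2 (cen_comm _ _ cen_zD).symm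

theorem zl_sq (l : ι) : zl l * zl l = 1 := by rw [← Pi.mulSingle_mul, zD_sq]; simp

theorem zl_eq (l : ι) : zl l = zI {l} := by
  funext k
  by_cases h : k = l
  · subst h; simp [zI]
  · simp [zI, h]

theorem zI_erase {I : Finset ι} {l : ι} (h : l ∈ I) : zI I = zl l * zI (I.erase l) := by
  rw [← zI_insert _ _ (Finset.notMem_erase l I), Finset.insert_erase h]

theorem zI_mul (I I' : Finset ι) : zI I * zI I' = zI (symmDiff I I') := by
  funext k
  by_cases h : k ∈ I <;> by_cases h' : k ∈ I' <;> simp [zI, h, h', Finset.mem_symmDiff, zD_sq]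

theorem conj_or : ∀ f d : D, f * d * f⁻¹ = d ∨ f * d * f⁻¹ = d * zD := by decide
theorem cen_inv_mul : ∀ e d : D, ni e → d * e = e * d → ¬ cen d → cen (e⁻¹ * d) := by decide
theorem cen_inv : ∀ d : D, cen d → cen d⁻¹ := by decide
theorem third_comm : ∀ a b c : D, ni a → ni b → ni c → a * b ≠ b * a → c * b ≠ b * c →
    a * c = c * a := by decide
theorem ni_mul_cen : ∀ a b : D, ni a → cen b → ni (a * b) := by decide
theorem comm_mul_z : ∀ a b : D, a * (b * zD) = b * zD * a ↔ a * b = b * a := by decide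

theorem conj_single_nc (d : ι → D) (l : ι) {f : D} (hf : f * d l ≠ d l * f) :
    Pi.mulSingle l f * d * (Pi.mulSingle l f)⁻¹ = d * zl l := by
  funext k
  by_cases hk : k = l
  · subst hk; simpa using conj_nc _ _ hf
  · simp [hk]

theorem conj_single_cen (d : ι → D) (l : ι) (f : D) (h : cen (d l)) :
    Pi.mulSingle l f * d * (Pi.mulSingle l f)⁻¹ = d := by
  rw [← (single_comm_iff l f d).2 (cen_comm _ _ h)]; simp

theorem Yl_flip (l : ι) (e : D) : Yl l (e * zD) = Yl l e := by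
  ext d; rw [mem_Yl, mem_Yl, comm_mul_z]

namespace Dat

variable (K : Dat G ι)

open Classical in
/-- the weight of an involution -/
noncomputable def wt (x : G) : ℕ :=
  if h : ∃ I : Finset ι, IsConj (K.j (zI I)) x then h.choose.card else 0

theorem wt_of {I : Finset ι} {x : G} (h : IsConj (K.j (zI I)) x) : K.wt x = I.card := by
  have h1 : ∃ I : Finset ι, IsConj (K.j (zI I)) x := ⟨I, h⟩
  rw [wt, dif_pos h1]
  obtain ⟨g, hg⟩ := isConj_iff.1 (h1.choose_spec.trans h.symm)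
  exact K.card_eq_of_conj g hg

theorem wt_zI (I : Finset ι) : K.wt (K.j (zI I)) = I.card := K.wt_of (IsConj.refl _)

theorem wt_zl (l : ι) : K.wt (K.j (zl l)) = 1 := by rw [zl_eq, wt_zI]; simp

theorem wt_one : K.wt 1 = 0 := by
  have := K.wt_zI ∅
  rwa [zI_empty, map_one] at this

theorem wt_isConj {x y : G} (h : IsConj x y) : K.wt x = K.wt y := by
  by_cases h1 : ∃ I : Finset ι, IsConj (K.j (zI I)) x
  · obtain ⟨I, hI⟩ := h1
    rw [K.wt_of hI, K.wt_of (hI.trans h)]
  · rw [wt, wt, dif_neg h1, dif_neg fun ⟨I, hI⟩ => h1 ⟨I, hI.trans h.symm⟩]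

theorem wt_conj (g x : G) : K.wt (g * x * g⁻¹) = K.wt x :=
  (K.wt_isConj (isConj_iff.2 ⟨g, rfl⟩)).symm

theorem wt_eq {g x y : G} (h : g * x * g⁻¹ = y) : K.wt x = K.wt y := by rw [← h, wt_conj]

theorem wt_flip (d : ι → D) (l : ι) (h : ¬ cen (d l)) :
    K.wt (K.j (d * zl l)) = K.wt (K.j d) := by
  obtain ⟨f, hf⟩ := exists_nc _ h
  rw [← conj_single_nc d l hf, map_mul, map_mul, map_inv, wt_conj]

theorem wt_erase (d : ι → D) (l : ι) (h : ¬ cen (d l)) (I : Finset ι) :
    K.wt (K.j (d * zI I)) = K.wt (K.j (d * zI (I.erase l))) := by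
  by_cases hl : l ∈ I
  · rw [zI_erase hl, ← zl_comm, ← mul_assoc, wt_flip]
    simpa [zI] using h
  · rw [Finset.erase_eq_of_notMem hl]

/-- `u` induces a transvection with centre `w` -/
structure Tv (l : ι) (w : ι → D) (u : G) : Prop where
  ni : ni (w l)
  cen : ∀ k, k ≠ l → cen (w k)
  act : ∀ y ∈ Yl l (w l), u * K.j y * u⁻¹ = K.j y ∨ u * K.j y * u⁻¹ = K.j (y * w)
  z : u * K.j (zl l) * u⁻¹ = K.j (zl l * w)
  fix : u * K.j w * u⁻¹ = K.j w

variable {K}

theorem conj_mul (u : G) (a b : ι → D) :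
    u * K.j (a * b) * u⁻¹ = (u * K.j a * u⁻¹) * (u * K.j b * u⁻¹) := by
  rw [map_mul]; group

theorem sq_of {l : ι} {w : ι → D} (h1 : ni (w l)) (h2 : ∀ k, k ≠ l → cen (w k)) : w * w = 1 := by
  funext k
  by_cases hk : k = l
  · subst hk; exact h1.1
  · rcases h2 k hk with h | h <;> simp [h, zD_sq]

theorem comm_of {l : ι} {w : ι → D} (h2 : ∀ k, k ≠ l → cen (w k)) {y : ι → D}
    (hy : y ∈ Yl l (w l)) : y * w = w * y := by
  funext k
  by_cases hk : k = l
  · subst hk; exact mem_Yl.1 hy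
  · exact (cen_comm _ _ (h2 k hk)).symm

theorem fix_zI {l : ι} {w : ι → D} {u : G} (h1 : ni (w l)) (h2 : ∀ k, k ≠ l → cen (w k))
    (act : ∀ y ∈ Yl l (w l), u * K.j y * u⁻¹ = K.j y ∨ u * K.j y * u⁻¹ = K.j (y * w))
    (I : Finset ι) (hl : l ∉ I) : u * K.j (zI I) * u⁻¹ = K.j (zI I) := by
  let ψ : ι → D := fun k => if k ∈ I then r 1 else 1
  have hψ : ψ ∈ Yl l (w l) := by rw [mem_Yl]; simp [ψ, hl]
  have e : zI I = ψ * ψ := by
    funext k
    by_cases hk : k ∈ I
    · simp only [zI, hk, if_true, Pi.mul_apply, ψ]; exact r1_sq.symm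
    · simp [zI, ψ, hk]
  rw [e, conj_mul]
  rcases act ψ hψ with h | h
  · rw [h, map_mul]
  · rw [h, ← map_mul, mul_assoc, ← mul_assoc w, ← comm_of h2 hψ, mul_assoc ψ w, sq_of h1 h2,
      mul_one]

namespace Tv

variable {l l' : ι} {w w' : ι → D} {u u' : G}

theorem sq (T : K.Tv l w u) : w * w = 1 := sq_of T.ni T.cen

theorem comm (T : K.Tv l w u) {y : ι → D} (hy : y ∈ Yl l (w l)) : y * w = w * y :=
  comm_of T.cen hy

theorem fz (T : K.Tv l w u) (I : Finset ι) (hl : l ∉ I) :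
    u * K.j (zI I) * u⁻¹ = K.j (zI I) := fix_zI T.ni T.cen T.act I hl

theorem fzl (T : K.Tv l w u) {k : ι} (hk : k ≠ l) : u * K.j (zl k) * u⁻¹ = K.j (zl k) := by
  rw [zl_eq]; exact T.fz _ (by simpa using hk.symm)

theorem flip (T : K.Tv l w u) : ∃ u', K.Tv l (w * zl l) u' := by
  obtain ⟨f, hf⟩ := exists_nc _ T.ni.2
  have hw := conj_single_nc w l hf
  have e1 : (w * zl l) l = w l * zD := by simp
  have key : ∀ y, K.j (Pi.mulSingle l f) * u * (K.j (Pi.mulSingle l f))⁻¹ *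
      K.j (Pi.mulSingle l f * y * (Pi.mulSingle l f)⁻¹) *
      (K.j (Pi.mulSingle l f) * u * (K.j (Pi.mulSingle l f))⁻¹)⁻¹ =
      K.j (Pi.mulSingle l f) * (u * K.j y * u⁻¹) * (K.j (Pi.mulSingle l f))⁻¹ := by
    intro y
    simp only [map_mul, map_inv]
    group
  refine ⟨K.j (Pi.mulSingle l f) * u * (K.j (Pi.mulSingle l f))⁻¹, ?_, fun k hk => ?_,
    fun y hy => ?_, ?_, ?_⟩
  · rw [e1]; exact ni_mul_cen _ _ T.ni cen_zD
  · simpa [hk] using T.cen k hk
  · rw [e1, Yl_flip] at hy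
    have hn : (Yl l (w l)).Normal := normal_of_index_eq_two (index_Yl l _ T.ni)
    have hy' := hn.conj_mem' y hy (Pi.mulSingle l f)
    have e2 : y = Pi.mulSingle l f * ((Pi.mulSingle l f)⁻¹ * y * Pi.mulSingle l f) *
        (Pi.mulSingle l f)⁻¹ := by group
    rcases T.act _ hy' with h | h
    · left
      conv_lhs => rw [e2]
      rw [key, h, ← map_inv, ← map_mul, ← map_mul, ← e2]
    · right
      conv_lhs => rw [e2]
      rw [key, h, ← map_inv, ← map_mul, ← map_mul, ← hw]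
      congr 1
      group
  · have e2 : zl l = Pi.mulSingle l f * zl l * (Pi.mulSingle l f)⁻¹ := by
      rw [zl_comm]; group
    conv_lhs => rw [e2]
    rw [key, T.z, ← map_inv, ← map_mul, ← map_mul, ← hw, ← mul_assoc, zl_comm]
    congr 1
    group
  · rw [← hw, key, T.fix, ← map_inv, ← map_mul, ← map_mul]

theorem wt (T : K.Tv l w u) (I : Finset ι) : K.wt (K.j (w * zI I)) = 1 + (I.erase l).card := by
  rw [K.wt_erase w l T.ni.2, ← K.wt_flip _ l (by simpa [zI] using T.ni.2)]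
  have h : u * K.j (zI (insert l (I.erase l))) * u⁻¹ = K.j (w * zI (I.erase l) * zl l) := by
    rw [zI_insert _ _ (Finset.notMem_erase l I), conj_mul, T.z, T.fz _ (Finset.notMem_erase l I),
      ← map_mul, zl_comm, mul_assoc]
  rw [← K.wt_eq h, wt_zI, Finset.card_insert_of_notMem (Finset.notMem_erase l I), add_comm]

theorem wt1 (T : K.Tv l w u) : K.wt (K.j w) = 1 := by
  simpa [zI_empty] using T.wt ∅

theorem uniq (T : K.Tv l w u) {d : ι → D} (hd : ∀ k, k ≠ l → H24.Ko.cen (d k))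
    (hl : d l * w l = w l * d l) (hn : ¬ H24.Ko.cen (d l)) (h1 : K.wt (K.j d) = 1) :
    d = w ∨ d = w * zl l := by
  obtain ⟨I, hI⟩ := exists_zI (w⁻¹ * d) fun k => by
    by_cases hk : k = l
    · subst hk; exact cen_inv_mul _ _ T.ni hl hn
    · exact cen_mul _ _ (cen_inv _ (T.cen k hk)) (hd k hk)
  have e : d = w * zI I := by rw [← hI]; group
  rw [e, T.wt] at h1
  have h2 : I.erase l = ∅ := Finset.card_eq_zero.1 (by omega)
  by_cases h : l ∈ I
  · right; rw [e, zI_erase h, h2, zI_empty, mul_one]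
  · left; rw [e, ← Finset.erase_eq_of_notMem h, h2, zI_empty, mul_one]

theorem mem (T' : K.Tv l' w' u') (hl : l ≠ l') (e : D) : w' ∈ Yl l e :=
  mem_Yl.2 (cen_comm _ _ (T'.cen l hl))

theorem two (T : K.Tv l w u) (T' : K.Tv l' w' u') (hl : l ≠ l') :
    (u * K.j w' * u⁻¹ = K.j (w' * w) ∧
      ∀ I, K.wt (K.j (w * w' * zI I)) = 1 + ((I.erase l).erase l').card) ∨
    (u * K.j w' * u⁻¹ = K.j w' ∧
      ∀ I, K.wt (K.j (w * w' * zI I)) = 2 + ((I.erase l).erase l').card) := by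
  have hn : ¬ H24.Ko.cen ((w * w') l) := (ni_mul_cen _ _ T.ni (T'.cen l hl)).2
  have hc := T.comm (T'.mem hl (w l))
  rcases T.act w' (T'.mem hl _) with h | h
  · refine Or.inr ⟨h, fun I => ?_⟩
    rw [K.wt_erase _ l hn, ← K.wt_flip _ l (by simpa [zI] using hn)]
    have h1 : u * K.j (w' * zI (insert l (I.erase l))) * u⁻¹ =
        K.j (w * w' * zI (I.erase l) * zl l) := by
      rw [zI_insert _ _ (Finset.notMem_erase l I), conj_mul, conj_mul, T.z, h,
        T.fz _ (Finset.notMem_erase l I), ← map_mul, ← map_mul, zl_comm _ (_ * _), ← hc,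
        ← mul_assoc, ← mul_assoc, zl_comm _ w']
      simp only [mul_assoc]
    rw [← K.wt_eq h1, T'.wt, Finset.erase_insert_of_ne hl,
      Finset.card_insert_of_notMem (by simp)]
    omega
  · refine Or.inl ⟨h, fun I => ?_⟩
    rw [K.wt_erase _ l hn]
    have h1 : u * K.j (w' * zI (I.erase l)) * u⁻¹ = K.j (w * w' * zI (I.erase l)) := by
      rw [conj_mul, h, T.fz _ (Finset.notMem_erase l I), ← map_mul, hc]
    rw [← K.wt_eq h1, T'.wt]

end Tv

/-- adjacency -/
def Adj (K : Dat G ι) (w w' : ι → D) : Prop := K.wt (K.j (w * w')) = 1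

namespace Tv

variable {l l' : ι} {w w' : ι → D} {u u' : G}

theorem adj (T : K.Tv l w u) (T' : K.Tv l' w' u') (hl : l ≠ l') (h : K.Adj w w') :
    u * K.j w' * u⁻¹ = K.j (w' * w) ∧
      ∀ I, K.wt (K.j (w * w' * zI I)) = 1 + ((I.erase l).erase l').card := by
  refine (T.two T' hl).resolve_right fun h1 => ?_
  have := h1.2 ∅
  rw [zI_empty, mul_one, h] at this
  omega

theorem nadj (T : K.Tv l w u) (T' : K.Tv l' w' u') (hl : l ≠ l') (h : ¬ K.Adj w w') :
    u * K.j w' * u⁻¹ = K.j w' ∧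
      ∀ I, K.wt (K.j (w * w' * zI I)) = 2 + ((I.erase l).erase l').card := by
  refine (T.two T' hl).resolve_left fun h1 => h ?_
  simpa [zI_empty, Adj] using h1.2 ∅

theorem adj_symm (T : K.Tv l w u) (T' : K.Tv l' w' u') (hl : l ≠ l') :
    K.Adj w w' ↔ K.Adj w' w := by
  rw [Adj, Adj, T.comm (T'.mem hl _)]

theorem adj_iff (T : K.Tv l w u) (T' : K.Tv l' w' u') (hl : l ≠ l') (I : Finset ι) :
    K.Adj w w' ↔ K.wt (K.j (w * w' * zI I)) = 1 + ((I.erase l).erase l').card := by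
  refine ⟨fun h => (T.adj T' hl h).2 I, fun h => ?_⟩
  by_contra h1
  have := (T.nadj T' hl h1).2 I
  omega

end Tv

variable (K)

theorem exists_tv (hG : ∀ N : Subgroup G, N.index ≠ 2) (l : ι) (e : D) (he : ni e) :
    ∃ w u, K.Tv l w u ∧ w l = e := by
  obtain ⟨g, β, hβ, hs, hm, hc⟩ := K.exists_aut hG l e he
  have hz := z_noncen l _ he β hβ hm (hc l)
  have hsu : ∀ y ∈ Yl l e, ∃ y1, β y1 = y := fun y hy => by
    have hs : Function.Surjective (β.codRestrict _ hm) :=
      Finite.surjective_of_injective fun a b h => hβ (congrArg Subtype.val h)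
    obtain ⟨y1, h⟩ := hs ⟨y, hy⟩
    exact ⟨y1, congrArg Subtype.val h⟩
  set z1 : Yl l e := ⟨_, single_mem_Yl l e (cen_comm _ _ cen_zD)⟩ with hz1
  set w := β z1 with hw
  have hwY := mem_Yl.1 (hm z1)
  have hwl : w l = e ∨ w l = e * zD := by
    rcases four_of_ni e _ he hwY with h | h | h | h
    · exact absurd (Or.inl h) hz
    · exact absurd (Or.inr h) hz
    · exact Or.inl h
    · exact Or.inr h
  have hY : Yl l (w l) = Yl l e := by
    rcases hwl with h | h
    · rw [h]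
    · rw [h, Yl_flip]
  have hni : ni (w l) := ⟨sq_of_ni e _ he hwY, hz⟩
  have hcen : ∀ k, k ≠ l → cen (w k) := by
    intro k hk
    by_contra h
    obtain ⟨f, hf⟩ := exists_nc _ h
    obtain ⟨y1, hy1⟩ := hsu _ (single_mem_Yl' e f hk)
    have h1 : y1 * z1 = z1 * y1 := Subtype.ext (zl_comm l _)
    have h2 := congrArg β h1
    rw [map_mul, map_mul, hy1] at h2
    exact hf (by simpa using congrFun h2 k)
  obtain ⟨f, hf⟩ := exists_nc e he.2
  have key : ∀ y : Yl l e, g * K.j (Pi.mulSingle l f) * g⁻¹ * K.j (β y) *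
      (g * K.j (Pi.mulSingle l f) * g⁻¹)⁻¹ =
      g * K.j (Pi.mulSingle l f * y.1 * (Pi.mulSingle l f)⁻¹) * g⁻¹ := by
    intro y
    rw [hs]
    simp only [map_mul, map_inv]
    group
  have key2 : ∀ y : Yl l e, g * K.j (y.1 * zl l) * g⁻¹ = K.j (β y * w) := by
    intro y
    rw [hw, ← map_mul, hs]
    rfl
  have hact : ∀ y ∈ Yl l (w l), g * K.j (Pi.mulSingle l f) * g⁻¹ * K.j y *
      (g * K.j (Pi.mulSingle l f) * g⁻¹)⁻¹ = K.j y ∨ g * K.j (Pi.mulSingle l f) * g⁻¹ * K.j y *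
      (g * K.j (Pi.mulSingle l f) * g⁻¹)⁻¹ = K.j (y * w) := by
    intro y hy
    obtain ⟨y, rfl⟩ := hsu y (hY ▸ hy)
    rw [key]
    by_cases h : f * y.1 l = y.1 l * f
    · left
      rw [← (single_comm_iff l f y.1).2 h.symm, hs]; simp
    · right
      rw [conj_single_nc _ _ h, key2]
  have T : K.Tv l w (g * K.j (Pi.mulSingle l f) * g⁻¹) := by
    refine ⟨hni, hcen, hact, ?_, ?_⟩
    · obtain ⟨I, hI⟩ := exists_zI _ hc
      have h1 := key ⟨_, single_mem_Yl l e rfl⟩
      rw [conj_single_nc _ _ (by simpa using hf), key2 ⟨_, single_mem_Yl l e rfl⟩, hI] at h1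
      by_cases hl : l ∈ I
      · rw [zI_erase hl, conj_mul, fix_zI hni hcen hact _ (Finset.notMem_erase l I), mul_assoc (zl l),
          zI_comm, ← mul_assoc (zl l), map_mul K.j (_ * _)] at h1
        exact mul_right_cancel h1
      · rw [fix_zI hni hcen hact _ hl] at h1
        have h2 : w = 1 := by simpa using K.inj h1
        exact absurd (Or.inl (by rw [h2]; rfl)) hz
    · rw [hw, key, hs]
      congr 3
      rw [zl_comm]; simp [hz1]
  rcases hwl with h | h
  · exact ⟨_, _, T, h⟩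
  · obtain ⟨u', T'⟩ := T.flip
    exact ⟨_, _, T', by simp [h, mul_assoc, zD_sq]⟩

end Dat

end H24.Ko
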