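import Mathlib
import Cfsg.Agent.Lib.Kondo.B1

/-! Adjacent transvections generate a symmetric group of degree five. -/

set_option autoImplicit false
set_option linter.unusedSectionVars false
set_option linter.unusedVariables false
set_option linter.unusedSimpArgs false

namespace H24.Ko

open DihedralGroup Subgroup

theorem s5 {G : Type*} [Group G] (a b c d : G) (U U' F F' : G →* G)
    (ab : b * a = a * b) (ac : c * a = a * c) (ad : d * a = a * d) (bc : c * b = b * c)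
    (bd : d * b = b * d) (cd : d * c = c * d) (aa : a * a = 1) (bb : b * b = 1) (cc : c * c = 1)
    (dd : d * d = 1)
    (Ua : U a = a * b) (Ub : U b = b) (Uc : U c = c) (Ud : U d = d * b)
    (Va : U' a = a) (Vb : U' b = b * d) (Vc : U' c = c * d) (Vd : U' d = d)
    (Fa : F a = a) (Fb : F b = b * a) (Fc : F c = c) (Fd : F d = d)
    (Ga : F' a = a) (Gb : F' b = b) (Gc : F' c = c) (Gd : F' d = d * c) :
    U (U' (U a)) = a * b * d ∧ U (U' (U (a * c))) = a * c ∧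
      U (U' (U (F' (F (U (U' (U a))))))) = c ∧ U (U' (U (F' (F (U (U' (U c))))))) = a := by
  have l : ∀ {x y : G}, y * x = x * y → ∀ z, y * (x * z) = x * (y * z) := fun h z => by
    rw [← mul_assoc, h, mul_assoc]
  have s : ∀ {x : G}, x * x = 1 → ∀ z, x * (x * z) = z := fun h z => by
    rw [← mul_assoc, h, one_mul]
  simp only [map_mul, Ua, Ub, Uc, Ud, Va, Vb, Vc, Vd, Fa, Fb, Fc, Fd, Ga, Gb, Gc, Gd, mul_assoc,
    ab, ac, ad, bc, bd, cd, aa, bb, cc, dd, l ab, l ac, l ad, l bc, l bd, l cd, s aa, s bb, s cc,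
    s dd, mul_one, and_self]

variable {G : Type*} [Group G] [Finite G] {ι : Type} [Fintype ι] [DecidableEq ι]

namespace Dat

variable {K : Dat G ι} {l l' : ι} {w w' wb wb' : ι → D} {u u' ub ub' : G}

theorem Tv.s5 (T : K.Tv l w u) (T' : K.Tv l' w' u') (hl : l ≠ l') (h : K.Adj w w') :
    ∃ f f' : D, ∀ g1 h : G, g1 = u * u' * u →
      h = g1 * K.j (Pi.mulSingle l' f') * K.j (Pi.mulSingle l f) * g1 →
      g1 * K.j (zl l) * g1⁻¹ = K.j (zl l * w * w') ∧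
      g1 * K.j (zl l * zl l') * g1⁻¹ = K.j (zl l * zl l') ∧
      h * K.j (zl l) * h⁻¹ = K.j (zl l') ∧ h * K.j (zl l') * h⁻¹ = K.j (zl l) := by
  obtain ⟨f, hf⟩ := exists_nc _ T.ni.2
  obtain ⟨f', hf'⟩ := exists_nc _ T'.ni.2
  refine ⟨f, f', ?_⟩
  rintro _ _ rfl rfl
  have cj : ∀ a b : ι → D, (MulAut.conj (K.j a)).toMonoidHom (K.j b) = K.j (a * b * a⁻¹) := by
    intro a b; simp
  have zc : ∀ k k' : ι, H24.Ko.cen (zl k k') := fun k k' => by rw [zl_eq]; exact zI_cen _ _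
  have := H24.Ko.s5 (K.j (zl l)) (K.j w) (K.j (zl l')) (K.j w') (MulAut.conj u).toMonoidHom
    (MulAut.conj u').toMonoidHom (MulAut.conj (K.j (Pi.mulSingle l f))).toMonoidHom
    (MulAut.conj (K.j (Pi.mulSingle l' f'))).toMonoidHom
    (by rw [← map_mul, ← map_mul, zl_comm]) (by rw [← map_mul, ← map_mul, zl_comm])
    (by rw [← map_mul, ← map_mul, zl_comm]) (by rw [← map_mul, ← map_mul, zl_comm])
    (by rw [← map_mul, ← map_mul, T.comm (T'.mem hl _)]) (by rw [← map_mul, ← map_mul, zl_comm])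
    (by rw [← map_mul, zl_sq, map_one]) (by rw [← map_mul, T.sq, map_one])
    (by rw [← map_mul, zl_sq, map_one]) (by rw [← map_mul, T'.sq, map_one])
    (by rw [← map_mul]; exact T.z) T.fix (T.fzl hl.symm)
    (by rw [← map_mul]; exact (T.adj T' hl h).1)
    (T'.fzl hl) (by rw [← map_mul]; exact (T'.adj T hl.symm ((T.adj_symm T' hl).1 h)).1)
    (by rw [← map_mul]; exact T'.z) T'.fix
    (by rw [cj, conj_single_cen _ _ _ (zc _ _)]) (by rw [cj, conj_single_nc _ _ hf, map_mul])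
    (by rw [cj, conj_single_cen _ _ _ (zc _ _)]) (by rw [cj, conj_single_cen _ _ _ (T'.cen l hl)])
    (by rw [cj, conj_single_cen _ _ _ (zc _ _)])
    (by rw [cj, conj_single_cen _ _ _ (T.cen l' hl.symm)])
    (by rw [cj, conj_single_cen _ _ _ (zc _ _)]) (by rw [cj, conj_single_nc _ _ hf', map_mul])
  simp only [MulEquiv.toMonoidHom_eq_coe, MonoidHom.coe_coe, MulAut.conj_apply] at this
  obtain ⟨h1, h2, h3, h4⟩ := this
  refine ⟨?_, ?_, ?_, ?_⟩
  · rw [map_mul, map_mul, ← h1]; group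
  · rw [map_mul, ← h2]; conv_lhs => rw [h2]
    group
  · rw [← h3]; group
  · rw [← h4]; group

theorem Tv.move (T : K.Tv l w u) (T' : K.Tv l' w' u') (hl : l ≠ l') (h : K.Adj w w')
    (I : Finset ι) (h1 : l ∈ I) (h2 : l' ∈ I) :
    ∃ g : G, g * K.j (zI I) * g⁻¹ = K.j (zI I) ∧ g * K.j (zl l) * g⁻¹ = K.j (zl l * w * w') := by
  obtain ⟨f, f', H⟩ := T.s5 T' hl h
  obtain ⟨e1, e2, -⟩ := H _ _ rfl rfl
  refine ⟨_, ?_, e1⟩
  have h3 : l' ∈ I.erase l := Finset.mem_erase.2 ⟨hl.symm, h2⟩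
  rw [zI_erase h1, zI_erase h3, ← mul_assoc (zl l), conj_mul, e2, map_mul K.j (_ * _)]
  congr 1
  have a1 := T.fz ((I.erase l).erase l') (by simp)
  have a2 := T'.fz ((I.erase l).erase l') (by simp)
  calc _ = u * (u' * (u * K.j (zI ((I.erase l).erase l')) * u⁻¹) * u'⁻¹) * u⁻¹ := by group
    _ = _ := by rw [a1, a2, a1]

theorem Tv.image (T : K.Tv l w u) (T' : K.Tv l' w' u') {g : G} {γ : MulAut (ι → D)}
    (hγ : ∀ d, K.j (γ d) = g * K.j d * g⁻¹) (hs : sig γ l = l')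
    (h : γ w l' * w' l' = w' l' * γ w l') : γ w = w' ∨ γ w = w' * zl l' := by
  subst hs
  refine T'.uniq (aut_cen_other γ w l T.cen) h (by rw [cen_aut_iff]; exact T.ni.2) ?_
  rw [hγ, wt_conj, T.wt1]

theorem Tv.swap (T : K.Tv l w u) (T' : K.Tv l' w' u') (hl : l ≠ l') (h : K.Adj w w') :
    ∃ (g : G) (γ : MulAut (ι → D)), (∀ d, K.j (γ d) = g * K.j d * g⁻¹) ∧
      (∀ k, sig γ k = Equiv.swap l l' k) ∧ γ w = w' ∧ γ w' = w := by
  obtain ⟨f, f', H⟩ := T.s5 T' hl h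
  obtain ⟨-, -, e1, e2⟩ := H _ _ rfl rfl
  set h0 := u * u' * u * K.j (Pi.mulSingle l' f') * K.j (Pi.mulSingle l f) * (u * u' * u)
    with hh0
  let A0 := Yl l (w l) ⊓ Yl l' (w' l')
  have hw : w ∈ A0 := ⟨mem_Yl.2 rfl, T.mem hl.symm _⟩
  have hw' : w' ∈ A0 := ⟨T'.mem hl _, mem_Yl.2 rfl⟩
  have n1 : u ∈ normalizer (A0.map K.j : Set G) := mem_normalizer_fintype (by
    rintro _ ⟨y, hy, rfl⟩
    rcases T.act y hy.1 with h | h <;> rw [h]
    · exact ⟨y, hy, rfl⟩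
    · exact ⟨_, mul_mem hy hw, rfl⟩)
  have n2 : u' ∈ normalizer (A0.map K.j : Set G) := mem_normalizer_fintype (by
    rintro _ ⟨y, hy, rfl⟩
    rcases T'.act y hy.2 with h | h <;> rw [h]
    · exact ⟨y, hy, rfl⟩
    · exact ⟨_, mul_mem hy hw', rfl⟩)
  have n3 : ∀ d, K.j d ∈ normalizer (A0.map K.j : Set G) := fun d => mem_normalizer_fintype (by
    rintro _ ⟨y, hy, rfl⟩
    exact ⟨_, ⟨(normal_of_index_eq_two (index_Yl l _ T.ni)).conj_mem y hy.1 d,
      (normal_of_index_eq_two (index_Yl l' _ T'.ni)).conj_mem y hy.2 d⟩, by simp⟩)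
  have n4 : h0 ∈ normalizer (A0.map K.j : Set G) :=
    mul_mem (mul_mem (mul_mem (mul_mem (mul_mem n1 n2) n1) (n3 _)) (n3 _))
      (mul_mem (mul_mem n1 n2) n1)
  have e3 : ∀ k, h0 * K.j (zl k) * h0⁻¹ = K.j (zl (Equiv.swap l l' k)) := by
    intro k
    by_cases h1 : k = l
    · rw [h1, e1, Equiv.swap_apply_left]
    by_cases h2 : k = l'
    · rw [h2, e2, Equiv.swap_apply_right]
    rw [Equiv.swap_apply_of_ne_of_ne h1 h2]
    have a1 := mul_inv_eq_iff_eq_mul.1 (T.fzl h1)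
    have a2 := mul_inv_eq_iff_eq_mul.1 (T'.fzl h2)
    have a3 : ∀ d, K.j d * K.j (zl k) = K.j (zl k) * K.j d := fun d => by
      rw [← map_mul, ← map_mul, zl_comm]
    have : h0 ∈ centralizer {K.j (zl k)} := by
      rw [← mem_centralizer_singleton_iff] at a1 a2
      simp only [← mem_centralizer_singleton_iff] at a3
      exact mul_mem (mul_mem (mul_mem (mul_mem (mul_mem a1 a2) a1) (a3 _)) (a3 _))
        (mul_mem (mul_mem a1 a2) a1)
    rw [mem_centralizer_singleton_iff.1 this]; simp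
  obtain ⟨c, hc, hn⟩ := K.wcl (centralizer (Set.range fun k => K.j (zl k)) ⊓
      normalizer (A0.map K.j : Set G)) h0
    (fun d => ⟨by rintro _ ⟨k, rfl⟩; rw [← map_mul, ← map_mul, zl_comm], n3 d⟩)
    (fun d => ⟨by
      rintro _ ⟨k, rfl⟩
      have := e3 (Equiv.swap l l' k)
      rw [Equiv.swap_apply_self] at this
      simp only
      rw [← this, ← conj_mul, ← conj_mul, zl_comm], 
      Subgroup.mul_mem _ (Subgroup.mul_mem _ n4 (n3 d)) (Subgroup.inv_mem _ n4)⟩)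
  set γ := Gam K.j K.inj ⟨_, hn⟩ with hγ0
  have hγ : ∀ d, K.j (γ d) = c * h0 * K.j d * (c * h0)⁻¹ := Gam_spec K.j K.inj ⟨_, hn⟩
  have hs : ∀ k, sig γ k = Equiv.swap l l' k := by
    intro k
    refine sig_eq (K.inj ?_)
    have a1 : K.j (zl (Equiv.swap l l' k)) * c = c * _ := hc.1 _ ⟨_, rfl⟩
    rw [hγ]
    calc _ = c * (h0 * K.j (zl k) * h0⁻¹) * c⁻¹ := by group
      _ = _ := by rw [e3, ← a1]; group
  have hA : ∀ y ∈ A0, γ y ∈ A0 := by
    intro y hy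
    obtain ⟨y', hy', e⟩ := (mem_normalizer_iff.1 (mul_mem hc.2 n4) _).1
      (⟨y, hy, rfl⟩ : K.j y ∈ A0.map K.j)
    rw [← hγ] at e
    rw [← K.inj e]; exact hy'
  have i1 := T.image T' hγ (by rw [hs]; simp) (mem_Yl.1 (hA w hw).2)
  have i2 := T'.image T hγ (by rw [hs]; simp) (mem_Yl.1 (hA w' hw').1)
  have adj : ∀ {l l' : ι} {w w' : ι → D} {u u' : G}, K.Tv l w u → K.Tv l' w' u' → l ≠ l' →
      ∀ y, y = w ∨ y = w * zl l → ∃ a : ι → D, a * y * a⁻¹ = w ∧ a * w' * a⁻¹ = w' := by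
    intro l l' w w' u u' T T' hl y hy
    rcases hy with rfl | rfl
    · exact ⟨1, by simp, by simp⟩
    · obtain ⟨f, hf⟩ := exists_nc _ T.ni.2
      refine ⟨Pi.mulSingle l f, ?_, conj_single_cen _ _ _ (T'.cen l hl)⟩
      rw [conj_single_nc (w * zl l) l (by simpa [comm_mul_z] using hf), mul_assoc, zl_sq, mul_one]
  obtain ⟨a, ha1, ha2⟩ := adj T' T hl.symm _ i1
  have i3 : a * γ w' * a⁻¹ = w ∨ a * γ w' * a⁻¹ = w * zl l := by
    rcases i2 with h | h
    · left; rw [h, ha2]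
    · right
      rw [h, ← mul_assoc, mul_assoc _ (zl l), ← zl_comm, ← mul_assoc, ha2]
  obtain ⟨b, hb1, hb2⟩ := adj T T' hl _ i3
  refine ⟨K.j (b * a) * (c * h0), MulAut.conj (b * a) * γ, fun d => ?_, fun k => ?_, ?_, ?_⟩
  · rw [MulAut.mul_apply, MulAut.conj_apply, map_mul K.j _ (_)⁻¹, map_mul K.j (b * a), hγ, map_inv]
    group
  · rw [sig_mul, sig_conj, hs]
  · rw [MulAut.mul_apply, MulAut.conj_apply, ← hb2, ← ha1]; group
  · rw [MulAut.mul_apply, MulAut.conj_apply, ← hb1]; group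

theorem Tv.image' (T : K.Tv l w u) (Tb : K.Tv l wb ub) (hb : wb l * w l ≠ w l * wb l)
    (T' : K.Tv l' w' u') (Tb' : K.Tv l' wb' ub') (hb' : wb' l' * w' l' ≠ w' l' * wb' l')
    {g : G} {γ : MulAut (ι → D)} (hγ : ∀ d, K.j (γ d) = g * K.j d * g⁻¹) (hs : sig γ l = l')
    (h : γ w = w') : γ wb = wb' ∨ γ wb = wb' * zl l' := by
  refine Tb.image Tb' hγ hs (third_comm _ _ _ (hs ▸ aut_ni γ wb l Tb.sq Tb.ni.2) T'.ni Tb'.ni
    (fun e => hb ?_) hb')
  have : γ wb * γ w = γ w * γ wb := by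
    rw [h]
    exact comm_of T'.cen (mem_Yl.2 e)
  rw [← map_mul, ← map_mul] at this
  exact congrFun (γ.injective this) l

theorem Tv.adj_both (T : K.Tv l w u) (Tb : K.Tv l wb ub) (hb : wb l * w l ≠ w l * wb l)
    (T' : K.Tv l' w' u') (Tb' : K.Tv l' wb' ub') (hb' : wb' l' * w' l' ≠ w' l' * wb' l')
    (hl : l ≠ l') (h : K.Adj w w') (h' : K.Adj w wb') : K.Adj wb w' := by
  obtain ⟨g, γ, hγ, hs, e1, e2⟩ := T.swap T' hl h
  have i := T'.image' Tb' hb' T Tb hb hγ (by rw [hs]; simp) e2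
  have h1 : K.wt (K.j (γ (w * wb'))) = 1 := by rw [hγ, wt_conj]; exact h'
  rw [map_mul, e1] at h1
  rw [Tb.adj_symm T' hl]
  rcases i with i | i <;> rw [i] at h1
  · exact h1
  · rw [T'.adj_iff Tb hl.symm {l}, ← zl_eq, mul_assoc, h1]
    simp [Finset.erase_eq_of_notMem, hl.symm]

end Dat

end H24.Ko
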