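import Mathlib
import Cfsg.Agent.Lib.Kondo.K3

/-! Elementary abelian 2-subgroups of maximal rank in symmetric groups. -/

set_option autoImplicit false
set_option linter.unusedSectionVars false

namespace H24.Ko

open Subgroup Equiv MulAction

theorem sq_lt_two_pow {m : ℕ} (h : 5 ≤ m) : m ^ 2 < 2 ^ m := by
  induction m, h using Nat.le_induction with
  | base => norm_num
  | succ k hk ih => rw [pow_succ 2 k]; nlinarith

theorem sq_le_two_pow {m : ℕ} (h : m ≠ 3) : m ^ 2 ≤ 2 ^ m := by
  rcases le_or_gt 5 m with h5 | h5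
  · exact (sq_lt_two_pow h5).le
  · interval_cases m <;> simp_all

section act

variable {A α : Type*} [Group A] [Finite A] [MulAction A α] [Finite α]

theorem comm_of_sq (h2 : ∀ x : A, x * x = 1) (x y : A) : x * y = y * x := by
  have h : ∀ x : A, x⁻¹ = x := fun x => inv_eq_of_mul_eq_one_right (h2 x)
  rw [← h (x * y), mul_inv_rev, h, h]

theorem orb_ne_three (h2 : ∀ x : A, x * x = 1) (x : α) : (orbit A x).ncard ≠ 3 := by
  have hp : IsPGroup 2 A := fun g => ⟨1, by simp [sq, h2]⟩
  obtain ⟨k, hk⟩ := hp.index (stabilizer A x)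
  rw [← index_stabilizer, hk]
  intro h
  rcases k with _ | k
  · simp at h
  · rw [pow_succ] at h; omega

theorem index_fix (h2 : ∀ x : A, x * x = 1) (T : Set α) (hT : ∀ (g : A), ∀ x ∈ T, g • x ∈ T) :
    (fixingSubgroup A T).index ^ 2 ≤ 2 ^ T.ncard := by
  induction hn : T.ncard using Nat.strong_induction_on generalizing T with
  | _ m ih =>
  rcases T.eq_empty_or_nonempty with rfl | ⟨x, hx⟩
  · have : fixingSubgroup A (∅ : Set α) = ⊤ := by
      rw [eq_top_iff]; intro g _; rw [mem_fixingSubgroup_iff]; simp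
    rw [this, index_top]
    simpa using Nat.one_le_two_pow
  have hO : orbit A x ⊆ T := by rintro _ ⟨g, rfl⟩; exact hT g x hx
  have hc := Set.ncard_sdiff_add_ncard_of_subset hO
  have hpos : 0 < (orbit A x).ncard := (Set.ncard_pos).2 ⟨x, mem_orbit_self x⟩
  have h1 := ih _ (by omega) (T \ orbit A x) (fun g y hy => ⟨hT g y hy.1, fun h => hy.2 (by
    have := mem_orbit_of_mem_orbit g⁻¹ h
    simpa using this)⟩) rfl
  have h3 : fixingSubgroup A (T \ orbit A x) ⊓ stabilizer A x ≤ fixingSubgroup A T := by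
    rintro g ⟨hg1, hg2⟩
    rw [mem_fixingSubgroup_iff]
    intro y hy
    by_cases hyO : y ∈ orbit A x
    · obtain ⟨k, rfl⟩ := hyO
      simp only
      rw [← mul_smul, comm_of_sq h2, mul_smul, mem_stabilizer_iff.1 hg2]
    · exact (mem_fixingSubgroup_iff A).1 hg1 y ⟨hy, hyO⟩
  have h4 := (index_antitone h3).trans index_inf_le
  rw [index_stabilizer] at h4
  have h5 := sq_le_two_pow (orb_ne_three h2 x)
  calc _ ≤ ((fixingSubgroup A (T \ orbit A x)).index * (orbit A x).ncard) ^ 2 :=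
        Nat.pow_le_pow_left h4 2
    _ ≤ 2 ^ (T \ orbit A x).ncard * 2 ^ (orbit A x).ncard := by
        rw [mul_pow]; exact Nat.mul_le_mul h1 h5
    _ = _ := by rw [← pow_add, hc, hn]

theorem max_rank [FaithfulSMul A α] (h2 : ∀ x : A, x * x = 1)
    (hc : 2 ^ Nat.card α ≤ Nat.card A ^ 2) (x : α) :
    (orbit A x).ncard ≤ 4 ∧
      ∀ y ∈ orbit A x, ∃ k : A, k • x = y ∧ ∀ w, w ∉ orbit A x → k • w = w := by
  set K := fixingSubgroup A (orbit A x)ᶜ with hK
  have h1 := index_fix h2 (orbit A x)ᶜ (fun g y hy h => hy (by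
    have := mem_orbit_of_mem_orbit g⁻¹ h
    simpa using this))
  let F : K → orbit A x := fun k => ⟨k.1 • x, mem_orbit _ _⟩
  have hF : Function.Injective F := by
    intro a b h
    have h3 : a.1 • x = b.1 • x := congrArg Subtype.val h
    refine Subtype.ext (eq_of_smul_eq_smul (α := α) fun w => ?_)
    by_cases hw : w ∈ orbit A x
    · obtain ⟨k, rfl⟩ := hw
      simp only
      rw [← mul_smul, comm_of_sq h2, mul_smul, h3, ← mul_smul, comm_of_sq h2, mul_smul]
    · rw [(mem_fixingSubgroup_iff A).1 a.2 w hw, (mem_fixingSubgroup_iff A).1 b.2 w hw]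
  have h3 := Nat.card_le_card_of_injective F hF
  rw [Nat.card_coe_set_eq] at h3
  have h4 : 2 ^ (orbit A x).ncard ≤ Nat.card K ^ 2 := by
    rw [← K.card_mul_index, ← Set.ncard_add_ncard_compl (orbit A x), pow_add, mul_pow] at hc
    exact Nat.le_of_mul_le_mul_right (hc.trans (Nat.mul_le_mul_left _ h1)) (by positivity)
  have h5 : (orbit A x).ncard ≤ 4 := by
    by_contra h
    have := sq_lt_two_pow (m := (orbit A x).ncard) (by omega)
    have := Nat.pow_le_pow_left h3 2
    omega
  have h6 : Nat.card K = (orbit A x).ncard := by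
    have h7 := orb_ne_three h2 x
    have hpos : 0 < (orbit A x).ncard := (Set.ncard_pos).2 ⟨x, mem_orbit_self x⟩
    generalize (orbit A x).ncard = m at *
    generalize Nat.card K = k at *
    interval_cases m <;> interval_cases k <;> simp_all
  have hs := ((Nat.bijective_iff_injective_and_card F).2 ⟨hF, h6⟩).2
  refine ⟨h5, fun y hy => ?_⟩
  obtain ⟨k, hk⟩ := hs ⟨y, hy⟩
  exact ⟨k.1, congrArg Subtype.val hk, fun w hw => (mem_fixingSubgroup_iff A).1 k.2 w hw⟩

end act

variable {ι : Type} [Fintype ι] [DecidableEq ι]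

theorem le_range_kap (S : Subgroup (BB ι)) (hS : IsPGroup 2 S) (hk : ∀ d, kap d ∈ S)
    (A : Subgroup (BB ι)) (hA : A ≤ S) (h2 : ∀ x ∈ A, x * x = 1)
    (hc : 4 ^ Fintype.card ι ≤ Nat.card A) : A ≤ (kap (ι := ι)).range := by
  intro b hb
  refine mem_range_kap b fun x => ?_
  by_contra hne
  have h2' : ∀ x : A, x * x = 1 := fun x => Subtype.ext (h2 x x.2)
  obtain ⟨h4, hk'⟩ := max_rank (A := A) (α := ι × Q) h2' (by
    have : Nat.card (ι × Q) = 4 * Fintype.card ι := by simp [mul_comm]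
    rw [this, pow_mul, show (2 : ℕ) ^ 4 = 4 ^ 2 by norm_num, ← pow_mul, mul_comm, pow_mul]
    exact Nat.pow_le_pow_left hc 2) x
  set y := b.1 x with hy
  have hyO : y ∈ orbit A x := ⟨⟨b, hb⟩, rfl⟩
  obtain ⟨k, hk1, hk2⟩ := hk' y hyO
  change k.1.1 x = y at hk1
  replace hk2 : ∀ w, w ∉ orbit A x → k.1.1 w = w := hk2
  have hky : k.1.1 y = x := by
    rw [← hk1, ← Perm.mul_apply, ← coe_mul, h2 _ k.2]; rfl
  have hyx : y ≠ x := fun h => hne (by rw [h])
  have hax : aa ι x ∈ orbit A x := by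
    by_contra h
    have := hk2 _ h
    rw [BB_comm, hk1, (aa ι).injective.eq_iff] at this
    exact hyx this
  have hay : aa ι y ∈ orbit A x := by
    by_contra h
    have := hk2 _ h
    rw [BB_comm, hky, (aa ι).injective.eq_iff] at this
    exact hyx this.symm
  have hfa : ∀ w : ι × Q, (aa ι w).1 = w.1 := fun w => rfl
  have hO : ({x, aa ι x, y, aa ι y} : Set (ι × Q)) = orbit A x := by
    refine Set.eq_of_subset_of_ncard_le ?_ (h4.trans_eq (Set.ncard_eq_four.2
      ⟨_, _, _, _, (aa_ne x).symm, hyx.symm, fun h => hne ?_, fun h => hne ?_, fun h => hne ?_,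
        (aa_ne y).symm, rfl⟩).symm)
    · rintro w (rfl | rfl | rfl | rfl)
      · exact mem_orbit_self _
      · exact hax
      · exact hyO
      · exact hay
    · rw [← hfa y, ← h]
    · rw [← h, hfa]
    · rw [← hfa y, ← h, hfa]
  have hb1 : bar k.1 = swap (pr x) (pr y) := by
    refine Perm.ext fun c => ?_
    by_cases h1 : c = pr x
    · rw [h1, bar_pr, hk1, swap_apply_left]
    by_cases h3 : c = pr y
    · rw [h3, bar_pr, hky, swap_apply_right]
    rw [swap_apply_of_ne_of_ne h1 h3, ← pr_sec c, bar_pr, hk2]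
    rw [← hO]
    rintro (h | h | h | h)
    · exact h1 (by rw [← h, pr_sec])
    · exact h1 (by rw [← pr_aa, ← h, pr_sec])
    · exact h3 (by rw [← h, pr_sec])
    · exact h3 (by rw [← pr_aa, ← h, pr_sec])
  have hb2 : bar (kap (Pi.mulSingle x.1 e1)) = swap (pr x) (x.1, !x.2.1) := by
    refine Perm.ext fun c => ?_
    rw [← pr_sec c, bar_pr, kap_apply]
    obtain ⟨l, u⟩ := c
    obtain ⟨l', u', x'⟩ := x
    by_cases hl : l = l'
    · subst hl
      cases u <;> cases u' <;> simp [pr, sec, act_e1]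
    · simp [pr, sec, hl, act_one, swap_apply_def]
  have h3 := Perm.isThreeCycle_swap_mul_swap_same (a := pr x) (b := pr y) (c := (x.1, !x.2.1))
    (fun h => hne (congrArg Prod.fst h).symm) (by simp [pr]) (fun h => hne (congrArg (fun c : ι × Bool => c.1) h))
  rw [← hb1, ← hb2, ← map_mul] at h3
  obtain ⟨m, hm⟩ := hS ⟨_, mul_mem (hA k.2) (hk (Pi.mulSingle x.1 e1))⟩
  have h5 : bar (k.1 * kap (Pi.mulSingle x.1 e1)) ^ 2 ^ m = 1 := by
    rw [← map_pow, ← map_one bar]
    congr 1
    exact congrArg Subtype.val hm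
  have h6 := orderOf_dvd_of_pow_eq_one h5
  rw [h3.orderOf] at h6
  have := (Nat.prime_three).dvd_of_dvd_pow h6
  omega

end H24.Ko
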