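import Mathlib
import Cfsg.Agent.Lib.Kondo.K2
import Cfsg.Agent.Lib.Kondo.K4

/-! The centralizer model inside alternating groups and the count of involution classes. -/

set_option autoImplicit false
set_option linter.unusedSectionVars false

namespace H24.Ko

open Subgroup Equiv

variable {G : Type*} [Group G] [Finite G] {ι : Type} [Fintype ι] [DecidableEq ι]

theorem exists_dat (f : BB ι →* G) (hf : Function.Injective f) (hi : ¬ 2 ∣ f.range.index) :
    ∃ K : Dat G ι, K.j = f.comp kap ∧ (K.S : Subgroup G) ≤ f.range := by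
  have hp : IsPGroup 2 (ι → D) := IsPGroup.of_card (n := 3 * Fintype.card ι) (by
    rw [Nat.card_fun, DihedralGroup.nat_card, Nat.card_eq_fintype_card, pow_mul]; norm_num)
  obtain ⟨T, hT⟩ := ((hp.to_subgroup ⊤).map kap).exists_le_sylow
  have hT' : ∀ d, kap d ∈ (T : Subgroup (BB ι)) := fun d => hT ⟨d, mem_top _, rfl⟩
  have hidx : ¬ 2 ∣ ((T : Subgroup (BB ι)).map f).index := by
    rw [index_map, (MonoidHom.ker_eq_bot_iff f).2 hf, sup_bot_eq]
    intro h
    rcases (Nat.prime_two.dvd_mul).1 h with h | h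
    · exact T.not_dvd_index h
    · exact hi h
  let S : Sylow 2 G := (T.isPGroup'.map f).toSylow hidx
  have hS : (S : Subgroup G) = (T : Subgroup (BB ι)).map f := rfl
  let e := (T : Subgroup (BB ι)).equivMapOfInjective f hf
  refine ⟨⟨f.comp kap, hf.comp kap_inj, S, fun d => ⟨_, hT' d, rfl⟩, fun A hA h2 hc => ?_,
    chi.comp ((T : Subgroup (BB ι)).subtype.comp e.symm.toMonoidHom), fun d => ?_⟩, rfl,
    map_le_range _ _⟩
  · have hAf : (A.comap f).map f = A := map_comap_eq_self (hA.trans (map_le_range _ _))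
    have h1 := le_range_kap (T : Subgroup (BB ι)) T.isPGroup' hT' (A.comap f)
      (fun x hx => by
        obtain ⟨y, hy, hxy⟩ := hA hx
        rw [← hf hxy]; exact hy)
      (fun x hx => hf (by rw [map_mul, map_one]; exact h2 _ hx))
      (by rw [← card_map_of_injective hf, hAf]; exact hc)
    rw [← hAf]
    rintro _ ⟨x, hx, rfl⟩
    obtain ⟨d, rfl⟩ := h1 hx
    exact ⟨d, rfl⟩
  · rw [← chi_kap]
    have : e.symm ⟨f (kap d), ⟨_, hT' d, rfl⟩⟩ = ⟨kap d, hT' d⟩ := by
      rw [MulEquiv.symm_apply_eq]; rfl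
    exact congrArg (fun x : (T : Subgroup (BB ι)) => chi x.1) this

theorem classes_of_emb {n : ℕ} (hG : ∀ N : Subgroup G, N.index ≠ 2) (f : BB (Fin n) →* G)
    (hf : Function.Injective f) (hi : ¬ 2 ∣ f.range.index) :
    Nat.card {c : ConjClasses G // ∃ x ∈ c.carrier, orderOf x = 2} = n := by
  obtain ⟨K, hj, hS⟩ := exists_dat f hf hi
  refine classes K hG (fun I I' h => ?_) fun x hx h2 => ?_
  · obtain ⟨b, hb⟩ := exists_blk I I' h
    exact ⟨f b, by rw [hj]; simp [← hb]⟩
  · obtain ⟨b, rfl⟩ := hS hx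
    obtain ⟨c, d, hd⟩ := conj_into b (hf (by rw [map_mul, h2, map_one]))
    exact ⟨f c, d, by rw [hj]; simp [hd]⟩

/-- a splitting of the sign -/
def sgnSec {β : Type} [DecidableEq β] (x y : β) : ℤˣ →* Perm β where
  toFun u := if u = 1 then 1 else swap x y
  map_one' := by simp
  map_mul' u v := by
    rcases Int.units_eq_one_or u with rfl | rfl <;> rcases Int.units_eq_one_or v with rfl | rfl <;>
      simp

theorem sign_sgnSec {β : Type} [Fintype β] [DecidableEq β] {x y : β} (h : x ≠ y) (u : ℤˣ) :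
    Perm.sign (sgnSec x y u) = u := by
  rcases Int.units_eq_one_or u with rfl | rfl
  · simp
  · simp [sgnSec, h]

theorem exists_equiv {m : ℕ} {β : Type} [Fintype β] [DecidableEq β]
    (hm : 4 * Fintype.card ι + Fintype.card β = m) (α : Perm (Fin m)) (hα : α ^ 2 = 1)
    (h4 : α.support.card = 4 * Fintype.card ι) :
    ∃ e : (ι × Q) ⊕ β ≃ Fin m, e.permCongr (Perm.sumCongr (aa ι) 1) = α := by
  let e0 : (ι × Q) ⊕ β ≃ Fin m := Fintype.equivFinOfCardEq (by simp [← hm, mul_comm])
  have h2 : (Perm.sumCongr (aa ι) (1 : Perm β)) ^ 2 = 1 := by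
    refine Perm.ext fun w => ?_
    rcases w with w | w <;> simp [sq, aa_aa]
  have hs : (Perm.sumCongr (aa ι) (1 : Perm β)).support = Finset.univ.map Function.Embedding.inl := by
    ext w
    rcases w with w | w <;> simp [aa_ne]
  have hc : IsConj (e0.permCongr (Perm.sumCongr (aa ι) 1)) α := by
    refine isConj_of_card ?_ hα ?_
    · exact (map_pow e0.permCongrHom _ 2).symm.trans (by rw [h2, map_one])
    · have : (e0.permCongr (Perm.sumCongr (aa ι) 1)).support =
          (Perm.sumCongr (aa ι) (1 : Perm β)).support.map e0.toEmbedding := by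
        ext w
        simp [Perm.mem_support, Equiv.apply_eq_iff_eq_symm_apply]
      rw [this, Finset.card_map, hs, h4]; simp [mul_comm]
  obtain ⟨π, hπ⟩ := isConj_iff.1 hc
  refine ⟨e0.trans π, ?_⟩
  rw [← hπ]
  refine Perm.ext fun x => ?_
  simp

theorem exists_emb {m : ℕ} {β : Type} [Fintype β] [DecidableEq β] {x y : β} (hxy : x ≠ y)
    (α : alternatingGroup (Fin m)) (e : (ι × Q) ⊕ β ≃ Fin m)
    (he : e.permCongr (Perm.sumCongr (aa ι) 1) = α) :
    ∃ ψ : BB ι →* centralizer ({α} : Set (alternatingGroup (Fin m))), Function.Injective ψ ∧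
      ψ.range.index = Nat.card (alternatingGroup β) := by
  let Φ : BB ι × Perm β →* Perm (Fin m) := e.permCongrHom.toMonoidHom.comp
    ((Perm.sumCongrHom _ _).comp ((BB ι).subtype.prodMap (MonoidHom.id _)))
  have hΦ : ∀ b τ, Φ (b, τ) = e.permCongr (Perm.sumCongr b.1 τ) := fun _ _ => rfl
  have hΦi : Function.Injective Φ := e.permCongrHom.injective.comp
    (Perm.sumCongrHom_injective.comp ((BB ι).subtype_injective.prodMap Function.injective_id))
  have hsg : ∀ b τ, Perm.sign (Φ (b, τ)) = Perm.sign b.1 * Perm.sign τ := by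
    intro b τ; rw [hΦ, Perm.sign_permCongr, Perm.sign_sumCongr]
  have hα : (α : Perm (Fin m)) = Φ (⟨aa ι, mem_centralizer_singleton_iff.2 rfl⟩, 1) := he.symm
  have hcm : ∀ p, Φ p * α = α * Φ p := by
    intro p
    rw [hα, ← map_mul, ← map_mul]
    congr 1
    exact Prod.ext (Subtype.ext (mem_centralizer_singleton_iff.1 p.1.2)) (by simp)
  let s : BB ι →* Perm β := (sgnSec x y).comp (Perm.sign.comp (BB ι).subtype)
  have hs : ∀ b, Perm.sign (s b) = Perm.sign b.1 := fun b => sign_sgnSec hxy _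
  let ψ0 : BB ι →* alternatingGroup (Fin m) := (Φ.comp ((MonoidHom.id _).prod s)).codRestrict _
    fun b => by
      rw [Perm.mem_alternatingGroup]
      change Perm.sign (Φ (b, s b)) = 1
      rw [hsg, hs, Int.units_mul_self]
  let ψ : BB ι →* centralizer ({α} : Set (alternatingGroup (Fin m))) := ψ0.codRestrict _
    fun b => mem_centralizer_singleton_iff.2 (Subtype.ext (hcm _))
  have hψ : Function.Injective ψ := fun a b h =>
    congrArg Prod.fst (hΦi (congrArg (fun z => z.1.1) h))
  let F : BB ι × alternatingGroup β → centralizer ({α} : Set (alternatingGroup (Fin m))) :=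
    fun p => ⟨⟨Φ (p.1, s p.1 * p.2.1), by
      rw [Perm.mem_alternatingGroup, hsg, map_mul, hs, Perm.mem_alternatingGroup.1 p.2.2, mul_one,
        Int.units_mul_self]⟩, mem_centralizer_singleton_iff.2 (Subtype.ext (hcm _))⟩
  have hF : Function.Bijective F := by
    constructor
    · rintro ⟨a, τ⟩ ⟨b, τ'⟩ h
      have h1 := hΦi (congrArg (fun z => z.1.1) h)
      simp only [Prod.mk.injEq] at h1
      obtain ⟨rfl, h1⟩ := h1
      exact Prod.ext rfl (Subtype.ext (mul_left_cancel h1))
    · rintro ⟨⟨c, hc1⟩, hc2⟩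
      have h1 : c * α = α * c := congrArg Subtype.val (mem_centralizer_singleton_iff.1 hc2)
      obtain ⟨c, rfl⟩ := e.permCongrHom.surjective c
      have h2 : c * Perm.sumCongr (aa ι) 1 = Perm.sumCongr (aa ι) 1 * c := by
        apply e.permCongrHom.injective
        rw [map_mul, map_mul]
        rw [← he] at h1
        exact h1
      obtain ⟨⟨b, τ⟩, rfl⟩ := Perm.mem_sumCongrHom_range_of_perm_mapsTo_inl (σ := c) (by
        rintro _ ⟨w, rfl⟩
        rcases h : c (Sum.inl w) with w' | w'
        · exact ⟨_, rfl⟩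
        · have h3 := congrArg (fun σ : Perm _ => σ (Sum.inl w)) h2
          simp only [Perm.mul_apply, Perm.sumCongr_apply, Sum.map_inl, h, Sum.map_inr,
            Perm.one_apply] at h3
          rw [← h, c.injective.eq_iff] at h3
          exact absurd (Sum.inl_injective h3) (aa_ne w))
      have hb : b ∈ BB ι := by
        rw [mem_centralizer_singleton_iff]
        refine Perm.ext fun w => ?_
        have h3 := congrArg (fun σ : Perm _ => σ (Sum.inl w)) h2
        simpa using h3
      have h4 : Perm.sign (Φ (⟨b, hb⟩, τ)) = 1 := hc1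
      rw [hsg] at h4
      refine ⟨(⟨b, hb⟩, ⟨(s ⟨b, hb⟩)⁻¹ * τ, ?_⟩), Subtype.ext (Subtype.ext ?_)⟩
      · rw [Perm.mem_alternatingGroup, map_mul, Perm.sign_inv, hs, h4]
      · simp only [F, mul_inv_cancel_left]
        rfl
  refine ⟨ψ, hψ, ?_⟩
  have h1 := ψ.range.card_mul_index
  rw [← Nat.card_eq_of_bijective F hF, Nat.card_prod,
    ← Nat.card_congr (MonoidHom.ofInjective hψ).toEquiv] at h1
  exact Nat.eq_of_mul_eq_mul_left Nat.card_pos h1

end H24.Ko
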