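import Mathlib
import Cfsg.Agent.Lib.Kondo.K5
import Cfsg.Agent.Lib.Kondo.B2
import Cfsg.Agent.Lib.Kondo.U1
import Cfsg.Agent.Lib.Pres.AltBase

/-! The permutation model. -/

set_option autoImplicit false
set_option linter.unusedSectionVars false

namespace H24.Ko

open DihedralGroup Subgroup Equiv

def sgF : D → ℤˣ
  | r i => if i = 1 ∨ i = 3 then -1 else 1
  | sr i => if i = 1 ∨ i = 3 then 1 else -1

def sgD : D →* ℤˣ := MonoidHom.mk' sgF (by decide)

theorem sign_rho' : ∀ d : D, Perm.sign (rho d) = sgD d := by decide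
theorem sgD_cen : ∀ d : D, cen d → sgD d = 1 := by decide
theorem sgD_e0 : sgD e0 = -1 := by decide
theorem sgD_e1 : sgD e1 = 1 := by decide

abbrev Pt (ι γ : Type) := ((ι × Q) ⊕ γ) ⊕ Bool

variable {ι γ : Type} [Fintype ι] [DecidableEq ι] [Fintype γ] [DecidableEq γ]

abbrev pt (l : ι) (q : Q) : Pt ι γ := .inl (.inl (l, q))

def sgJ : (ι → D) →* ℤˣ :=
  MonoidHom.mk' (fun d => ∏ l, sgD (d l)) fun a b => by simp [Finset.prod_mul_distrib]

theorem sgJ_apply (d : ι → D) : sgJ d = ∏ l, sgD (d l) := rfl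

theorem sgJ_single (l : ι) (a : D) : sgJ (Pi.mulSingle l a) = sgD a := by
  rw [sgJ_apply, Finset.prod_eq_single l (fun b _ hb => by simp [hb]) (by simp)]; simp

theorem sgJ_zI (I : Finset ι) : sgJ (zI I) = 1 :=
  Finset.prod_eq_one fun l _ => sgD_cen _ (zI_cen I l)

theorem sign_kap0 (d : ι → D) : Perm.sign (kap0 d) = sgJ d := by
  rw [sgJ_apply]
  exact (Perm.sign_prodCongrRight fun l => rho (d l)).trans (by simp only [sign_rho'])

/-- the embedding of the power of `D` in the alternating group -/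
def jA : (ι → D) →* Perm (Pt ι γ) :=
  MonoidHom.mk' (fun d => Perm.sumCongr (Perm.sumCongr (kap0 d) 1) (sgnSec false true (sgJ d)))
    fun a b => by simp only [map_mul, Perm.sumCongr_mul, mul_one]

theorem jA_pt (d : ι → D) (l : ι) (q : Q) : jA d (pt l q : Pt ι γ) = pt l (act (d l) q) := rfl
theorem jA_g (d : ι → D) (g : γ) : jA d (.inl (.inr g) : Pt ι γ) = .inl (.inr g) := rfl
theorem jA_b (d : ι → D) (b : Bool) :
    jA d (.inr b : Pt ι γ) = .inr (sgnSec false true (sgJ d) b) := rfl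

theorem jA_alt (d : ι → D) : (jA d : Perm (Pt ι γ)) ∈ alternatingGroup _ := by
  rw [Perm.mem_alternatingGroup]
  change Perm.sign (Perm.sumCongr _ _) = 1
  rw [Perm.sign_sumCongr, Perm.sign_sumCongr, sign_kap0, sign_sgnSec (by decide)]
  simp

theorem jA_inj : Function.Injective (jA (ι := ι) (γ := γ)) := by
  rw [injective_iff_map_eq_one]
  intro d hd
  funext l
  refine act_inj _ fun q => ?_
  have := congrArg (fun σ : Perm (Pt ι γ) => σ (pt l q)) hd
  simpa [jA_pt] using this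

theorem jA_xp (d : ι → D) (i : (ι × Q) ⊕ γ) : jA d * H40.Alt.xp i * (jA d)⁻¹ =
    H40.Alt.xp (Perm.sumCongr (kap0 d) (1 : Perm γ) i) ^ (sgJ d : ℤ) := by
  have : (jA d : Perm (Pt ι γ)) =
      H40.Alt.sp (Perm.sumCongr (kap0 d) 1) (decide (sgJ d = -1)) := by
    change Perm.sumCongr _ _ = Equiv.sumCongr _ _
    rcases Int.units_eq_one_or (sgJ d) with h | h <;> simp [h, sgnSec]
  rw [this, H40.Alt.sp_conj]
  rcases Int.units_eq_one_or (sgJ d) with h | h <;> simp [h, H40.Alt.ex]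

theorem supp_zI (I : Finset ι) : (jA (zI I) : Perm (Pt ι γ)).support.card = 4 * I.card := by
  have : (jA (zI I) : Perm (Pt ι γ)).support = (I ×ˢ (Finset.univ : Finset Q)).map
      (Function.Embedding.inl.trans Function.Embedding.inl) := by
    ext ω
    rcases ω with (⟨l, u, x⟩ | g) | b
    · by_cases h : l ∈ I <;> simp [jA_pt, zI, h, act_z, act_one]
    · simp [jA_g]
    · simp [jA_b, sgJ_zI]
  rw [this, Finset.card_map, Finset.card_product]
  simp [mul_comm]

/-- the centralizer in the alternating group -/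
abbrev HH (γ : Type) [Fintype γ] [DecidableEq γ] (I : Finset ι) : Subgroup (Perm (Pt ι γ)) :=
  centralizer {jA (zI I)} ⊓ alternatingGroup _

theorem mem_HH {I : Finset ι} {c : Perm (Pt ι γ)} :
    c ∈ HH γ I ↔ c * jA (zI I) = jA (zI I) * c ∧ Perm.sign c = 1 := by
  rw [mem_inf, mem_centralizer_singleton_iff, Perm.mem_alternatingGroup]

theorem jA_HH (I : Finset ι) (d : ι → D) : jA d ∈ HH γ I :=
  ⟨mem_centralizer_singleton_iff.2 (by rw [← map_mul, ← map_mul, zI_comm]), jA_alt d⟩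

/-! two blocks -/

def loc2 (a b : D) : Bool → D := fun x => cond x b a

def E2 {l l' : ι} (h : l ≠ l') : Pt Bool Empty ↪ Pt ι γ where
  toFun ω := match ω with
    | .inl (.inl (x, q)) => pt (cond x l' l) q
    | .inr b => .inr b
  inj' := by
    rintro ((⟨x, q⟩ | ⟨⟨⟩⟩) | b) ((⟨x', q'⟩ | ⟨⟨⟩⟩) | b') e
    · cases x <;> cases x' <;> simp_all [h.symm]
    · simp at e
    · simp at e
    · simpa using e

theorem E2_pt {l l' : ι} (h : l ≠ l') (x : Bool) (q : Q) :
    (E2 h : Pt Bool Empty ↪ Pt ι γ) (pt x q) = pt (cond x l' l) q := rfl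

theorem E2_b {l l' : ι} (h : l ≠ l') (b : Bool) :
    (E2 h : Pt Bool Empty ↪ Pt ι γ) (.inr b) = .inr b := rfl

theorem via_loc2 {l l' : ι} (h : l ≠ l') (a b : D) :
    Perm.viaEmbeddingHom (E2 h : Pt Bool Empty ↪ Pt ι γ) (jA (loc2 a b)) =
      jA (Pi.mulSingle l a * Pi.mulSingle l' b) := by
  rw [Perm.viaEmbeddingHom_apply]
  refine Perm.ext fun ω => ?_
  rcases ω with (⟨k, q⟩ | g) | x
  · by_cases h1 : k = l
    · subst h1
      refine (Perm.viaEmbedding_apply _ (E2 h) (pt false q)).trans ?_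
      simp [jA_pt, E2_pt, loc2, h, act_one]
    by_cases h2 : k = l'
    · subst h2
      refine (Perm.viaEmbedding_apply _ (E2 h) (pt true q)).trans ?_
      simp [jA_pt, E2_pt, loc2, h1, act_one]
    rw [Perm.viaEmbedding_apply_of_notMem]
    · simp [jA_pt, h1, h2, act_one]
    · rintro ⟨(⟨x, q⟩ | g) | b, e⟩
      · cases x <;> simp_all [E2_pt]
      · exact g.elim
      · simp [E2_b] at e
  · rw [Perm.viaEmbedding_apply_of_notMem, jA_g]
    rintro ⟨(⟨x, q⟩ | g) | b, e⟩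
    · simp [E2_pt] at e
    · exact g.elim
    · simp [E2_b] at e
  · refine (Perm.viaEmbedding_apply _ (E2 h) (.inr x)).trans ?_
    rw [jA_b, jA_b, E2_b, map_mul, sgJ_single, sgJ_single, sgJ_apply]
    simp [loc2, mul_comm]

theorem via_comm {l l' : ι} (h : l ≠ l') (c : Perm (Pt Bool Empty)) (I : Finset ι) (h1 : l ∉ I)
    (h2 : l' ∉ I) : Perm.viaEmbeddingHom (E2 h : Pt Bool Empty ↪ Pt ι γ) c * jA (zI I) =
      jA (zI I) * Perm.viaEmbeddingHom (E2 h) c := by
  refine (Perm.Disjoint.commute fun ω => ?_).eq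
  by_cases hω : ω ∈ Set.range (E2 h : Pt Bool Empty ↪ Pt ι γ)
  · right
    obtain ⟨(⟨x, q⟩ | g) | b, rfl⟩ := hω
    · cases x <;> simp [E2_pt, jA_pt, zI, h1, h2, act_one]
    · exact g.elim
    · simp [E2_b, jA_b, sgJ_zI]
  · exact Or.inl (Perm.viaEmbedding_apply_of_notMem _ _ _ hω)

theorem zI_two {l l' : ι} (h : l ≠ l') (I : Finset ι) : zI I =
    Pi.mulSingle l (zI I l) * Pi.mulSingle l' (zI I l') * zI ((I.erase l).erase l') := by
  funext k
  by_cases h1 : k = l
  · subst h1; simp [zI, h]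
  by_cases h2 : k = l'
  · subst h2; simp [zI, h1]
  simp [zI, h1, h2]

theorem loc {l l' : ι} (h : l ≠ l') (I : Finset ι) (c : Perm (Pt Bool Empty))
    (hs : Perm.sign c = 1)
    (hc : c * jA (loc2 (zI I l) (zI I l')) * c⁻¹ = jA (loc2 (zI I l) (zI I l'))) :
    ∃ C ∈ HH γ I, ∀ a b a' b', c * jA (loc2 a b) * c⁻¹ = jA (loc2 a' b') → ∀ I', l ∉ I' →
      l' ∉ I' → C * jA (Pi.mulSingle l a * Pi.mulSingle l' b * zI I') * C⁻¹ =
        jA (Pi.mulSingle l a' * Pi.mulSingle l' b' * zI I') := by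
  have key : ∀ a b a' b', c * jA (loc2 a b) * c⁻¹ = jA (loc2 a' b') → ∀ I', l ∉ I' →
      l' ∉ I' → Perm.viaEmbeddingHom (E2 h : Pt Bool Empty ↪ Pt ι γ) c *
        jA (Pi.mulSingle l a * Pi.mulSingle l' b * zI I') * (Perm.viaEmbeddingHom (E2 h) c)⁻¹ =
        jA (Pi.mulSingle l a' * Pi.mulSingle l' b' * zI I') := by
    intro a b a' b' e I' h1 h2
    rw [map_mul _ _ (zI I'), map_mul _ _ (zI I'), ← via_loc2 h, ← via_loc2 h, ← e, map_mul,
      map_mul, map_inv, mul_inv_eq_iff_eq_mul, mul_assoc _ (jA (zI I')), ← via_comm h c I' h1 h2]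
    group
  refine ⟨_, mem_HH.2 ⟨?_, ?_⟩, key⟩
  · rw [← mul_inv_eq_iff_eq_mul, zI_two h I]
    exact key _ _ _ _ hc _ (by simp) (by simp)
  · classical
    rw [Perm.viaEmbeddingHom_apply, Perm.viaEmbedding]
    convert hs using 1
    convert Perm.sign_extendDomain _ _

def ca : Perm (Pt Bool Empty) :=
  swap (pt true (false, true)) (pt true (true, false)) *
    swap (pt true (false, true)) (pt true (true, true))
def cb : Perm (Pt Bool Empty) :=
  swap (pt true (false, false)) (.inr false) * swap (pt true (false, true)) (.inr true)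
def cc : Perm (Pt Bool Empty) :=
  swap (pt true (true, false)) (.inr false) * swap (pt true (true, true)) (.inr true)
def cd : Perm (Pt Bool Empty) :=
  swap (pt false (false, false)) (pt true (true, false)) *
    swap (pt false (false, true)) (pt true (true, true))

theorem ca_s : Perm.sign ca = 1 := by simp [ca]
theorem cb_s : Perm.sign cb = 1 := by simp [cb]
theorem cc_s : Perm.sign cc = 1 := by simp [cc]
theorem cd_s : Perm.sign cd = 1 := by simp [cd]
theorem ca_1 : ca * jA (loc2 zD 1) * ca⁻¹ = jA (loc2 zD 1) := by decide +kernel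
theorem cb_1 : cb * jA (loc2 zD 1) * cb⁻¹ = jA (loc2 zD 1) := by decide +kernel
theorem cc_1 : cc * jA (loc2 zD 1) * cc⁻¹ = jA (loc2 zD 1) := by decide +kernel
theorem cd_1 : cd * jA (loc2 zD zD) * cd⁻¹ = jA (loc2 zD zD) := by decide +kernel
theorem ca_2 : ∀ a : D, ca * jA (loc2 a zD) * ca⁻¹ = jA (loc2 a e1) := by decide +kernel
theorem cb_2 : ∀ a : D, sgD a = 1 → cb * jA (loc2 a zD) * cb⁻¹ = jA (loc2 a e0) := by
  decide +kernel
theorem cc_2 : cc * jA (loc2 e0 e0) * cc⁻¹ = jA (loc2 e0 1) := by decide +kernel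
theorem cd_2 : cd * jA (loc2 e0 e0) * cd⁻¹ = jA (loc2 zD 1) := by decide +kernel

/-! block permutations -/

def blk (σ : Perm ι) : Perm (Pt ι γ) :=
  Perm.sumCongr (Perm.sumCongr (prodCongrLeft fun _ : Q => σ) 1) 1

theorem blk_conj (σ : Perm ι) (d : ι → D) :
    (blk σ : Perm (Pt ι γ)) * jA (d ∘ σ) * (blk σ)⁻¹ = jA d := by
  rw [mul_inv_eq_iff_eq_mul]
  refine Perm.ext fun ω => ?_
  rcases ω with (⟨k, q⟩ | g) | x
  · rfl
  · rfl
  · change Sum.inr _ = Sum.inr _
    simp only [sgJ_apply, Function.comp, Equiv.prod_comp σ fun l => sgD (d l)]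
    rfl

theorem blk_sign (σ : Perm ι) : Perm.sign (blk σ : Perm (Pt ι γ)) = 1 := by
  rw [blk, Perm.sign_sumCongr, Perm.sign_sumCongr, Perm.sign_prodCongrLeft]
  rcases Int.units_eq_one_or (Perm.sign σ) with h | h <;> simp [h]
  decide

theorem blk_HH {I : Finset ι} {l l' : ι} (h : l ∈ I) (h' : l' ∈ I) :
    (blk (swap l l') : Perm (Pt ι γ)) ∈ HH γ I := by
  refine mem_HH.2 ⟨?_, blk_sign _⟩
  have : zI I ∘ swap l l' = zI I := by
    funext k
    simp only [zI, Function.comp, swap_apply_def]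
    split_ifs <;> simp_all
  have h2 := blk_conj (γ := γ) (swap l l') (zI I)
  rwa [this, mul_inv_eq_iff_eq_mul] at h2

/-! preserved blocks -/

theorem not_e1 {I : Finset ι} {l : ι} (hl : l ∈ I) {c : Perm (Pt ι γ)} (hc : c ∈ HH γ I)
    {d : ι → D} (h : c * jA (zl l) * c⁻¹ = jA d) (k : ι) : d k * e0 = e0 * d k := by
  have h1 : ∀ ω : Pt ι γ, jA (zl l) ω = ω ∨ jA (zl l) ω = jA (zI I) ω := by
    rintro ((⟨k, q⟩ | g) | x)
    · by_cases hk : k = l
      · subst hk; right; simp [jA_pt, zI, hl]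
      · left; simp [jA_pt, hk, act_one]
    · left; rfl
    · left; simp [jA_b, sgJ_single, sgD_cen _ cen_zD]
  have h2 : ∀ ω : Pt ι γ, jA d ω = ω ∨ jA d ω = jA (zI I) ω := by
    intro ω
    rw [← h]
    rcases h1 (c⁻¹ ω) with e | e
    · left; rw [Perm.mul_apply, Perm.mul_apply, e]; simp
    · right
      rw [Perm.mul_apply, Perm.mul_apply, e, ← Perm.mul_apply, (mem_HH.1 hc).1]; simp
  have h3 : ∀ d a : D, cen a → (act d (false, false) = (false, false) ∨
      act d (false, false) = act a (false, false)) → d * e0 = e0 * d := by decide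
  refine h3 _ _ (zI_cen I k) ?_
  simpa [jA_pt] using h2 (pt k (false, false))

theorem pres {l : ι} {e : D} (he : ∀ q, act e q ≠ q) (hs : sgD e = 1) {c : Perm (Pt ι γ)}
    (h : c * jA (Pi.mulSingle l e) = jA (Pi.mulSingle l e) * c) (ω : Pt ι γ) :
    (∃ q, c ω = pt l q) ↔ ∃ q, ω = pt l q := by
  have h1 : ∀ ω : Pt ι γ, (∃ q, ω = pt l q) ↔ jA (Pi.mulSingle l e) ω ≠ ω := by
    rintro ((⟨k, q⟩ | g) | x)
    · by_cases hk : k = l
      · subst hk; simp [jA_pt, he]
      · simp [jA_pt, hk, act_one]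
    · simp [jA_g]
    · simp [jA_b, sgJ_single, hs]
  rw [h1, h1, ← Perm.mul_apply, ← h, Perm.mul_apply, c.injective.ne_iff]

theorem z_moves : ∀ q, act zD q ≠ q := by decide

theorem exists_act {l : ι} {c : Perm (Pt ι γ)} (h : c * jA (zl l) = jA (zl l) * c) :
    ∃ d : D, ∀ q, c (pt l q) = pt l (act d q) := by
  choose f hf using fun q => (pres z_moves (sgD_cen _ cen_zD) h (pt l q)).2 ⟨q, rfl⟩
  have hz : ∀ q, f (act zD q) = act zD (f q) := by
    intro q
    have := congrArg (fun σ : Perm (Pt ι γ) => σ (pt l q)) h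
    simpa [jA_pt, hf] using this
  have hi : Function.Injective f := by
    intro a b e
    have : c (pt l a) = c (pt l b) := by rw [hf, hf, e]
    simpa using this
  have h1 : ∀ p p' : Q, p.1 = p'.1 → p = p' ∨ act zD p = p' := by decide
  obtain ⟨d, hd, hd'⟩ := act_ex (f (false, false)) (f (true, false)) fun e => by
    rcases h1 _ _ e with e | e
    · exact absurd (hi e) (by decide)
    · rw [← hz] at e
      exact absurd (hi e) (by decide)
  refine ⟨d, fun q => ?_⟩
  have h2 : ∀ d q, act d (act zD q) = act zD (act d q) := by decide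
  rw [hf]
  obtain ⟨u, x⟩ := q
  have h3 : ∀ u, f (u, false) = act d (u, false) := by
    intro u; cases u
    · exact hd.symm
    · exact hd'.symm
  cases x
  · rw [h3]
  · rw [show ((u, true) : Q) = act zD (u, false) by rw [act_z]; rfl, hz, h3, h2]

theorem comm_zl {I : Finset ι} {l : ι} (hl : l ∈ I) {e : D} (he : ∀ q, act e q ≠ q)
    (hs : sgD e = 1) {c : Perm (Pt ι γ)} (hc : c ∈ HH γ I)
    (h : c * jA (Pi.mulSingle l e) = jA (Pi.mulSingle l e) * c) :
    c * jA (zl l) = jA (zl l) * c := by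
  have h1 : ∀ q, jA (zl l) (pt l q : Pt ι γ) = jA (zI I) (pt l q) := fun q => by
    simp [jA_pt, zI, hl]
  have h2 : ∀ ω : Pt ι γ, (¬ ∃ q, ω = pt l q) → jA (zl l) ω = ω := by
    rintro ((⟨k, q⟩ | g) | x) hω
    · have hk : k ≠ l := fun e => hω ⟨q, by rw [e]⟩
      simp [jA_pt, hk, act_one]
    · rfl
    · simp [jA_b, sgJ_single, sgD_cen _ cen_zD]
  refine Perm.ext fun ω => ?_
  rw [Perm.mul_apply, Perm.mul_apply]
  by_cases hω : ∃ q, ω = pt l q
  · obtain ⟨q', hq'⟩ := (pres he hs h ω).2 hω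
    obtain ⟨q, rfl⟩ := hω
    rw [h1, hq', h1, ← hq', ← Perm.mul_apply, (mem_HH.1 hc).1, Perm.mul_apply]
  · rw [h2 _ hω, h2 _ fun e => hω ((pres he hs h ω).1 e)]

theorem eq_one_of_fix {κ : Type} [Fintype κ] [DecidableEq κ] {c : Perm (κ ⊕ Bool)}
    (h : ∀ i, c (.inl i) = .inl i) (hs : Perm.sign c = 1) : c = 1 := by
  have h1 : ∀ b, ∃ b', c (.inr b) = .inr b' := by
    intro b
    rcases e : c (.inr b) with i | b'
    · rw [← h, c.injective.eq_iff] at e; simp at e
    · exact ⟨_, rfl⟩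
  obtain ⟨b0, h0⟩ := h1 false
  obtain ⟨b1, h2⟩ := h1 true
  have h3 : b0 ≠ b1 := fun e => by
    rw [← e, ← h0, c.injective.eq_iff] at h2; simp at h2
  cases b0 <;> cases b1
  · exact absurd rfl h3
  · exact Perm.ext fun ω => by rcases ω with i | _ | _ <;> simp [*]
  · have : c = swap (.inr false) (.inr true) :=
      Perm.ext fun ω => by rcases ω with i | _ | _ <;> simp [swap_apply_def, *]
    rw [this] at hs
    simp at hs
  · exact absurd rfl h3

theorem exists_fix_pt {c : Perm (Pt ι γ)} (h : ∀ l, c * jA (zl l) = jA (zl l) * c) :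
    ∃ d : ι → D, ∀ l q, ((jA d)⁻¹ * c : Perm (Pt ι γ)) (pt l q) = pt l q := by
  choose d hd using fun l => exists_act (h l)
  refine ⟨d, fun l q => ?_⟩
  rw [Perm.mul_apply, hd, Perm.inv_eq_iff_eq, jA_pt]

theorem nc_model [Subsingleton γ] (l : ι) {c : Perm (Pt ι γ)} (hs : Perm.sign c = 1)
    (h : ∀ l, c * jA (zl l) = jA (zl l) * c) (hn : ∀ d, ∃ d', c * jA d * c⁻¹ = jA d') :
    ∃ d, jA d = c := by
  obtain ⟨d, hd⟩ := exists_fix_pt h
  refine ⟨d, inv_mul_eq_one.1 (eq_one_of_fix ?_ ?_)⟩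
  · rintro (⟨k, q⟩ | g)
    · exact hd k q
    obtain ⟨d', hd'⟩ := hn (Pi.mulSingle l e0)
    have h1 : jA (Pi.mulSingle l e0) (c⁻¹ (.inl (.inr g))) = c⁻¹ (.inl (.inr g)) := by
      have := congrArg (fun σ : Perm (Pt ι γ) => σ (.inl (.inr g))) hd'
      simp only [Perm.mul_apply, jA_g] at this
      rw [Perm.eq_inv_iff_eq, this]
    rw [Perm.mul_apply, Perm.inv_eq_iff_eq, jA_g, ← Perm.eq_inv_iff_eq]
    rcases e : c⁻¹ (.inl (.inr g)) with (⟨k, q⟩ | g') | b
    · have := hd k q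
      rw [Perm.mul_apply, Perm.inv_eq_iff_eq, jA_pt, ← Perm.eq_inv_iff_eq] at this
      have e2 := c⁻¹.injective (e.trans this)
      simp at e2
    · rw [Subsingleton.elim g g']
    · rw [e, jA_b, sgJ_single, sgD_e0] at h1
      cases b <;> simp [sgnSec] at h1
  · rw [map_mul, Perm.sign_inv, hs, Perm.mem_alternatingGroup.1 (jA_alt d), mul_one]

theorem center_HH [Subsingleton γ] {I : Finset ι} {l : ι} (hl : l ∈ I) {c : Perm (Pt ι γ)}
    (hc : c ∈ HH γ I) (h1 : c ≠ 1) (h : ∀ x ∈ HH γ I, c * x = x * c) : c = jA (zI I) := by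
  obtain ⟨d, rfl⟩ := nc_model l (mem_HH.1 hc).2 (fun k => h _ (jA_HH _ _))
    fun d => ⟨d, by rw [h _ (jA_HH _ _)]; simp⟩
  obtain ⟨I', rfl⟩ := exists_zI d fun k => by
    by_contra hk
    obtain ⟨f, hf⟩ := exists_nc _ hk
    have := h _ (jA_HH I (Pi.mulSingle k f))
    rw [← map_mul, ← map_mul] at this
    exact hf (by simpa using (congrFun (jA_inj this) k).symm)
  have h2 : ∀ k ∈ I', k ∈ I := by
    intro k hk
    by_contra hkI
    have hlk : l ≠ k := fun e => hkI (e ▸ hl)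
    obtain ⟨C, hC, H⟩ := loc (γ := γ) hlk I ca ca_s (by simpa [zI, hl, hkI] using ca_1)
    have := H _ _ _ _ (ca_2 (zI I' l)) ((I'.erase l).erase k) (by simp) (by simp)
    have e : zD = zI I' k := by simp [zI, hk]
    rw [e, ← zI_two hlk, ← h C hC, mul_inv_cancel_right] at this
    have h3 := congrFun (jA_inj this) k
    simp [zI, hk, hlk.symm] at h3
    exact absurd h3 (by decide)
  have h3 : ∀ k ∈ I', ∀ k' ∈ I, k' ∈ I' := by
    intro k hk k' hk'
    have := blk_conj (γ := γ) (swap k k') (zI I' ∘ swap k k')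
    rw [Function.comp_assoc, ← Equiv.Perm.coe_mul, swap_mul_self, Perm.coe_one, Function.comp_id,
      ← h _ (blk_HH (h2 k hk) hk'), mul_inv_cancel_right] at this
    have h3 := congrFun (jA_inj this) k'
    by_contra hn
    simp [zI, hk, hn] at h3
    exact zD_ne h3.symm
  obtain ⟨k, hk⟩ : I'.Nonempty := by
    rw [Finset.nonempty_iff_ne_empty]
    rintro rfl
    exact h1 (by rw [zI_empty, map_one])
  rw [Finset.Subset.antisymm h2 (h3 k hk)]

end H24.Ko
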