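import Mathlib
import Cfsg.Agent.Lib.Kondo.M1

/-! Splitting off one block. -/

set_option autoImplicit false
set_option linter.unusedSectionVars false

namespace H24.Ko

open DihedralGroup Subgroup Equiv

variable {ι γ : Type} [Fintype ι] [DecidableEq ι] [Fintype γ] [DecidableEq γ]

def outb (l : ι) (ω : Pt ι γ) : Prop := ∀ q, ω ≠ pt l q

instance (l : ι) : DecidablePred (outb (γ := γ) l) := fun ω =>
  inferInstanceAs (Decidable (∀ q, ω ≠ pt l q))

abbrev Lam (γ : Type) (l : ι) : Type := {ω : Pt ι γ // outb l ω}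

theorem card_Pt : Fintype.card (Pt ι γ) = 4 * Fintype.card ι + Fintype.card γ + 2 := by
  simp [mul_comm]

theorem card_Lam (l : ι) : Fintype.card (Lam γ l) + 4 = Fintype.card (Pt ι γ) := by
  have h1 : Fintype.card {ω : Pt ι γ // ¬ outb l ω} = 4 := by
    have e : Q ≃ {ω : Pt ι γ // ¬ outb l ω} := Equiv.ofBijective
      (fun q => ⟨pt l q, fun h => h q rfl⟩) ⟨fun a b h => by simpa using h, fun ⟨ω, h⟩ => by
        simp only [outb, not_forall, not_not] at h
        obtain ⟨q, rfl⟩ := h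
        exact ⟨q, rfl⟩⟩
    rw [← Fintype.card_congr e]; simp
  rw [Fintype.card_subtype_compl] at h1
  have : Fintype.card (Lam γ l) ≤ _ := Fintype.card_subtype_le (outb (γ := γ) l)
  have h2 : Fintype.card (Pt ι γ) - Fintype.card (Lam γ l) = 4 := h1
  omega

def lp (l : ι) (b : Bool) : Lam γ l := ⟨.inr b, fun _ => by simp⟩

def lq {l k : ι} (h : k ≠ l) (q : Q) : Lam γ l := ⟨pt k q, fun _ => by simp [h]⟩

theorem lp_ne (l : ι) : (lp l false : Lam γ l) ≠ lp l true := by simp [lp, Subtype.ext_iff]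

def jS (l : ι) : D →* Perm (Pt ι γ) :=
  MonoidHom.mk' (fun d => Perm.sumCongr (Perm.sumCongr (kap0 (Pi.mulSingle l d)) 1) 1)
    fun a b => by simp only [Pi.mulSingle_mul, map_mul, Perm.sumCongr_mul, mul_one]

theorem jS_pt (l : ι) (d : D) (q : Q) : jS l d (pt l q : Pt ι γ) = pt l (act d q) := by
  change pt l (act ((Pi.mulSingle l d : ι → D) l) q) = _
  simp

theorem jS_out {l : ι} (d : D) {ω : Pt ι γ} (h : outb l ω) : jS l d ω = ω := by
  rcases ω with (⟨k, q⟩ | g) | b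
  · have hk : k ≠ l := fun e => h q (by rw [e])
    change pt k (act ((Pi.mulSingle l d : ι → D) k) q) = _
    simp [hk, act_one]
  · rfl
  · rfl

theorem sub_pt {l : ι} (ρ : Perm (Lam γ l)) (q : Q) :
    Perm.ofSubtype ρ (pt l q) = pt l q :=
  Perm.ofSubtype_apply_of_not_mem _ fun h => h q rfl

theorem jS_comm (l : ι) (d : D) (ρ : Perm (Lam γ l)) : Commute (jS l d) (Perm.ofSubtype ρ) := by
  refine Perm.Disjoint.commute fun ω => ?_
  by_cases h : outb l ω
  · exact Or.inl (jS_out d h)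
  · exact Or.inr (Perm.ofSubtype_apply_of_not_mem _ h)

def Th (l : ι) : D × Perm (Lam γ l) →* Perm (Pt ι γ) :=
  (jS l).noncommCoprod Perm.ofSubtype (jS_comm l)

theorem Th_apply (l : ι) (d : D) (ρ : Perm (Lam γ l)) :
    Th l (d, ρ) = jS l d * Perm.ofSubtype ρ := rfl

theorem Th_pt (l : ι) (d : D) (ρ : Perm (Lam γ l)) (q : Q) :
    Th l (d, ρ) (pt l q) = pt l (act d q) := by
  rw [Th_apply, Perm.mul_apply, sub_pt, jS_pt]

theorem Th_out (l : ι) (d : D) (ρ : Perm (Lam γ l)) (x : Lam γ l) :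
    Th l (d, ρ) x = ρ x := by
  rw [Th_apply, Perm.mul_apply, Perm.ofSubtype_apply_coe, jS_out _ (ρ x).2]

theorem Th_one (l : ι) (ρ : Perm (Lam γ l)) : Th l (1, ρ) = Perm.ofSubtype ρ := by
  rw [Th_apply, map_one, one_mul]

theorem Th_inj (l : ι) : Function.Injective (Th (γ := γ) l) := by
  rw [injective_iff_map_eq_one]
  rintro ⟨d, ρ⟩ h
  have h1 : d = 1 := act_inj _ fun q => by
    have := Th_pt l d ρ q
    rw [h] at this
    simpa using this.symm
  subst h1
  rw [Th_one, map_eq_one_iff _ Perm.ofSubtype_injective] at h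
  rw [h]; rfl

theorem sign_Th (l : ι) (d : D) (ρ : Perm (Lam γ l)) :
    Perm.sign (Th l (d, ρ)) = sgD d * Perm.sign ρ := by
  rw [Th_apply, map_mul, Perm.sign_ofSubtype]
  congr 1
  change Perm.sign (Perm.sumCongr _ _) = _
  rw [Perm.sign_sumCongr, Perm.sign_sumCongr, sign_kap0, sgJ_single]
  simp

theorem jA_single (l : ι) (d : D) : (jA (Pi.mulSingle l d) : Perm (Pt ι γ)) =
    Th l (d, sgnSec (lp l false) (lp l true) (sgD d)) := by
  refine Perm.ext fun ω => ?_
  by_cases h : outb l ω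
  · rw [Th_out l _ _ ⟨ω, h⟩]
    rcases ω with (⟨k, q⟩ | g) | b
    · have hk : k ≠ l := fun e => h q (by rw [e])
      rcases Int.units_eq_one_or (sgD d) with e | e <;>
        simp [jA_pt, hk, act_one, e, sgnSec, swap_apply_def, lp, Subtype.ext_iff]
    · rcases Int.units_eq_one_or (sgD d) with e | e <;>
        simp [jA_g, e, sgnSec, swap_apply_def, lp, Subtype.ext_iff]
    · rcases Int.units_eq_one_or (sgD d) with e | e <;> cases b <;>
        simp [jA_b, sgJ_single, e, sgnSec, lp]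
  · simp only [outb, not_forall, not_not] at h
    obtain ⟨q, rfl⟩ := h
    rw [Th_pt, jA_pt]; simp

theorem jA_even (l : ι) {d : D} (h : sgD d = 1) :
    (jA (Pi.mulSingle l d) : Perm (Pt ι γ)) = Th l (d, 1) := by
  rw [jA_single, h, map_one]

theorem jA_zl (l : ι) : (jA (zl l) : Perm (Pt ι γ)) = Th l (zD, 1) :=
  jA_even l (sgD_cen _ cen_zD)

theorem exists_sub {l : ι} {c : Perm (Pt ι γ)} (h : ∀ q, c (pt l q) = pt l q) :
    ∃ ρ : Perm (Lam γ l), Perm.ofSubtype ρ = c := by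
  refine ⟨c.subtypePerm fun x => ?_, Perm.ofSubtype_subtypePerm _ fun x hx q e => hx ?_⟩
  · refine forall_congr' fun q => ?_
    conv_lhs => rw [← h q]
    exact c.injective.ne_iff
  · rw [e, h]

theorem exists_Th {l : ι} {c : Perm (Pt ι γ)} (h : c * jA (zl l) = jA (zl l) * c) :
    ∃ d ρ, Th l (d, ρ) = c := by
  obtain ⟨d, hd⟩ := exists_act h
  obtain ⟨ρ, hρ⟩ := exists_sub (l := l) (c := (jS l d)⁻¹ * c) fun q => by
    rw [Perm.mul_apply, hd, Perm.inv_eq_iff_eq, jS_pt]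
  exact ⟨d, ρ, by rw [Th_apply, hρ]; simp⟩

theorem Th_comm (l : ι) (p : D × Perm (Lam γ l)) : Th l p * jA (zl l) = jA (zl l) * Th l p := by
  rw [jA_zl, ← map_mul, ← map_mul]
  congr 1
  exact Prod.ext (cen_comm _ _ cen_zD).symm (by simp)

/-- the centralizer of a double transposition -/
def FF (Λ : Type) [Fintype Λ] [DecidableEq Λ] : Subgroup (D × Perm Λ) :=
  (sgD.comp (MonoidHom.fst _ _)).eqLocus (Perm.sign.comp (MonoidHom.snd _ _))

theorem mem_FF {Λ : Type} [Fintype Λ] [DecidableEq Λ] {d : D} {ρ : Perm Λ} :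
    (d, ρ) ∈ FF Λ ↔ sgD d = Perm.sign ρ := Iff.rfl

def tF (Λ : Type) [Fintype Λ] [DecidableEq Λ] : FF Λ :=
  ⟨(zD, 1), mem_FF.2 (by simp [sgD_cen _ cen_zD])⟩

theorem Th_mem {l : ι} {p : D × Perm (Lam γ l)} : Th l p ∈ HH γ {l} ↔ p ∈ FF (Lam γ l) := by
  obtain ⟨d, ρ⟩ := p
  rw [mem_HH, mem_FF, ← zl_eq, sign_Th]
  simp only [Th_comm, true_and]
  rcases Int.units_eq_one_or (sgD d) with h | h <;>
    rcases Int.units_eq_one_or (Perm.sign ρ) with h' | h' <;> simp [h, h']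

theorem exists_equiv_FF (l : ι) :
    ∃ e : FF (Lam γ l) ≃* HH γ {l}, ∀ p, (e p).1 = Th l p.1 := by
  let f : FF (Lam γ l) →* HH γ {l} :=
    ((Th l).comp (FF _).subtype).codRestrict _ fun p => Th_mem.2 p.2
  refine ⟨MulEquiv.ofBijective f ⟨fun a b h => Subtype.ext (Th_inj l (congrArg Subtype.val h)),
    fun c => ?_⟩, fun p => rfl⟩
  obtain ⟨d, ρ, h⟩ := exists_Th (l := l) (c := c.1) (by rw [zl_eq]; exact (mem_HH.1 c.2).1)
  exact ⟨⟨(d, ρ), Th_mem.1 (h ▸ c.2)⟩, Subtype.ext h⟩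

theorem exists_FF_aut {Λ Λ' : Type} [Fintype Λ] [DecidableEq Λ] [Fintype Λ'] [DecidableEq Λ']
    (ω : Perm Λ ≃* Perm Λ') (h : ∀ ρ, Perm.sign (ω ρ) = Perm.sign ρ) :
    ∃ e : FF Λ ≃* FF Λ', ∀ p, (e p).1 = (p.1.1, ω p.1.2) := by
  let f : FF Λ →* FF Λ' := (((MonoidHom.id D).prodMap ω.toMonoidHom).comp (FF Λ).subtype).codRestrict
    _ fun p => mem_FF.2 ((mem_FF.1 p.2).trans (h _).symm)
  refine ⟨MulEquiv.ofBijective f ⟨fun a b e => ?_, fun c => ?_⟩, fun p => rfl⟩
  · have : (a.1.1, ω a.1.2) = (b.1.1, ω b.1.2) := congrArg Subtype.val e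
    simp only [Prod.mk.injEq] at this
    exact Subtype.ext (Prod.ext this.1 (ω.injective this.2))
  · refine ⟨⟨(c.1.1, ω.symm c.1.2), mem_FF.2 ?_⟩, Subtype.ext (Prod.ext rfl ?_)⟩
    · rw [← h, MulEquiv.apply_symm_apply]; exact mem_FF.1 c.2
    · exact ω.apply_symm_apply _

theorem jA_e0 (l : ι) : (jA (Pi.mulSingle l e0) : Perm (Pt ι γ)) =
    swap (pt l (true, false)) (pt l (true, true)) * swap (.inr false) (.inr true) := by
  have h : ∀ q : Q, act e0 q = swap (true, false) (true, true) q := by decide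
  refine Perm.ext fun ω => ?_
  rcases ω with (⟨k, q⟩ | g) | b
  · by_cases hk : k = l
    · subst hk
      rcases q with ⟨_ | _, _ | _⟩ <;> simp [jA_pt, h, swap_apply_def]
    · simp [jA_pt, hk, act_one, swap_apply_def]
  · simp [jA_g, swap_apply_def]
  · cases b <;> simp [jA_b, sgJ_single, sgD_e0, sgnSec, swap_apply_def]

theorem jA_e1 (l : ι) : (jA (Pi.mulSingle l e1) : Perm (Pt ι γ)) =
    swap (pt l (true, false)) (pt l (false, true)) *
      swap (pt l (true, true)) (pt l (false, false)) := by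
  have h : ∀ q : Q, act e1 q = (!q.1, xor q.1 (xor q.2 (!q.1)) ) := by decide
  refine Perm.ext fun ω => ?_
  rcases ω with (⟨k, q⟩ | g) | b
  · by_cases hk : k = l
    · subst hk
      rcases q with ⟨_ | _, _ | _⟩ <;> simp [jA_pt, h, swap_apply_def]
    · simp [jA_pt, hk, act_one, swap_apply_def]
  · simp [jA_g, swap_apply_def]
  · cases b <;> simp [jA_b, sgJ_single, sgD_e1, swap_apply_def]

end H24.Ko
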