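import Mathlib
import Cfsg.Agent.Lib.Kondo.M3

/-! The adjacency pattern forced by the centralizer of an involution. -/

set_option autoImplicit false
set_option linter.unusedSectionVars false

namespace H24.Ko

open DihedralGroup Subgroup Equiv

variable {G : Type*} [Group G] [Finite G] {ι γ : Type} [Fintype ι] [DecidableEq ι] [Fintype γ]
  [DecidableEq γ]

theorem zcomm (j : (ι → D) →* G) {g : G} (h : ∀ l, g * j (zl l) = j (zl l) * g) (I : Finset ι) :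
    g * j (zI I) = j (zI I) * g := by
  induction I using Finset.induction_on with
  | empty => simp [zI_empty]
  | insert a s ha ih => rw [zI_insert _ _ ha, map_mul, ← mul_assoc, h, mul_assoc, ih, mul_assoc]

/-- the configuration -/
structure Cfg (G : Type*) [Group G] (γ : Type) [Fintype γ] [DecidableEq γ] (I : Finset ι) where
  K : Dat G ι
  E : Emb (HH γ I) G
  hj : ∀ d, K.j d = E.f (jA d)
  hC : E.hom.range = centralizer {K.j (zI I)}
  nc : ∀ g ∈ normalizer (K.j.range : Set G), (∀ l, g * K.j (zl l) = K.j (zl l) * g) →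
    g ∈ K.j.range

theorem exists_cfg [Subsingleton γ] {I : Finset ι} (l : ι) (E : Emb (HH γ I) G)
    (hC : E.hom.range = centralizer {E.f (jA (zI I))}) : ∃ c : Cfg G γ I, c.E = E := by
  let j : (ι → D) →* G := E.hom.comp (jA.codRestrict _ (jA_HH I))
  have hj : ∀ d, j d = E.f (jA d) := fun _ => rfl
  have nc : ∀ g ∈ normalizer (j.range : Set G), (∀ l, g * j (zl l) = j (zl l) * g) →
      g ∈ j.range := by
    intro g hg h
    obtain ⟨c, hc, rfl⟩ := E.exists_of_mem (x := g) (by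
      rw [hC, mem_centralizer_singleton_iff]; exact zcomm j h I)
    obtain ⟨d, rfl⟩ := nc_model l (mem_HH.1 hc).2
      (fun k => (E.comm_iff hc (jA_HH _ _)).1 (h k)) fun d => by
        obtain ⟨d', e⟩ := (mem_normalizer_iff.1 hg _).1 ⟨d, rfl⟩
        refine ⟨d', E.inj _ (mul_mem (mul_mem hc (jA_HH _ _)) (inv_mem hc)) _ (jA_HH _ _) ?_⟩
        rw [E.conj hc (jA_HH _ _), ← hj, ← hj, e]
    exact ⟨d, rfl⟩
  obtain ⟨K, hK⟩ := exists_dat_of_nc j (fun a b h => jA_inj (E.inj _ (jA_HH _ _) _ (jA_HH _ _) h)) nc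
  exact ⟨⟨K, E, fun d => by rw [hK]; rfl, by rw [hK]; exact hC, by rw [hK]; exact nc⟩, rfl⟩

namespace Cfg

variable {I : Finset ι} (c : Cfg G γ I) {l l' : ι}

theorem wt_of {C : Perm (Pt ι γ)} (hC : C ∈ HH γ I) {d d' : ι → D}
    (h : C * jA d * C⁻¹ = jA d') : c.K.wt (c.K.j d) = c.K.wt (c.K.j d') :=
  c.K.wt_eq (g := c.E.f C) (by rw [c.hj, c.hj, ← c.E.conj hC (jA_HH _ _), h])

theorem exists_of_comm {g : G} (h : g * c.K.j (zI I) = c.K.j (zI I) * g) :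
    ∃ C ∈ HH γ I, c.E.f C = g :=
  c.E.exists_of_mem (by rw [c.hC]; exact mem_centralizer_singleton_iff.2 h)

theorem comm_z {C : Perm (Pt ι γ)} (hC : C ∈ HH γ I) :
    c.E.f C * c.K.j (zI I) = c.K.j (zI I) * c.E.f C := by
  have := c.E.mem hC
  rw [c.hC] at this
  exact mem_centralizer_singleton_iff.1 this

theorem wab (hl : l ∈ I) (hl' : l' ∉ I) {a e : D} (he : e = e1 ∨ (e = e0 ∧ sgD a = 1))
    (I' : Finset ι) (h1 : l ∉ I') (h2 : l' ∉ I') :
    c.K.wt (c.K.j (Pi.mulSingle l a * zl l' * zI I')) =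
      c.K.wt (c.K.j (Pi.mulSingle l a * Pi.mulSingle l' e * zI I')) := by
  have hne : l ≠ l' := fun e => hl' (e ▸ hl)
  rcases he with rfl | ⟨rfl, ha⟩
  · obtain ⟨C, hC, H⟩ := loc (γ := γ) hne I ca ca_s (by simpa [zI, hl, hl'] using ca_1)
    exact c.wt_of hC (H _ _ _ _ (ca_2 a) I' h1 h2)
  · obtain ⟨C, hC, H⟩ := loc (γ := γ) hne I cb cb_s (by simpa [zI, hl, hl'] using cb_1)
    exact c.wt_of hC (H _ _ _ _ (cb_2 a ha) I' h1 h2)

theorem wc (hl : l ∈ I) (hl' : l' ∉ I) (I' : Finset ι) (h1 : l ∉ I') (h2 : l' ∉ I') :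
    c.K.wt (c.K.j (Pi.mulSingle l e0 * Pi.mulSingle l' e0 * zI I')) =
      c.K.wt (c.K.j (Pi.mulSingle l e0 * zI I')) := by
  have hne : l ≠ l' := fun e => hl' (e ▸ hl)
  obtain ⟨C, hC, H⟩ := loc (γ := γ) hne I cc cc_s (by simpa [zI, hl, hl'] using cc_1)
  simpa using c.wt_of hC (H _ _ _ _ cc_2 I' h1 h2)

theorem wd (hl : l ∈ I) (hl' : l' ∈ I) (hne : l ≠ l') :
    c.K.wt (c.K.j (Pi.mulSingle l e0 * Pi.mulSingle l' e0)) = 1 := by
  obtain ⟨C, hC, H⟩ := loc (γ := γ) hne I cd cd_s (by simpa [zI, hl, hl'] using cd_1)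
  have := c.wt_of hC (H _ _ _ _ cd_2 ∅ (by simp) (by simp))
  rw [zI_empty, mul_one, mul_one, Pi.mulSingle_one, mul_one, c.K.wt_zl] at this
  exact this

variable {c}

theorem eq_single {w : ι → D} {u : G} (T : c.K.Tv l w u)
    (h : c.K.wt (c.K.j (Pi.mulSingle l (w l))) = 1) : w = Pi.mulSingle l (w l) := by
  rcases T.uniq (single_cen l (w l)) (by simp) (by simpa using T.ni.2) h with e | e
  · exact e.symm
  · have := congrFun e l
    simp at this
    exact absurd this zD_ne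

theorem out_single (hl : l ∈ I) (hl' : l' ∉ I) {w : ι → D} {u : G} (T : c.K.Tv l' w u)
    (h : w l' = e0 ∨ w l' = e1) : w = Pi.mulSingle l' (w l') := by
  refine eq_single T ?_
  have := c.wab hl hl' (a := 1) (e := w l') (by rcases h with h | h <;> simp [h]) ∅ (by simp)
    (by simp)
  simp only [zI_empty, mul_one, Pi.mulSingle_one, one_mul] at this
  rw [← this, c.K.wt_zl]

variable {w0 w1 w0' w1' w' : ι → D} {u0 u1 u0' u1' u' : G}

theorem swap_mid (a b : ι → D) (I' : Finset ι) : a * zI I' * b = a * b * zI I' := by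
  rw [mul_assoc, zI_comm, mul_assoc]

theorem mid_erase (a b : ι → D) {I' : Finset ι} {k : ι} (h : k ∈ I') :
    a * zI I' * b * zI {k} = a * b * zI (I'.erase k) := by
  rw [swap_mid, mul_assoc, zI_erase h, ← zl_eq, ← zl_comm, mul_assoc _ (zl k), zl_sq, mul_one]

theorem out_zero (hl : l ∈ I) (hl' : l' ∉ I) (T0 : c.K.Tv l w0 u0) (e0l : w0 l = e0)
    (T0' : c.K.Tv l' w0' u0') (e0l' : w0' l' = e0) (T1' : c.K.Tv l' w1' u1')
    (e1l' : w1' l' = e1) :
    (w0 l' = 1 ∧ c.K.Adj w0 w0' ∧ ¬ c.K.Adj w0 w1') ∨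
      (w0 l' = zD ∧ c.K.Adj w0 w1' ∧ ¬ c.K.Adj w0 w0') := by
  have hne : l ≠ l' := fun e => hl' (e ▸ hl)
  obtain ⟨Φ, hΦ, e⟩ := split_single w0 l T0.cen
  have s0 := out_single hl hl' T0' (Or.inl e0l')
  have s1 := out_single hl hl' T1' (Or.inr e1l')
  rw [e0l] at e
  rw [e0l'] at s0
  rw [e1l'] at s1
  have w2 : c.K.wt (c.K.j (w0 * zI {l'})) = 2 := by
    rw [T0.wt, Finset.erase_eq_of_notMem (by simpa using hne)]; simp
  by_cases h : l' ∈ Φ
  · refine Or.inr ⟨by rw [e]; simp [zI, h, hne.symm], ?_, ?_⟩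
    · rw [T0.adj_iff T1' hne {l'}, e, mid_erase _ _ h, s1,
        ← c.wab hl hl' (Or.inl rfl) _ (by simp [hΦ]) (by simp), mul_assoc, ← zI_erase h, ← e, T0.wt1]
      simp [Finset.erase_eq_of_notMem, hne]
    · rw [T0.adj_iff T0' hne {l'}, e, mid_erase _ _ h, s0, c.wc hl hl' _ (by simp [hΦ]) (by simp)]
      have := mid_erase (Pi.mulSingle l e0) 1 h
      rw [mul_one, mul_one, ← e] at this
      rw [← this, w2]
      simp [Finset.erase_eq_of_notMem, hne]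
  · refine Or.inl ⟨by rw [e]; simp [zI, h, hne.symm], ?_, ?_⟩
    · rw [Dat.Adj, e, swap_mid, s0, c.wc hl hl' _ hΦ h, ← e, T0.wt1]
    · rw [Dat.Adj, e, swap_mid, s1, ← c.wab hl hl' (Or.inl rfl) _ hΦ h, ← swap_mid, ← e, zl_eq, w2]
      decide

theorem out_one (hl : l ∈ I) (hl' : l' ∉ I) (T0 : c.K.Tv l w0 u0) (e0l : w0 l = e0)
    (T1 : c.K.Tv l w1 u1) (e1l : w1 l = e1)
    (T0' : c.K.Tv l' w0' u0') (e0l' : w0' l' = e0) (T1' : c.K.Tv l' w1' u1')
    (e1l' : w1' l' = e1) : w1 l' = 1 ∧ ¬ c.K.Adj w1 w0' ∧ ¬ c.K.Adj w1 w1' := by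
  have hne : l ≠ l' := fun e => hl' (e ▸ hl)
  obtain ⟨Φ, hΦ, e⟩ := split_single w1 l T1.cen
  have s0 := out_single hl hl' T0' (Or.inl e0l')
  have s1 := out_single hl hl' T1' (Or.inr e1l')
  rw [e1l] at e
  rw [e0l'] at s0
  rw [e1l'] at s1
  have w2 : c.K.wt (c.K.j (w1 * zI {l'})) = 2 := by
    rw [T1.wt, Finset.erase_eq_of_notMem (by simpa using hne)]; simp
  by_cases h : l' ∈ Φ
  · exfalso
    have a0 : c.K.Adj w1 w0' := by
      rw [T1.adj_iff T0' hne {l'}, e, mid_erase _ _ h, s0,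
        ← c.wab hl hl' (Or.inr ⟨rfl, sgD_e1⟩) _ (by simp [hΦ]) (by simp), mul_assoc, ← zI_erase h,
        ← e, T1.wt1]
      simp [Finset.erase_eq_of_notMem, hne]
    have a1 : c.K.Adj w1 w1' := by
      rw [T1.adj_iff T1' hne {l'}, e, mid_erase _ _ h, s1,
        ← c.wab hl hl' (Or.inl rfl) _ (by simp [hΦ]) (by simp), mul_assoc, ← zI_erase h, ← e, T1.wt1]
      simp [Finset.erase_eq_of_notMem, hne]
    have b0 := T1.adj_both T0 (by rw [e0l, e1l]; decide) T0' T1' (by rw [e0l', e1l']; decide) hne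
      a0 a1
    have b1 := T1.adj_both T0 (by rw [e0l, e1l]; decide) T1' T0' (by rw [e0l', e1l']; decide) hne
      a1 a0
    rcases out_zero hl hl' T0 e0l T0' e0l' T1' e1l' with h | h
    · exact h.2.2 b1
    · exact h.2.2 b0
  · refine ⟨by rw [e]; simp [zI, h, hne.symm], ?_, ?_⟩
    · rw [Dat.Adj, e, swap_mid, s0, ← c.wab hl hl' (Or.inr ⟨rfl, sgD_e1⟩) _ hΦ h, ← swap_mid, ← e,
        zl_eq, w2]
      decide
    · rw [Dat.Adj, e, swap_mid, s1, ← c.wab hl hl' (Or.inl rfl) _ hΦ h, ← swap_mid, ← e, zl_eq, w2]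
      decide

theorem in_one (hl : l ∈ I) (hl' : l' ∈ I) (hne : l ≠ l') (T1 : c.K.Tv l w1 u1)
    (e1l : w1 l = e1) (T' : c.K.Tv l' w' u') : ¬ c.K.Adj w1 w' := by
  intro h
  obtain ⟨g, h1, h2⟩ := T1.move T' hne h I hl hl'
  obtain ⟨C, hC, rfl⟩ := c.exists_of_comm (mul_inv_eq_iff_eq_mul.1 h1)
  rw [c.hj, c.hj, ← c.E.conj hC (jA_HH _ _)] at h2
  have h3 := not_e1 hl hC (c.E.inj _ (mul_mem (mul_mem hC (jA_HH _ _)) (inv_mem hC)) _
    (jA_HH _ _) h2) l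
  simp only [Pi.mul_apply, Pi.mulSingle_eq_same, e1l] at h3
  rcases T'.cen l hne with e | e <;> rw [e] at h3 <;> exact absurd h3 (by decide)

theorem in_zero (hl : l ∈ I) (hl' : l' ∈ I) (hne : l ≠ l') (T0 : c.K.Tv l w0 u0)
    (e0l : w0 l = e0) (T0' : c.K.Tv l' w0' u0') (e0l' : w0' l' = e0) : c.K.Adj w0 w0' := by
  by_contra h
  obtain ⟨Φ, -, e⟩ := split_single w0 l T0.cen
  obtain ⟨Φ', -, e'⟩ := split_single w0' l' T0'.cen
  have h1 := (T0.nadj T0' hne h).2 (symmDiff Φ Φ')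
  have h2 : w0 * w0' * zI (symmDiff Φ Φ') = Pi.mulSingle l e0 * Pi.mulSingle l' e0 := by
    rw [e0l] at e
    rw [e0l'] at e'
    rw [e, e', ← mul_assoc, swap_mid _ _ Φ, mul_assoc _ (zI Φ), zI_mul, mul_assoc, zI_sq, mul_one]
  rw [h2, c.wd hl hl' hne] at h1
  omega

theorem iso (hl : l ∈ I) (hne : l ≠ l') (T0 : c.K.Tv l w0 u0) (e0l : w0 l = e0)
    (T1 : c.K.Tv l w1 u1) (e1l : w1 l = e1)
    (T0' : c.K.Tv l' w0' u0') (e0l' : w0' l' = e0) (T1' : c.K.Tv l' w1' u1')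
    (e1l' : w1' l' = e1) : ¬ c.K.Adj w1 w0' ∧ ¬ c.K.Adj w1 w1' ∧
      (c.K.Adj w0 w0' ↔ ¬ c.K.Adj w0 w1') := by
  by_cases hl' : l' ∈ I
  · refine ⟨in_one hl hl' hne T1 e1l T0', in_one hl hl' hne T1 e1l T1', iff_of_true
      (in_zero hl hl' hne T0 e0l T0' e0l') ?_⟩
    rw [T0.adj_symm T1' hne]
    exact in_one hl' hl hne.symm T1' e1l' T0
  · obtain ⟨-, h1, h2⟩ := out_one hl hl' T0 e0l T1 e1l T0' e0l' T1' e1l'
    refine ⟨h1, h2, ?_⟩
    rcases out_zero hl hl' T0 e0l T0' e0l' T1' e1l' with h | h <;> tauto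

theorem w1_eq (hG : ∀ N : Subgroup G, N.index ≠ 2) (hl : l ∈ I) (T1 : c.K.Tv l w1 u1)
    (e1l : w1 l = e1) :
    w1 = Pi.mulSingle l e1 ∨ w1 = Pi.mulSingle l e1 * zI (I.erase l) := by
  obtain ⟨w0, u0, T0, e0l⟩ := c.K.exists_tv hG l e0 ni0
  have h1 : ∀ k, k ∉ I → w1 k = 1 := by
    intro k hk
    obtain ⟨w0', u0', T0', e0l'⟩ := c.K.exists_tv hG k e0 ni0
    obtain ⟨w1', u1', T1', e1l'⟩ := c.K.exists_tv hG k e1 ni1
    exact (out_one hl hk T0 e0l T1 e1l T0' e0l' T1' e1l').1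
  have h2 : ∀ k ∈ I.erase l, ∀ k' ∈ I.erase l, w1 k = w1 k' := by
    intro k hk k' hk'
    rw [Finset.mem_erase] at hk hk'
    have e : swap k k' l = l := swap_apply_of_ne_of_ne hk.1.symm hk'.1.symm
    have h3 := c.wt_of (blk_HH hk.2 hk'.2) (blk_conj (swap k k') w1)
    rw [T1.wt1] at h3
    rcases T1.uniq (d := w1 ∘ swap k k') (fun i hi => T1.cen _ fun e' => hi
      ((swap k k').injective (e'.trans e.symm))) (by simp [e]) (by simpa [e] using T1.ni.2) h3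
      with h | h
    · simpa using congrFun h k'
    · simpa [hk'.1] using congrFun h k'
  by_cases h3 : ∃ k ∈ I.erase l, w1 k = zD
  · obtain ⟨k, hk, e⟩ := h3
    right
    funext i
    by_cases hi : i = l
    · subst hi; simp [zI, e1l]
    by_cases hi' : i ∈ I
    · simp [zI, hi, hi', ← e, h2 k hk i (Finset.mem_erase.2 ⟨hi, hi'⟩)]
    · simp [zI, hi, hi', h1 i hi']
  · left
    funext i
    by_cases hi : i = l
    · subst hi; simp [e1l]
    by_cases hi' : i ∈ I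
    · rw [Pi.mulSingle_eq_of_ne hi]
      exact (T1.cen i hi).resolve_right fun e => h3 ⟨i, Finset.mem_erase.2 ⟨hi, hi'⟩, e⟩
    · simp [hi, h1 i hi']

end Cfg

end H24.Ko
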