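import Mathlib
import Cfsg.Agent.Lib.Perm29.AutAlt

/-! Three-cycles inverted by a transposition, and normal generation of involution centralizers. -/

set_option autoImplicit false
set_option linter.unusedSectionVars false
set_option linter.unusedSimpArgs false

namespace H24.Ko

open Subgroup Equiv H29

variable {α : Type*} [DecidableEq α]

theorem eq_cyc_of_inv {p q : α} (h : p ≠ q) {y : Perm α} (h3 : y ^ 3 = 1) (h1 : y ≠ 1)
    (hs : swap p q * y * swap p q = y⁻¹) :
    ∃ i, p ≠ i ∧ q ≠ i ∧ (y = cyc p q i ∨ y = cyc q p i) := by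
  have y3 : ∀ x, y (y (y x)) = x := fun x => by
    have := congrArg (fun σ : Perm α => σ x) h3
    simpa [pow_succ] using this
  have ys : ∀ x, swap p q (y (swap p q x)) = y (y x) := fun x => by
    have := congrArg (fun σ : Perm α => σ x) hs
    simp only [Perm.mul_apply] at this
    rw [this, Perm.inv_eq_iff_eq, y3]
  have key : ∀ x, y x ≠ x → x ≠ p → x ≠ q → (y x = p ∧ y p = q) ∨ (y x = q ∧ y q = p) := by
    intro x a b c
    have e := ys x
    rw [swap_apply_of_ne_of_ne b c] at e
    by_cases e1 : y x = p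
    · left; rw [e1, swap_apply_left] at e; exact ⟨e1, e.symm⟩
    by_cases e2 : y x = q
    · right; rw [e2, swap_apply_right] at e; exact ⟨e2, e.symm⟩
    rw [swap_apply_of_ne_of_ne e1 e2] at e
    exact absurd (y.injective e).symm a
  obtain ⟨i, a, b, c⟩ : ∃ i, y i ≠ i ∧ i ≠ p ∧ i ≠ q := by
    obtain ⟨x, hx⟩ : ∃ x, y x ≠ x := by
      by_contra h2
      push Not at h2
      exact h1 (Perm.ext h2)
    have a1 : y (y x) ≠ y x := fun e => hx (y.injective e)
    have a2 : y (y (y x)) ≠ y (y x) := fun e => a1 (y.injective e)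
    have a3 : y (y x) ≠ x := fun e => hx (by have := y3 x; rwa [e] at this)
    by_contra h2
    push Not at h2
    have b1 := h2 x hx
    have b2 := h2 _ a1
    have b3 := h2 _ a2
    grind
  refine ⟨i, b.symm, c.symm, ?_⟩
  rcases key i a b c with ⟨e1, e2⟩ | ⟨e1, e2⟩
  · left
    have e3 : y q = i := by rw [← e2, ← e1, y3]
    ext x
    rw [cyc_apply h b.symm c.symm]
    split_ifs with h1 h2 h4
    · rw [h1, e2]
    · rw [h2, e3]
    · rw [h4, e1]
    · by_contra hx
      rcases key x hx h1 h2 with ⟨f1, -⟩ | ⟨f1, -⟩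
      · exact h4 (y.injective (f1.trans e1.symm))
      · exact h1 (y.injective (f1.trans e2.symm))
  · right
    have e3 : y p = i := by rw [← e2, ← e1, y3]
    ext x
    rw [cyc_apply h.symm c.symm b.symm]
    split_ifs with h1 h2 h4
    · rw [h1, e2]
    · rw [h2, e3]
    · rw [h4, e1]
    · by_contra hx
      rcases key x hx h2 h1 with ⟨f1, -⟩ | ⟨f1, -⟩
      · exact h1 (y.injective (f1.trans e2.symm))
      · exact h4 (y.injective (f1.trans e1.symm))

theorem cyc_sq {p q i j : α} (h : p ≠ q) (a : p ≠ i) (b : q ≠ i) (c : p ≠ j) (d : q ≠ j)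
    (e : i ≠ j) : (cyc p q i * cyc p q j) ^ 2 = 1 ∧ (cyc p q i * cyc q p j) ^ 2 ≠ 1 := by
  constructor
  · ext x
    simp only [sq, Perm.mul_apply, cyc_apply h a b, cyc_apply h c d, Perm.one_apply]
    grind
  · intro h1
    have := congrArg (fun σ : Perm α => σ p) h1
    simp only [sq, Perm.mul_apply, cyc_apply h a b, cyc_apply h.symm d c, Perm.one_apply] at this
    grind

theorem orient_inv {p q : α} (h : p ≠ q) {y : Perm α} (h3 : y ^ 3 = 1) (h1 : y ≠ 1)
    (hs : swap p q * y * swap p q = y⁻¹) : y⁻¹ p = q ↔ ¬ y p = q := by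
  obtain ⟨i, a, b, rfl | rfl⟩ := eq_cyc_of_inv h h3 h1 hs
  · rw [Perm.inv_eq_iff_eq]; simp [cyc_apply h a b, h, h.symm, a]
  · rw [Perm.inv_eq_iff_eq]; simp [cyc_apply h.symm b a, h, h.symm, b.symm]

theorem orient {p q : α} (h : p ≠ q) {y y' : Perm α} (h3 : y ^ 3 = 1) (h1 : y ≠ 1)
    (hs : swap p q * y * swap p q = y⁻¹) (h3' : y' ^ 3 = 1) (h1' : y' ≠ 1)
    (hs' : swap p q * y' * swap p q = y'⁻¹) (n1 : y ≠ y') (n2 : y ≠ y'⁻¹) :
    (y * y') ^ 2 = 1 ↔ (y p = q ↔ y' p = q) := by
  have inv : ∀ i, p ≠ i → q ≠ i → cyc p q i = (cyc q p i)⁻¹ := fun i a b => by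
    rw [cyc_inv, cyc_rot a.symm b.symm h]
  obtain ⟨i, a, b, e⟩ := eq_cyc_of_inv h h3 h1 hs
  obtain ⟨j, c, d, e'⟩ := eq_cyc_of_inv h h3' h1' hs'
  have hij : i ≠ j := by
    rintro rfl
    rcases e with rfl | rfl <;> rcases e' with rfl | rfl
    · exact n1 rfl
    · exact n2 (inv i a b)
    · exact n2 (by rw [inv i a b, inv_inv])
    · exact n1 rfl
  rcases e with rfl | rfl <;> rcases e' with rfl | rfl
  · simp [(cyc_sq h a b c d hij).1, cyc_apply h a b, cyc_apply h c d]
  · simp [(cyc_sq h a b c d hij).2, cyc_apply h a b, cyc_apply h.symm d c, h, d.symm]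
  · simp [(cyc_sq h.symm b a d c hij).2, cyc_apply h.symm b a, cyc_apply h c d, h, b.symm]
  · simp [(cyc_sq h.symm b a d c hij).1, cyc_apply h.symm b a, cyc_apply h.symm d c, h, b.symm,
      d.symm]

variable [Fintype α]

theorem normal_gen {a : Perm α} (ha : a * a = 1) (N : Subgroup (Perm α))
    (hN : ∀ b, b * a = a * b → Perm.sign b = 1 → ∀ y ∈ N, b * y * b⁻¹ ∈ N) {p q x0 y0 : α}
    (hpq : p ≠ q) (hp : a p = p) (hq : a q = q) (hx : a x0 ≠ x0) (hy : a y0 ≠ y0)
    (h1 : y0 ≠ x0) (h2 : y0 ≠ a x0) (g1 : swap x0 (a x0) * swap p q ∈ N)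
    (g2 : swap x0 y0 * swap (a x0) (a y0) ∈ N) (b : Perm α) (hb : b * a = a * b)
    (hs : Perm.sign b = 1) : b ∈ N := by
  have aa : ∀ z, a (a z) = z := fun z => by rw [← Perm.mul_apply, ha]; rfl
  have ai : ∀ x y, a x = a y ↔ x = y := fun _ _ => a.injective.eq_iff
  have ia : a⁻¹ = a := inv_eq_of_mul_eq_one_right ha
  have cm : ∀ {b : Perm α}, b * a = a * b ↔ a * b * a⁻¹ = b := by
    intro b; rw [mul_inv_eq_iff_eq_mul, eq_comm]
  have cj : ∀ (b : Perm α) (x y : α), b * swap x y * b⁻¹ = swap (b x) (b y) := fun b x y =>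
    (swap_apply_apply b x y).symm
  have cj2 : ∀ (b : Perm α) (x y z w : α), b * (swap x y * swap z w) * b⁻¹ =
      swap (b x) (b y) * swap (b z) (b w) := fun b x y z w => by rw [← cj, ← cj]; group
  have ba : ∀ {b : Perm α}, b * a = a * b → ∀ z, b (a z) = a (b z) := fun h z =>
    congrArg (fun σ : Perm α => σ z) h
  have mulB : ∀ {b c : Perm α}, b * a = a * b → c * a = a * c → b * c * a = a * (b * c) :=
    fun {b c} h h' => by rw [mul_assoc, h', ← mul_assoc, h, mul_assoc]
  have sB : ∀ {x y}, a x = x → a y = y → swap x y * a = a * swap x y := fun {x y} h h' => by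
    rw [cm, cj, h, h']
  have t1B : ∀ x, swap x (a x) * a = a * swap x (a x) := fun x => by
    rw [cm, cj, aa, swap_comm]
  have t2B : ∀ x y, a x ≠ x → a y ≠ y → y ≠ a x →
      swap x y * swap (a x) (a y) * a = a * (swap x y * swap (a x) (a y)) := fun x y h h' h'' => by
    rw [cm, cj2, aa, aa]
    ext z
    simp only [Perm.mul_apply, swap_apply_def]
    grind
  -- all conjugates of an element commuting with `swap p q`
  have hN' : ∀ y ∈ N, swap p q * y * (swap p q)⁻¹ = y → ∀ b, b * a = a * b → b * y * b⁻¹ ∈ N := by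
    intro y hy hc b hb
    rcases Int.units_eq_one_or (Perm.sign b) with h | h
    · exact hN b hb h y hy
    · have := hN _ (mulB hb (sB hp hq)) (by simp [h, hpq]) y hy
      rwa [show b * swap p q * y * (b * swap p q)⁻¹ = b * (swap p q * y * (swap p q)⁻¹) * b⁻¹ by
        group, hc] at this
  have mv : ∀ x y, a x ≠ x → a y ≠ y → ∃ b : Perm α, b * a = a * b ∧ b x = y ∧
      ∀ z, z ≠ x → z ≠ a x → z ≠ y → z ≠ a y → b z = z := by
    intro x y h h'
    by_cases e : y = a x
    · exact ⟨_, t1B x, by simp [e], fun z a b _ _ => swap_apply_of_ne_of_ne a b⟩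
    · refine ⟨_, t2B x y h h' e, ?_, fun z a b c d => ?_⟩
      · simp only [Perm.mul_apply, swap_apply_def]; grind
      · simp only [Perm.mul_apply, swap_apply_def]; grind
  have G1 : ∀ x u v, a x ≠ x → a u = u → a v = v → u ≠ v → swap x (a x) * swap u v ∈ N := by
    intro x u v h hu hv huv
    obtain ⟨b, hb, e, hb'⟩ := mv x0 x hx h
    have c1 := hN' _ g1 (by rw [cj2]; simp only [swap_apply_def]; grind [swap_comm])
      (swap (swap p u q) v * swap p u * b) (mulB (mulB (sB (by
        simp only [swap_apply_def]; grind) hv) (sB hp hu)) hb)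
    rw [cj2] at c1
    have e1 := hb' p (by grind) (by grind) (by grind) (by grind)
    have e2 := hb' q (by grind) (by grind) (by grind) (by grind)
    simp only [Perm.mul_apply, ba hb, e, e1, e2] at c1
    convert c1 using 3 <;> simp only [swap_apply_def] <;> grind
  have G2 : ∀ x y, a x ≠ x → a y ≠ y → y ≠ x → y ≠ a x →
      swap x y * swap (a x) (a y) ∈ N := by
    intro x y h h' e e'
    obtain ⟨b, hb, f, -⟩ := mv x0 x hx h
    have k1 : a (b y0) ≠ b y0 := by rw [← ba hb]; exact b.injective.ne hy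
    have k2 : b y0 ≠ x := by rw [← f]; exact b.injective.ne h1
    have k3 : b y0 ≠ a x := by rw [← f, ← ba hb]; exact b.injective.ne h2
    obtain ⟨c, hc, f', hc'⟩ := mv (b y0) y k1 h'
    have c1 := hN' _ g2 (by rw [cj2]; simp only [swap_apply_def]; grind) _ (mulB hc hb)
    rw [cj2] at c1
    have e1 := hc' x (by grind) (by grind) (by grind) (by grind)
    simpa only [Perm.mul_apply, ba hb, ba hc, f, f', e1] using c1
  have ss : swap p q * swap p q = 1 := swap_mul_self p q
  have main : ∀ (n : ℕ) (b : Perm α), b * a = a * b → b.support.card = n →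
      (Perm.sign b = 1 → b ∈ N) ∧ (Perm.sign b = -1 → b * swap p q ∈ N) := by
    intro n
    induction n using Nat.strong_induction_on with
    | _ n ih =>
    intro b hb hn
    by_cases h0 : b = 1
    · subst h0; exact ⟨fun _ => one_mem _, by simp⟩
    obtain ⟨x, hx'⟩ : ∃ x, b x ≠ x := by
      by_contra h2
      push Not at h2
      exact h0 (Perm.ext h2)
    -- a generator `g` with `g x = b x`
    obtain ⟨g, gB, gg, gx, gs, gN⟩ : ∃ g : Perm α, g * a = a * g ∧ g * g = 1 ∧ g x = b x ∧
        (∀ z, b z = z → g z = z) ∧ ((Perm.sign g = 1 ∧ g ∈ N) ∨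
          (Perm.sign g = -1 ∧ g * swap p q ∈ N)) := by
      have bi : ∀ x y, b x = b y ↔ x = y := fun _ _ => b.injective.eq_iff
      have bx := ba hb x
      by_cases e : a x = x
      · refine ⟨_, sB e (by rw [← bx, e]), swap_mul_self _ _, swap_apply_left _ _,
          fun z hz => swap_apply_of_ne_of_ne (by grind) (by grind), Or.inr ⟨by simp [hx'.symm], ?_⟩⟩
        have c1 := mul_mem (inv_mem (G1 x0 x (b x) hx e (by rw [← bx, e]) hx'.symm)) g1
        simpa [mul_assoc] using c1
      by_cases e' : b x = a x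
      · exact ⟨_, t1B x, swap_mul_self _ _, by simp [e'],
          fun z hz => swap_apply_of_ne_of_ne (by grind) (by grind),
          Or.inr ⟨by simp [Ne.symm e], G1 x p q e hp hq hpq⟩⟩
      have k1 : a (b x) ≠ b x := by rw [← bx]; exact b.injective.ne e
      refine ⟨_, t2B x (b x) e k1 e', ?_, ?_, fun z hz => ?_, Or.inl ⟨?_, G2 x (b x) e k1 hx' e'⟩⟩
      · ext z; simp only [Perm.mul_apply, swap_apply_def, Perm.one_apply]; grind
      · simp only [Perm.mul_apply, swap_apply_def]; grind
      · have z1 : z ≠ a x := by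
          rintro rfl
          exact hx' (a.injective (bx.symm.trans hz))
        have z2 : z ≠ a (b x) := by
          rintro rfl
          rw [← bx] at hz
          exact hx' (a.injective (bx.symm.trans (b.injective hz)))
        have z3 : z ≠ x := by rintro rfl; exact hx' hz
        have z4 : z ≠ b x := by rintro rfl; exact hx' (b.injective hz)
        rw [Perm.mul_apply, swap_apply_of_ne_of_ne z1 z2, swap_apply_of_ne_of_ne z3 z4]
      · have : a x ≠ a (b x) := a.injective.ne hx'.symm
        simp [hx'.symm, this]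
    have hlt : (g * b).support.card < n := by
      rw [← hn]
      refine Finset.card_lt_card ⟨fun z hz => ?_, fun h => ?_⟩
      · rw [Perm.mem_support] at hz ⊢
        intro e
        exact hz (by rw [Perm.mul_apply, e, gs z e])
      · refine Perm.mem_support.1 (h (Perm.mem_support.2 hx')) ?_
        rw [Perm.mul_apply, ← gx, ← Perm.mul_apply, gg]; rfl
    have eb : b = g * (g * b) := by rw [← mul_assoc, gg, one_mul]
    have sb : Perm.sign b = Perm.sign g * Perm.sign (g * b) := by rw [← map_mul, ← eb]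
    rcases gN with ⟨s1, m1⟩ | ⟨s1, m1⟩
    · obtain ⟨i1, i2⟩ := ih _ hlt (g * b) (mulB gB hb) rfl
      rw [s1, one_mul] at sb
      refine ⟨fun h => ?_, fun h => ?_⟩
      · rw [eb]; exact mul_mem m1 (i1 (sb ▸ h))
      · rw [eb, mul_assoc]; exact mul_mem m1 (i2 (sb ▸ h))
    · obtain ⟨i1, i2⟩ := ih _ hlt (swap p q * (g * b) * (swap p q)⁻¹)
        (mulB (mulB (sB hp hq) (mulB gB hb)) (by rw [swap_inv]; exact sB hp hq))
        (Perm.card_support_conj)
      have s2 : Perm.sign (swap p q * (g * b) * (swap p q)⁻¹) = -Perm.sign b := by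
        rw [sb, s1]; simp [hpq]
      refine ⟨fun h => ?_, fun h => ?_⟩
      · have := mul_mem m1 (i2 (by rw [s2, h]))
        rw [eb]
        convert this using 1
        simp only [swap_inv, mul_assoc, swap_mul_self, swap_mul_self_mul, mul_one]
      · have := mul_mem m1 (i1 (by rw [s2, h, neg_neg]))
        rw [eb]
        convert this using 1
        simp only [swap_inv, mul_assoc, swap_mul_self, swap_mul_self_mul, mul_one]
  exact (main _ b hb rfl).1 hs

end H24.Ko
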