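import Mathlib
import Cfsg.Agent.Lib.Kondo.C1
import Cfsg.Agent.Lib.Kondo.M2
import Cfsg.Agent.Lib.LyC.Carm

/-! The missing Carmichael generator. -/

set_option autoImplicit false
set_option linter.unusedSectionVars false

namespace H24.Ko

open DihedralGroup Subgroup Equiv H40.Alt

variable {G : Type*} [Group G] [Finite G] {ι γ : Type} [Fintype ι] [DecidableEq ι] [Fintype γ]
  [DecidableEq γ]

/-- indices outside a block -/
def ob (l : ι) (i : (ι × Q) ⊕ γ) : Prop := ∀ q, i ≠ .inl (l, q)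

def pA (d : ι → D) (i : (ι × Q) ⊕ γ) : (ι × Q) ⊕ γ := Perm.sumCongr (kap0 d) (1 : Perm γ) i

theorem pA_inl (d : ι → D) (k : ι) (q : Q) :
    pA d (.inl (k, q) : (ι × Q) ⊕ γ) = .inl (k, act (d k) q) := rfl

theorem pA_mul (d d' : ι → D) (i : (ι × Q) ⊕ γ) : pA (d * d') i = pA d (pA d' i) := by
  rcases i with ⟨k, q⟩ | g
  · simp [pA_inl, act_mul]
  · rfl

theorem pA_ob {l : ι} {i : (ι × Q) ⊕ γ} (h : ob l i) (a : D) : pA (Pi.mulSingle l a) i = i := by
  rcases i with ⟨k, q⟩ | g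
  · have hk : k ≠ l := fun e => h q (by rw [e])
    simp [pA_inl, hk, act_one]
  · rfl

theorem ob_pA {l : ι} {i : (ι × Q) ⊕ γ} (h : ob l i) (d : ι → D) : ob l (pA d i) := by
  rcases i with ⟨k, q⟩ | g
  · have hk : k ≠ l := fun e => h q (by rw [e])
    intro q'; simp [pA_inl, hk]
  · intro q'; simp [pA]

theorem ob_ne {l k : ι} (h : k ≠ l) (q : Q) : ob l (.inl (k, q) : (ι × Q) ⊕ γ) := by
  intro q'; simp [h]

theorem jA_xp' (d : ι → D) (i : (ι × Q) ⊕ γ) :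
    jA d * xp i * (jA d)⁻¹ = xp (pA d i) ^ (sgJ d : ℤ) := jA_xp d i

theorem xp_HH {l : ι} {i : (ι × Q) ⊕ γ} (h : ob l i) : xp i ∈ HH γ {l} := by
  refine mem_HH.2 ⟨?_, sign_xp i⟩
  have := jA_xp' (zl l) i
  rw [pA_ob h, sgJ_single, sgD_cen _ cen_zD] at this
  rw [← zl_eq]
  exact (mul_inv_eq_iff_eq_mul.1 (by simpa using this)).symm

theorem xp_ne {κ : Type} [DecidableEq κ] {i i' : κ} (h : i ≠ i') :
    xp i ≠ xp i' ∧ xp i ≠ (xp i')⁻¹ := by
  constructor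
  · intro e
    have := xp_inl_self i
    rw [e, xp_inl_ne h] at this
    simp at this
  · intro e
    have := xp_inl_self i
    rw [e, Perm.inv_eq_iff_eq, xp_false] at this
    simp at this

theorem cube_D : ∀ d : D, d ^ 3 = 1 → d = 1 := by decide

namespace Cfg

variable {l l' : ι} (c : Cfg G γ {l})

theorem conj_xp {i : (ι × Q) ⊕ γ} (h : ob l i) (d : ι → D) :
    c.K.j d * c.E.f (xp i) * (c.K.j d)⁻¹ = c.E.f (xp (pA d i)) ^ (sgJ d : ℤ) := by
  rw [c.hj, ← c.E.conj (jA_HH _ _) (xp_HH h), jA_xp', c.E.zpow (xp_HH (ob_pA h d))]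

theorem of_comm {g : G} (h : g * c.K.j (zl l) = c.K.j (zl l) * g) :
    ∃ d ρ, Th l (d, ρ) ∈ HH γ {l} ∧ c.E.f (Th l (d, ρ)) = g := by
  obtain ⟨C, hC, e⟩ := c.exists_of_comm (g := g) (by rwa [← zl_eq])
  obtain ⟨d, ρ, rfl⟩ := exists_Th (l := l) (c := C) (by rw [zl_eq]; exact (mem_HH.1 hC).1)
  exact ⟨d, ρ, hC, e⟩

/-- the elements of order three that centralize `θ` and are inverted by `η` -/
def RR (θ η y : G) : Prop := y ^ 3 = 1 ∧ y ≠ 1 ∧ θ * y * θ⁻¹ = y ∧ η * y * η⁻¹ = y⁻¹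

theorem org (hl : l ≠ l') {h η : G}
    (h1 : h * c.K.j (zl l) * h⁻¹ = c.K.j (Pi.mulSingle l e0 * Pi.mulSingle l' e0))
    (h2 : h * c.K.j (Pi.mulSingle l e0 * Pi.mulSingle l' e0) * h⁻¹ = η) :
    ∃ o : G → Prop, (∀ y, RR (c.K.j (Pi.mulSingle l e0 * Pi.mulSingle l' e0)) η y →
      (o y⁻¹ ↔ ¬ o y)) ∧ ∀ y y', RR (c.K.j (Pi.mulSingle l e0 * Pi.mulSingle l' e0)) η y →
      RR (c.K.j (Pi.mulSingle l e0 * Pi.mulSingle l' e0)) η y' → y ≠ y' → y ≠ y'⁻¹ →
      ((y * y') ^ 2 = 1 ↔ (o y ↔ o y')) := by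
  set θ := c.K.j (Pi.mulSingle l e0 * Pi.mulSingle l' e0) with hθ
  have hpq : (pt l' (true, false) : Pt ι γ) ≠ pt l' (true, true) := by simp
  have key : ∀ y, RR θ η y → ∃ C ∈ HH γ {l}, c.E.f C = h⁻¹ * y * h ∧ C ^ 3 = 1 ∧ C ≠ 1 ∧
      swap (pt l' (true, false)) (pt l' (true, true)) * C *
        swap (pt l' (true, false)) (pt l' (true, true)) = C⁻¹ := by
    rintro y ⟨y3, y1, a, b⟩
    obtain ⟨d, ρ, hC, e⟩ := c.of_comm (g := h⁻¹ * y * h) (by
      have e1 : c.K.j (zl l) = h⁻¹ * θ * h := by rw [← h1]; group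
      rw [e1]
      calc _ = h⁻¹ * (θ * y * θ⁻¹) * θ * h := by rw [a]; group
        _ = _ := by group)
    have c3 : Th l (d, ρ) ^ 3 = 1 := c.E.eq_one (pow_mem hC 3) (by
      rw [c.E.pow hC, e, show h⁻¹ * y * h = h⁻¹ * y * h⁻¹⁻¹ by simp, conj_pow, y3]; simp)
    have hd : d = 1 := by
      rw [← map_pow, map_eq_one_iff _ (Th_inj l)] at c3
      exact cube_D d (congrArg Prod.fst c3)
    subst hd
    refine ⟨_, hC, e, c3, fun e' => y1 ?_, ?_⟩
    · rw [e', c.E.one] at e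
      calc y = h * (h⁻¹ * y * h) * h⁻¹ := by group
        _ = 1 := by rw [← e]; group
    have e2 : jA (Pi.mulSingle l e0 * Pi.mulSingle l' e0) * Th l (1, ρ) *
        (jA (Pi.mulSingle l e0 * Pi.mulSingle l' e0))⁻¹ = (Th l (1, ρ))⁻¹ := by
      refine c.E.inj _ (mul_mem (mul_mem (jA_HH _ _) hC) (inv_mem (jA_HH _ _))) _ (inv_mem hC) ?_
      rw [c.E.conj (jA_HH _ _) hC, c.E.inv hC, ← c.hj, ← hθ, e]
      have e1 : θ = h⁻¹ * η * h := by rw [← h2]; group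
      rw [e1]
      calc _ = h⁻¹ * (η * y * η⁻¹) * h := by group
        _ = _ := by rw [b]; group
    have e3 : (jA (Pi.mulSingle l e0 * Pi.mulSingle l' e0) : Perm (Pt ι γ)) =
        swap (pt l' (true, false)) (pt l' (true, true)) *
          swap (pt l (true, false)) (pt l (true, true)) := by
      rw [(Pi.mulSingle_commute hl _ _).eq, map_mul, jA_e0, jA_e0]
      have : (swap (.inr false) (.inr true) : Perm (Pt ι γ)) *
          swap (pt l (true, false)) (pt l (true, true)) =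
          swap (pt l (true, false)) (pt l (true, true)) * swap (.inr false) (.inr true) := by
        rw [mul_swap_eq_swap_mul]; simp [swap_apply_def]
      rw [mul_assoc, ← mul_assoc (swap (Sum.inr false) (Sum.inr true) : Perm (Pt ι γ)), this,
        mul_assoc, swap_mul_self, mul_one]
    have e4 : swap (pt l (true, false)) (pt l (true, true)) * Th l (1, ρ) =
        Th l (1, ρ) * swap (pt l (true, false)) (pt l (true, true)) := by
      rw [mul_swap_eq_swap_mul, Th_pt, Th_pt, act_one, act_one]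
    rw [← e2, e3, mul_assoc _ _ (Th l _), e4]
    simp [mul_assoc]
  refine ⟨fun y => ∃ C ∈ HH γ {l}, c.E.f C = h⁻¹ * y * h ∧
    C (pt l' (true, false)) = pt l' (true, true), fun y hy => ?_, fun y y' hy hy' n1 n2 => ?_⟩
  · obtain ⟨C, hC, e, c3, c1, cs⟩ := key y hy
    have := orient_inv hpq c3 c1 cs
    have e' : c.E.f C⁻¹ = h⁻¹ * y⁻¹ * h := by rw [c.E.inv hC, e]; group
    constructor
    · rintro ⟨C1, h1, h2, h3⟩ ⟨C2, h4, h5, h6⟩
      rw [c.E.inj _ h1 _ (inv_mem hC) (h2.trans e'.symm)] at h3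
      rw [c.E.inj _ h4 _ hC (h5.trans e.symm)] at h6
      exact this.1 h3 h6
    · exact fun h => ⟨_, inv_mem hC, e', this.2 fun h' => h ⟨C, hC, e, h'⟩⟩
  · obtain ⟨C, hC, e, c3, c1, cs⟩ := key y hy
    obtain ⟨C', hC', e', c3', c1', cs'⟩ := key y' hy'
    have := orient hpq c3 c1 cs c3' c1' cs'
      (fun h => n1 (by rw [h, e'] at e; simpa using e.symm))
      (fun h => n2 (by
        rw [h, c.E.inv hC', e'] at e
        simpa [mul_assoc] using e.symm))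
    have a1 : ∀ {y C}, C ∈ HH γ {l} → c.E.f C = h⁻¹ * y * h → ((∃ C ∈ HH γ {l},
        c.E.f C = h⁻¹ * y * h ∧ C (pt l' (true, false)) = pt l' (true, true)) ↔
        C (pt l' (true, false)) = pt l' (true, true)) := by
      intro y C hC e
      exact ⟨fun ⟨C1, h1, h2, h3⟩ => c.E.inj _ h1 _ hC (h2.trans e.symm) ▸ h3,
        fun h => ⟨C, hC, e, h⟩⟩
    beta_reduce
    rw [a1 hC e, a1 hC' e', ← this]
    have a2 : c.E.f ((C * C') ^ 2) = h⁻¹ * (y * y') ^ 2 * h := by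
      rw [c.E.pow (mul_mem hC hC'), c.E.mul _ hC _ hC', e, e']
      simp only [sq]; group
    constructor
    · intro h
      exact c.E.eq_one (pow_mem (mul_mem hC hC') 2) (by rw [a2, h]; group)
    · intro h0
      rw [h0, c.E.one] at a2
      calc _ = h * (h⁻¹ * (y * y') ^ 2 * h) * h⁻¹ := by group
        _ = 1 := by rw [← a2]; group

theorem ker_cases : ∀ a : D, sgD a = 1 → a = 1 ∨ a = zD ∨ a = e1 ∨ a = e1 * zD := by decide
theorem ker_reg : ∀ (a : D) (q : Q), sgD a = 1 → act a q = q → a = 1 := by decide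

/-- the new generator -/
theorem exists_gen (hG : ∀ N : Subgroup G, N.index ≠ 2) (hl : l ≠ l')
    (good : IsConj (c.K.j (zl l)) (c.K.j (Pi.mulSingle l e0))) :
    ∃ X : G, X ^ 3 = 1 ∧ c.K.j (Pi.mulSingle l e0) * X * (c.K.j (Pi.mulSingle l e0))⁻¹ = X⁻¹ ∧
      (∀ a, sgD a = 1 → a ≠ 1 → c.K.j (Pi.mulSingle l a) * X * (c.K.j (Pi.mulSingle l a))⁻¹ ≠ X ∧
        (X * (c.K.j (Pi.mulSingle l a) * X * (c.K.j (Pi.mulSingle l a))⁻¹)) ^ 2 = 1) ∧
      ∀ i, ob l i → (X * c.E.f (xp i)) ^ 2 = 1 := by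
  have hI : l ∈ ({l} : Finset ι) := by simp
  have hI' : l' ∉ ({l} : Finset ι) := by simpa using hl.symm
  obtain ⟨w0, u0, T0, e0l⟩ := c.K.exists_tv hG l e0 ni0
  obtain ⟨w1, u1, T1, e1l⟩ := c.K.exists_tv hG l e1 ni1
  obtain ⟨w0', u0', T0', e0l'⟩ := c.K.exists_tv hG l' e0 ni0
  obtain ⟨w1', u1', T1', e1l'⟩ := c.K.exists_tv hG l' e1 ni1
  have adj : c.K.Adj w0 w0' := by
    have s0 := eq_single T0 (by rw [e0l, ← c.K.wt_isConj good, c.K.wt_zl])
    rcases out_zero hI hI' T0 e0l T0' e0l' T1' e1l' with h | h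
    · exact h.2.1
    · rw [s0, Pi.mulSingle_eq_of_ne hl.symm] at h
      exact absurd h.1.symm zD_ne
  obtain ⟨g, γ', hγ, hs, g0, g0'⟩ := T0.swap T0' hl adj
  have g1 := T0.image' T1 (by rw [e0l, e1l]; decide) T0' T1' (by rw [e0l', e1l']; decide) hγ
    (by rw [hs]; simp) g0
  have g1' := T0'.image' T1' (by rw [e0l', e1l']; decide) T0 T1 (by rw [e0l, e1l]; decide) hγ
    (by rw [hs]; simp) g0'
  obtain ⟨uf, Tf⟩ := T0.flip
  have adjf : c.K.Adj (w0 * zl l) w0' := by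
    rw [Dat.Adj, mul_assoc, ← zl_comm, ← mul_assoc, zl_eq, (T0.adj T0' hl adj).2]
    simp
  have cm := T0.comm (T0'.mem hl (w0 l))
  have a1 := (T0'.adj T0 hl.symm ((T0.adj_symm T0' hl).1 adj)).1
  have a2 : uf * c.K.j (zl l) * uf⁻¹ = c.K.j w0 := by
    rw [Tf.z, zl_comm, ← mul_assoc, zl_sq, one_mul]
  have h1 : u0' * uf * c.K.j (zl l) * (u0' * uf)⁻¹ = c.K.j (w0 * w0') := by
    rw [← a1, ← a2]; group
  have h2 : u0' * uf * c.K.j (w0 * w0') * (u0' * uf)⁻¹ = c.K.j w0 := by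
    have b1 : uf * c.K.j (w0 * w0') * uf⁻¹ = c.K.j (w0 * w0') := by
      have : w0 = zl l * (w0 * zl l) := by rw [zl_comm, ← mul_assoc, zl_sq, one_mul]
      conv_lhs => rw [this]
      rw [Dat.conj_mul, Dat.conj_mul, a2, Tf.fix, (Tf.adj T0' hl adjf).1, ← map_mul, ← map_mul,
        ← mul_assoc w0, T0.sq, one_mul, ← mul_assoc w0', zl_comm, ← mul_assoc, zl_sq, one_mul, cm]
    calc _ = u0' * (uf * c.K.j (w0 * w0') * uf⁻¹) * u0'⁻¹ := by group
      _ = _ := by rw [b1, Dat.conj_mul, a1, T0'.fix, ← map_mul, mul_assoc, T0'.sq, mul_one]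
  have s0 := eq_single T0 (by rw [e0l, ← c.K.wt_isConj good, c.K.wt_zl])
  have s1 : w1 = Pi.mulSingle l e1 := by
    rcases w1_eq hG hI T1 e1l with h | h
    · exact h
    · simpa [zI_empty] using h
  have s0' := out_single hI hI' T0' (Or.inl e0l')
  have s1' := out_single hI hI' T1' (Or.inr e1l')
  rw [e0l] at s0
  rw [e0l'] at s0'
  rw [e1l'] at s1'
  subst s0 s1 s0' s1'
  obtain ⟨o, o1, o2⟩ := c.org hl h1 h2
  have gz : γ' (zl l) = zl l' := by rw [sig_spec, hs]; simp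
  have gz' : γ' (zl l') = zl l := by rw [sig_spec, hs]; simp
  have pre : ∀ {l l' : ι}, γ' (zl l') = zl l → (γ' (Pi.mulSingle l' e1) = Pi.mulSingle l e1 ∨
      γ' (Pi.mulSingle l' e1) = Pi.mulSingle l e1 * zl l) → ∀ a, sgD a = 1 →
      ∃ a', sgD a' = 1 ∧ γ' (Pi.mulSingle l' a') = Pi.mulSingle l a := by
    intro l l' hz h a ha
    rcases ker_cases a ha with rfl | rfl | rfl | rfl
    · exact ⟨1, by simp, by simp⟩
    · exact ⟨zD, ha, hz⟩
    · rcases h with h | h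
      · exact ⟨e1, ha, h⟩
      · exact ⟨e1 * zD, by decide, by
          rw [Pi.mulSingle_mul, map_mul, h, hz, mul_assoc, zl_sq, mul_one]⟩
    · rcases h with h | h
      · exact ⟨e1 * zD, ha, by rw [Pi.mulSingle_mul, map_mul, h, hz, Pi.mulSingle_mul]⟩
      · exact ⟨e1, by decide, by rw [h, Pi.mulSingle_mul]⟩
  have R1 : ∀ i, ob l i → pA (Pi.mulSingle l' e0) i = i →
      RR (c.K.j (Pi.mulSingle l e0 * Pi.mulSingle l' e0)) (c.K.j (Pi.mulSingle l e0))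
        (c.E.f (xp i)) := by
    intro i hi hi'
    refine ⟨by rw [← c.E.pow (xp_HH hi), xp_pow_three, c.E.one], fun e => ?_, ?_, ?_⟩
    · have := xp_false i
      rw [c.E.eq_one (xp_HH hi) e] at this
      simp at this
    · rw [c.conj_xp hi, pA_mul, hi', pA_ob hi, map_mul, sgJ_single, sgJ_single]; simp
    · rw [c.conj_xp hi, pA_ob hi, sgJ_single, sgD_e0]; simp
  have o5 : ob l (.inl (l', false, false) : (ι × Q) ⊕ γ) := ob_ne hl.symm _
  have p5 : pA (Pi.mulSingle l' e0) (.inl (l', false, false) : (ι × Q) ⊕ γ) =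
      .inl (l', false, false) := by
    rw [pA_inl, Pi.mulSingle_eq_same]; rfl
  set x5 := c.E.f (xp (.inl (l', false, false))) with hx5
  have R5 : RR _ _ x5 := R1 _ o5 p5
  have gθ : γ' (Pi.mulSingle l e0 * Pi.mulSingle l' e0) =
      Pi.mulSingle l e0 * Pi.mulSingle l' e0 := by rw [map_mul, g0, g0', cm]
  have cg : ∀ d y, c.K.j (γ' d) * (g * y * g⁻¹) * (c.K.j (γ' d))⁻¹ =
      g * (c.K.j d * y * (c.K.j d)⁻¹) * g⁻¹ := fun d y => by rw [hγ]; group
  have R0 : ∀ b, RR (c.K.j (Pi.mulSingle l e0 * Pi.mulSingle l' e0)) (c.K.j (Pi.mulSingle l e0))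
      (g * x5 ^ ex b * g⁻¹) := by
    intro b
    refine ⟨by rw [conj_pow, ex_cube b R5.1]; simp, fun e => R5.2.1 ?_, ?_, ?_⟩
    · rw [conj_eq_one_iff] at e
      rw [← ex_ex b x5, e, one_zpow]
    · conv_lhs => rw [← gθ]
      rw [cg, ← conj_zpow, R5.2.2.1]
    · conv_lhs => rw [← g0']
      rw [cg, ← conj_zpow, c.conj_xp o5, p5, sgJ_single, sgD_e0]
      simp [mul_assoc, hx5]
  obtain ⟨b, hb⟩ : ∃ b, (o (g * x5 ^ ex b * g⁻¹) ↔ o x5) := by
    by_cases h : o (g * x5 ^ ex false * g⁻¹) ↔ o x5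
    · exact ⟨_, h⟩
    · refine ⟨true, ?_⟩
      have := o1 _ (R0 false)
      have e : (g * x5 ^ ex false * g⁻¹)⁻¹ = g * x5 ^ ex true * g⁻¹ := by simp [ex, mul_assoc]
      rw [← e, this]; tauto
  have H3 : ∀ a, sgD a = 1 → a ≠ 1 → c.K.j (Pi.mulSingle l a) * (g * x5 ^ ex b * g⁻¹) *
      (c.K.j (Pi.mulSingle l a))⁻¹ ≠ g * x5 ^ ex b * g⁻¹ ∧ (g * x5 ^ ex b * g⁻¹ *
      (c.K.j (Pi.mulSingle l a) * (g * x5 ^ ex b * g⁻¹) * (c.K.j (Pi.mulSingle l a))⁻¹)) ^ 2 =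
      1 := by
    intro a ha h1
    obtain ⟨a', ha', e⟩ := pre gz' g1' a ha
    have hne : (.inl (l', false, false) : (ι × Q) ⊕ γ) ≠
        pA (Pi.mulSingle l' a') (.inl (l', false, false)) := by
      intro e'
      rw [pA_inl, Pi.mulSingle_eq_same] at e'
      simp only [Sum.inl.injEq, Prod.mk.injEq, true_and] at e'
      rw [ker_reg a' _ ha' e'.symm] at e
      exact h1 (by simpa using (congrFun e l).symm)
    rw [← e, cg, ← conj_zpow, c.conj_xp o5, sgJ_single, ha']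
    simp only [Units.val_one, zpow_one]
    constructor
    · intro e'
      have e2 := congrArg (fun x => x ^ ex b) (mul_left_cancel (mul_right_cancel e'))
      simp only [ex_ex] at e2
      exact (xp_ne hne).1 (c.E.inj _ (xp_HH o5) _ (xp_HH (ob_pA o5 _)) e2.symm)
    · refine sq_conj g ((sq_ex b).2 ?_)
      rw [← c.E.mul _ (xp_HH o5) _ (xp_HH (ob_pA o5 _)),
        ← c.E.pow (mul_mem (xp_HH o5) (xp_HH (ob_pA o5 _))), xp_mul_sq hne, c.E.one]
  have H4 : ∀ i, ob l i → pA (Pi.mulSingle l' e0) i = i →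
      (g * x5 ^ ex b * g⁻¹ * c.E.f (xp i)) ^ 2 = 1 := by
    intro i hi hi'
    have t1 : c.K.j (zl l) * c.E.f (xp i) * (c.K.j (zl l))⁻¹ = c.E.f (xp i) := by
      rw [c.conj_xp hi, pA_ob hi, sgJ_single, sgD_cen _ cen_zD]; simp
    have n := (H3 zD (sgD_cen _ cen_zD) zD_ne).1
    rw [o2 _ _ (R0 b) (R1 i hi hi') (fun e => n (by rw [e, t1]))
      (fun e => n (by rw [e, ← conj_inv, t1])), hb]
    by_cases e : .inl (l', false, false) = i
    · rw [← e]
    · rw [← o2 _ _ R5 (R1 i hi hi') (fun e' => (xp_ne e).1 (c.E.inj _ (xp_HH o5) _ (xp_HH hi) e'))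
        (fun e' => (xp_ne e).2 (c.E.inj _ (xp_HH o5) _ (inv_mem (xp_HH hi))
          (by rw [c.E.inv (xp_HH hi)]; exact e'))),
        ← c.E.mul _ (xp_HH o5) _ (xp_HH hi), ← c.E.pow (mul_mem (xp_HH o5) (xp_HH hi)),
        xp_mul_sq e, c.E.one]
  refine ⟨_, (R0 b).1, (R0 b).2.2.2, H3, fun i hi => ?_⟩
  by_cases hi' : pA (Pi.mulSingle l' e0) i = i
  · exact H4 i hi hi'
  obtain ⟨a', ha', e⟩ := pre gz g1 e1 sgD_e1
  have h5 : pA (Pi.mulSingle l' e0) (pA (Pi.mulSingle l' e1) i) = pA (Pi.mulSingle l' e1) i := by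
    rcases i with ⟨k, q⟩ | i
    · by_cases hk : k = l'
      · subst hk
        have : ∀ q : Q, act e0 q ≠ q → act e0 (act e1 q) = act e1 q := by decide
        simp only [pA_inl, Pi.mulSingle_eq_same] at hi' ⊢
        rw [this q fun e => hi' (by rw [e])]
      · simp [pA_inl, hk, act_one]
    · rfl
  have h6 := H4 _ (ob_pA hi _) h5
  have h7 := c.conj_xp hi (Pi.mulSingle l' e1)
  rw [sgJ_single, sgD_e1] at h7
  simp only [Units.val_one, zpow_one] at h7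
  have h8 : c.K.j (Pi.mulSingle l' e1) * (g * x5 ^ ex b * g⁻¹) * (c.K.j (Pi.mulSingle l' e1))⁻¹ =
      g * x5 ^ ex b * g⁻¹ := by
    rw [← e, cg, ← conj_zpow, c.conj_xp o5, pA_ob o5, sgJ_single, ha']; simp [hx5]
  rw [← h7, ← h8] at h6
  have h9 := sq_conj (c.K.j (Pi.mulSingle l' e1))⁻¹ h6
  simpa [mul_assoc] using h9

end Cfg

end H24.Ko
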