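import Mathlib
import Cfsg.Agent.Lib.Kondo.T1

/-! Identification of the group when the involution moves four points, in the good case. -/

set_option autoImplicit false
set_option linter.unusedSectionVars false

namespace H24.Ko

open DihedralGroup Subgroup Equiv H40.Alt H40

variable {G : Type*} [Group G] [Finite G] {ι γ : Type} [Fintype ι] [DecidableEq ι] [Fintype γ]
  [DecidableEq γ]

def vq : Q → D
  | (false, false) => 1
  | (false, true) => zD
  | (true, true) => e1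
  | (true, false) => e1 * zD

theorem sg_vq : ∀ q, sgD (vq q) = 1 := by decide
theorem vq_eqv : ∀ a q, a * vq q = vq (act a q) * (if sgD a = 1 then 1 else e0) := by decide
theorem vq_ne : ∀ q q', q ≠ q' → (vq q)⁻¹ * vq q' ≠ 1 := by decide

theorem supp_wt [Subsingleton γ] (K : Dat G ι) (E : Emb (alternatingGroup (Pt ι γ)) G)
    (h : ∀ I, E.f (jA (zI I)) = K.j (zI I)) {σ : Perm (Pt ι γ)} (hσ : σ ∈ alternatingGroup _)
    (h2 : σ * σ = 1) : σ.support.card = 4 * K.wt (E.f σ) := by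
  obtain ⟨s, hs⟩ := four_dvd h2 hσ
  have h1 : σ.support.card ≤ Fintype.card (Pt ι γ) := Finset.card_le_univ _
  have h3 : Fintype.card γ ≤ 1 := Fintype.card_le_one_iff_subsingleton.2 ‹_›
  rw [card_Pt] at h1
  obtain ⟨I, -, hI⟩ := Finset.exists_subset_card_eq (s := (Finset.univ : Finset ι)) (n := s)
    (by simp; omega)
  obtain ⟨c, hc, e⟩ := conj_alt (σ := (jA (zI I) : Perm (Pt ι γ))) (τ := σ)
    (by rw [← map_mul, zI_sq, map_one]) h2 (by rw [supp_zI, hI, hs])
  rw [hs, ← e, E.conj hc (jA_alt _), K.wt_conj, h, K.wt_zI, hI]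

namespace Cfg

variable {l l' : ι} (c : Cfg G γ {l})

open Classical in
/-- the Carmichael generators -/
noncomputable def yy (X : G) (i : (ι × Q) ⊕ γ) : G :=
  if h : ∃ q, i = .inl (l, q) then
    c.K.j (Pi.mulSingle l (vq h.choose)) * X * (c.K.j (Pi.mulSingle l (vq h.choose)))⁻¹
  else c.E.f (xp i)

theorem yy_in (X : G) (q : Q) : c.yy X (.inl (l, q)) =
    c.K.j (Pi.mulSingle l (vq q)) * X * (c.K.j (Pi.mulSingle l (vq q)))⁻¹ := by
  have h : ∃ q', (.inl (l, q) : (ι × Q) ⊕ γ) = .inl (l, q') := ⟨q, rfl⟩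
  have : h.choose = q := by simp
  rw [yy, dif_pos h, this]

theorem yy_ob (X : G) {i : (ι × Q) ⊕ γ} (h : ob l i) : c.yy X i = c.E.f (xp i) :=
  dif_neg fun ⟨q, e⟩ => h q e

theorem ob_or (l : ι) (i : (ι × Q) ⊕ γ) : ob l i ∨ ∃ q, i = .inl (l, q) := by
  by_cases h : ∃ q, i = .inl (l, q)
  · exact Or.inr h
  · exact Or.inl fun q e => h ⟨q, e⟩

theorem good_top [Subsingleton γ] (hG : ∀ N : Subgroup G, N.index ≠ 2) (hl : l ≠ l')
    (good : IsConj (c.K.j (zl l)) (c.K.j (Pi.mulSingle l e0))) :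
    Nonempty (G ≃* alternatingGroup (Pt ι γ)) := by
  classical
  obtain ⟨X, X3, Xe, XV, Xo⟩ := c.exists_gen hG hl good
  have fx : ∀ i, ob l i → ∀ a, c.K.j (Pi.mulSingle l a) * c.E.f (xp i) *
      (c.K.j (Pi.mulSingle l a))⁻¹ = c.E.f (xp i) ^ (sgD a : ℤ) := by
    intro i hi a
    rw [c.conj_xp hi, pA_ob hi, sgJ_single]
  have mix : ∀ q i, ob l i → (c.yy X (.inl (l, q)) * c.yy X i) ^ 2 = 1 := by
    intro q i hi
    have := fx i hi (vq q)
    rw [sg_vq] at this
    simp only [Units.val_one, zpow_one] at this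
    rw [yy_in, yy_ob _ _ hi, ← this]
    exact sq_conj _ (Xo i hi)
  obtain ⟨φ, hφ⟩ := carm_hom (c.yy X) (fun i => by
    rcases ob_or l i with h | ⟨q, rfl⟩
    · rw [yy_ob _ _ h, ← c.E.pow (xp_HH h), xp_pow_three, c.E.one]
    · rw [yy_in, conj_pow, X3]; simp) (fun i k hik => by
    rcases ob_or l i with h | ⟨q, rfl⟩ <;> rcases ob_or l k with h' | ⟨q', rfl⟩
    · rw [yy_ob _ _ h, yy_ob _ _ h', ← c.E.mul _ (xp_HH h) _ (xp_HH h'),
        ← c.E.pow (mul_mem (xp_HH h) (xp_HH h')), xp_mul_sq hik, c.E.one]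
    · exact sq_symm (mix _ _ h)
    · exact mix _ _ h'
    · have := sq_conj (c.K.j (Pi.mulSingle l (vq q))) (XV ((vq q)⁻¹ * vq q')
        (by rw [map_mul, map_inv, sg_vq, sg_vq]; simp)
        (vq_ne _ _ fun e => hik (by rw [e]))).2
      rw [yy_in, yy_in, ← this, Pi.mulSingle_mul, Pi.mulSingle_inv, map_mul, map_inv]
      congr 1; group)
  have hcard : 10 ≤ Fintype.card (Pt ι γ) := by
    have : 2 ≤ Fintype.card ι := Fintype.one_lt_card_iff.2 ⟨_, _, hl⟩
    rw [card_Pt]; omega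
  have o5 : ob l (.inl (l', false, false) : (ι × Q) ⊕ γ) := ob_ne hl.symm _
  have hinj : Function.Injective φ := by
    have := alternatingGroup.isSimpleGroup (α := Pt ι γ) (by simp only [Nat.card_eq_fintype_card]; omega)
    rw [← MonoidHom.ker_eq_bot_iff]
    refine (φ.normal_ker.eq_bot_or_eq_top).resolve_right fun h => ?_
    have h1 : φ (xa (.inl (l', false, false))) = 1 := by
      rw [← MonoidHom.mem_ker, h]; trivial
    rw [hφ, yy_ob _ _ o5] at h1
    have := xp_false (.inl (l', false, false) : (ι × Q) ⊕ γ)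
    rw [c.E.eq_one (xp_HH o5) h1] at this
    simp at this
  obtain ⟨E, hE⟩ := Emb.exists_of_hom φ hinj
  have xA : ∀ i : (ι × Q) ⊕ γ, xp i ∈ alternatingGroup (Pt ι γ) := fun i => sign_xp i
  have Ey : ∀ i, E.f (xp i) = c.yy X i := fun i => by rw [← hφ, ← hE]; rfl
  have cenP : ∀ g : G, (∀ i, g * c.yy X i * g⁻¹ = c.yy X i) →
      ∀ σ ∈ alternatingGroup (Pt ι γ), g * E.f σ = E.f σ * g := by
    intro g hg σ hσ
    have : (MulAut.conj g).toMonoidHom.comp φ = φ := hom_ext fun i => by simpa [hφ] using hg i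
    have h1 := DFunLike.congr_fun this ⟨σ, hσ⟩
    rw [← hE] at h1
    exact mul_inv_eq_iff_eq_mul.1 h1
  have eqv : ∀ a i, c.K.j (Pi.mulSingle l a) * c.yy X i * (c.K.j (Pi.mulSingle l a))⁻¹ =
      c.yy X (pA (Pi.mulSingle l a) i) ^ (sgD a : ℤ) := by
    intro a i
    rcases ob_or l i with h | ⟨q, rfl⟩
    · rw [pA_ob h, yy_ob _ _ h, fx i h]
    · rw [pA_inl, Pi.mulSingle_eq_same, yy_in, yy_in, conj_zpow]
      have h1 := congrArg (fun d => c.K.j (Pi.mulSingle l d)) (vq_eqv a q)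
      simp only [Pi.mulSingle_mul, map_mul] at h1
      calc _ = (c.K.j (Pi.mulSingle l a) * c.K.j (Pi.mulSingle l (vq q))) * X *
          (c.K.j (Pi.mulSingle l a) * c.K.j (Pi.mulSingle l (vq q)))⁻¹ := by group
        _ = _ := ?_
      rw [h1]
      rcases Int.units_eq_one_or (sgD a) with h | h
      · simp [h]
      · rw [if_neg (by rw [h]; decide), h]
        simp only [Units.val_neg, Units.val_one, zpow_neg, zpow_one]
        rw [← Xe]; group
  have cg : ∀ a, ∀ σ ∈ alternatingGroup (Pt ι γ),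
      (E.f (jA (Pi.mulSingle l a)))⁻¹ * c.K.j (Pi.mulSingle l a) * E.f σ =
      E.f σ * ((E.f (jA (Pi.mulSingle l a)))⁻¹ * c.K.j (Pi.mulSingle l a)) := by
    intro a
    refine cenP _ fun i => ?_
    have h1 := E.conj (jA_alt (Pi.mulSingle l a)) (xA i)
    rw [jA_xp', E.zpow (xA _), Ey, Ey, sgJ_single, ← eqv] at h1
    calc _ = (E.f (jA (Pi.mulSingle l a)))⁻¹ * (c.K.j (Pi.mulSingle l a) * c.yy X i *
        (c.K.j (Pi.mulSingle l a))⁻¹) * E.f (jA (Pi.mulSingle l a)) := by group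
      _ = _ := by rw [h1]; group
  let E2 : Emb (HH γ {l}) G := ⟨E.f, fun a ha b hb => E.mul a (mem_HH.1 ha).2 b (mem_HH.1 hb).2,
    fun a ha b hb => E.inj a (mem_HH.1 ha).2 b (mem_HH.1 hb).2⟩
  have hle : E2.hom.range ≤ c.E.hom.range := by
    rintro _ ⟨⟨C, hC⟩, rfl⟩
    rw [c.hC, mem_centralizer_singleton_iff, ← zl_eq]
    change E.f C * _ = _ * E.f C
    have h1 := cg zD C (mem_HH.1 hC).2
    have h2 : E.f C * E.f (jA (zl l)) = E.f (jA (zl l)) * E.f C :=
      (E.comm_iff (mem_HH.1 hC).2 (jA_alt _)).2 (by rw [zl_eq]; exact (mem_HH.1 hC).1)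
    calc _ = E.f C * E.f (jA (zl l)) * ((E.f (jA (zl l)))⁻¹ * c.K.j (zl l)) := by group
      _ = E.f (jA (zl l)) * (E.f C * ((E.f (jA (zl l)))⁻¹ * c.K.j (zl l))) := by
        rw [h2, mul_assoc]
      _ = _ := by rw [← h1]; group
  have heq : E2.hom.range = c.E.hom.range := eq_of_le_of_card_ge hle (by
    rw [← Nat.card_congr (MonoidHom.ofInjective E2.hom_inj).toEquiv,
      ← Nat.card_congr (MonoidHom.ofInjective c.E.hom_inj).toEquiv])
  have t1 : E.f (jA (zl l)) = c.K.j (zl l) := by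
    have hm : (E.f (jA (zl l)))⁻¹ * c.K.j (zl l) ∈ E2.hom.range := by
      refine mul_mem (inv_mem (E2.mem (jA_HH _ _))) ?_
      rw [heq, c.hj]; exact c.E.mem (jA_HH _ _)
    obtain ⟨C, hC, e⟩ := E2.exists_of_mem hm
    change E.f C = _ at e
    have hz : (⟨C, (mem_HH.1 hC).2⟩ : alternatingGroup (Pt ι γ)) ∈ center _ := by
      rw [mem_center_iff]
      rintro ⟨σ, hσ⟩
      refine Subtype.ext ((E.comm_iff hσ (mem_HH.1 hC).2).1 ?_)
      rw [e]; exact (cg zD σ hσ).symm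
    rw [alternatingGroup.center_eq_bot (by simp only [Nat.card_eq_fintype_card]; omega),
      mem_bot] at hz
    obtain rfl : C = 1 := congrArg Subtype.val hz
    rw [E.one, eq_comm, inv_mul_eq_one] at e
    exact e
  have t2 : ∀ k, E.f (jA (zl k)) = c.K.j (zl k) := by
    intro k
    by_cases hk : k = l
    · rw [hk, t1]
    have hm := H60.LyC.fix_mem (ι := (ι × Q) ⊕ γ) (Function.Embedding.subtype (ob l))
      (σ := jA (zl k)) (jA_alt _) (by
        intro i hi
        rcases ob_or l i with h | ⟨q, rfl⟩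
        · exact absurd ⟨⟨i, h⟩, rfl⟩ hi
        · change jA (zl k) (pt l q) = pt l q
          rw [jA_pt, zl, Pi.mulSingle_eq_of_ne (Ne.symm hk), act_one])
    rw [c.hj]
    refine (closure_induction (p := fun σ _ => σ ∈ HH γ {l} ∧ E.f σ = c.E.f σ) ?_ ?_ ?_ ?_ hm).2
    · rintro _ ⟨⟨i, hi⟩, rfl⟩
      exact ⟨xp_HH hi, by simpa [Ey] using c.yy_ob X hi⟩
    · exact ⟨one_mem _, by rw [E.one, c.E.one]⟩
    · rintro a b - - ⟨ha, ea⟩ ⟨hb, eb⟩
      exact ⟨mul_mem ha hb, by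
        rw [E.mul a (mem_HH.1 ha).2 b (mem_HH.1 hb).2, c.E.mul a ha b hb, ea, eb]⟩
    · rintro a - ⟨ha, ea⟩
      exact ⟨inv_mem ha, by rw [E.inv (mem_HH.1 ha).2, c.E.inv ha, ea]⟩
  have t3 : ∀ I, E.f (jA (zI I)) = c.K.j (zI I) := by
    intro I
    induction I using Finset.induction_on with
    | empty => simp [zI_empty, E.one]
    | insert a s ha ih =>
      rw [zI_insert _ _ ha, map_mul, map_mul, E.mul _ (jA_alt _) _ (jA_alt _), ih, t2]
  have top := top_of_alt E (fun σ hσ τ hτ s2 t2 h => by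
      rw [supp_wt c.K E t3 hσ s2, supp_wt c.K E t3 hτ t2, c.K.wt_isConj h])
    (t0 := jA (zI {l})) (w0 := jA (zI {l, l'})) (jA_alt _) (by rw [← map_mul, zI_sq, map_one])
    (by simp [supp_zI]) (by
      rw [t3, ← c.hC, ← heq]
      rintro _ ⟨⟨C, hC⟩, rfl⟩
      exact E.mem (mem_HH.1 hC).2) (jA_alt _) (by rw [← map_mul, zI_sq, map_one])
    (fun e => by
      have := supp_zI (γ := γ) {l, l'}
      rw [e, Finset.card_pair hl] at this
      simp at this) (by rw [supp_zI, Finset.card_pair hl]; decide)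
  exact ⟨(MulEquiv.ofBijective E.hom ⟨E.hom_inj, MonoidHom.range_eq_top.1 top⟩).symm⟩

end Cfg

end H24.Ko
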