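import Mathlib
import Cfsg.Agent.Lib.Kondo.T2
import Cfsg.Agent.Lib.ThreeTrans.SymHom

/-! Identification of the group when the involution moves four points. -/

set_option autoImplicit false
set_option linter.unusedSectionVars false

namespace H24.Ko

open DihedralGroup Subgroup Equiv H40.Alt H40

def s6 : ℕ → Perm (Fin 6)
  | 0 => swap 0 1 * swap 2 3 * swap 4 5
  | 1 => swap 0 2 * swap 1 4 * swap 3 5
  | 2 => swap 0 1 * swap 2 5 * swap 3 4
  | 3 => swap 0 2 * swap 1 3 * swap 4 5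
  | _ => swap 0 1 * swap 2 4 * swap 3 5

theorem cox6 : H94.CoxA s6 5 := by
  refine ⟨by decide, fun i h => ?_, fun i j h h' => ?_⟩
  · have : i < 4 := by omega
    interval_cases i <;> decide
  · interval_cases j <;> (have : i < 3 := by omega) <;> interval_cases i <;>
      first | omega | (unfold Commute SemiconjBy; decide)

theorem exists_outer {Λ : Type} [Fintype Λ] [DecidableEq Λ] (h : Fintype.card Λ = 6) {p q : Λ}
    (hpq : p ≠ q) {τ : Perm Λ} (h2 : τ * τ = 1) (hf : ∀ x, τ x ≠ x) :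
    ∃ ω : Perm Λ ≃* Perm Λ, (∀ ρ, Perm.sign (ω ρ) = Perm.sign ρ) ∧ ω (swap p q) = τ := by
  obtain ⟨φ, hφ⟩ := cox6.exists_hom
  have h0 : φ (swap 0 1) = s6 0 := hφ 0
  have h1 : φ (swap 1 2) = s6 1 := hφ 1
  have inj : Function.Injective φ := H94.perm_injective_of_five_le (by simp) φ
    (σ := swap 0 1) (τ := swap 1 2) ⟨0, 1, by decide, rfl⟩ ⟨1, 2, by decide, rfl⟩
    (by rw [h0, h1]; decide)
  let e : Fin 6 ≃ Λ := (Fintype.equivFinOfCardEq h).symm
  let ω0 : Perm Λ ≃* Perm Λ := (e.permCongrHom.symm.trans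
    (MulEquiv.ofBijective φ (Finite.injective_iff_bijective.1 inj))).trans e.permCongrHom
  have a1 : ω0 (swap (e 0) (e 1)) = e.permCongr (s6 0) := by
    rw [← h0]
    simp [ω0, Equiv.permCongrHom, Equiv.permCongr_def]
  have a2 : ∀ x y : Λ, x ≠ y → IsConj (e.permCongr (s6 0)) (ω0 (swap x y)) := fun x y hxy => by
    rw [← a1]
    exact ω0.toMonoidHom.map_isConj (Perm.isConj_swap (by simp) hxy)
  have a3 : IsConj (e.permCongr (s6 0)) τ := by
    refine isConj_of_card ?_ (by rw [sq, h2]) ?_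
    · change e.permCongrHom _ ^ 2 = 1
      rw [← map_pow, show s6 0 ^ 2 = 1 by decide, map_one]
    · have : ∀ x, s6 0 x ≠ x := by decide
      rw [Finset.eq_univ_iff_forall.2 fun x => Perm.mem_support.2 (hf x),
        Finset.eq_univ_iff_forall.2 fun x => Perm.mem_support.2 ?_]
      intro e'
      exact this (e.symm x) (by simpa [Equiv.permCongr_apply, eq_symm_apply] using e')
  obtain ⟨c, hc⟩ := isConj_iff.1 ((a2 p q hpq).symm.trans a3)
  refine ⟨ω0.trans (MulAut.conj c), fun ρ => ?_, hc⟩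
  have : Perm.sign (ω0 ρ) = Perm.sign ρ := by
    induction ρ using Perm.swap_induction_on with
    | one => simp
    | swap_mul f x y hxy ih =>
      rw [map_mul, map_mul, map_mul, ih, Perm.sign_swap hxy, ← isConj_iff_eq.1
        (Perm.sign.map_isConj (a2 x y hxy)), Perm.sign_permCongr]
      congr 1
  simp [this, mul_comm, ← mul_assoc]

variable {G : Type*} [Group G] [Finite G] {ι γ : Type} [Fintype ι] [DecidableEq ι] [Fintype γ]
  [DecidableEq γ]

theorem Dat.Tv.isConj {K : Dat G ι} {l : ι} {w : ι → D} {u : G} (T : K.Tv l w u) :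
    IsConj (K.j (zl l)) (K.j w) := by
  obtain ⟨f, hf⟩ := exists_nc _ T.ni.2
  have h1 := conj_single_nc w l hf
  refine (isConj_iff.2 ⟨u, T.z⟩).trans (IsConj.symm (isConj_iff.2 ⟨K.j (Pi.mulSingle l f), ?_⟩))
  rw [← zl_comm, ← h1, map_mul, map_mul, map_inv]

theorem Cfg.good_or {l : ι} (c : Cfg G γ {l}) (hG : ∀ N : Subgroup G, N.index ≠ 2) :
    IsConj (c.K.j (zl l)) (c.K.j (Pi.mulSingle l e0)) ∨ ∃ l', l' ≠ l ∧
      (∀ i : (ι × Q) ⊕ γ, ob l i → ∃ q, i = .inl (l', q)) ∧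
      IsConj (c.K.j (zl l)) (c.K.j (Pi.mulSingle l e0 * zl l')) := by
  have hI : l ∈ ({l} : Finset ι) := by simp
  obtain ⟨w0, u0, T0, e0l⟩ := c.K.exists_tv hG l e0 ni0
  by_cases h : ∀ k, k ≠ l → w0 k = 1
  · left
    convert T0.isConj using 2
    funext k
    by_cases hk : k = l
    · simp [hk, e0l]
    · simp [hk, h k hk]
  right
  push Not at h
  obtain ⟨l', hl, h⟩ := h
  have hI' : l' ∉ ({l} : Finset ι) := by simpa using hl
  obtain ⟨w1, u1, T1, e1l⟩ := c.K.exists_tv hG l e1 ni1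
  obtain ⟨w0', u0', T0', e0l'⟩ := c.K.exists_tv hG l' e0 ni0
  obtain ⟨w1', u1', T1', e1l'⟩ := c.K.exists_tv hG l' e1 ni1
  obtain ⟨h1, adj, -⟩ := (Cfg.out_zero hI hI' T0 e0l T0' e0l' T1' e1l').resolve_left fun a => h a.1
  have key : ∀ i : (ι × Q) ⊕ γ, ob l i → ∃ q, i = .inl (l', q) := by
    intro i hi
    refine (Cfg.ob_or l' i).resolve_left fun hi' => ?_
    obtain ⟨g, γ', hγ, hs, g0, -⟩ := T0.swap T1' hl.symm adj
    have g1 := T0.image' T1 (by rw [e0l, e1l]; decide) T1' T0' (by rw [e0l', e1l']; decide) hγ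
      (by rw [hs]; simp) g0
    have s1 : w1 = Pi.mulSingle l e1 := by
      rcases Cfg.w1_eq hG hI T1 e1l with h | h
      · exact h
      · simpa [zI_empty] using h
    have s0' := Cfg.out_single hI hI' T0' (Or.inl e0l')
    rw [e0l'] at s0'
    have gz : γ' (zl l) = zl l' := by rw [sig_spec, hs]; simp
    have x1 := c.conj_xp hi (zl l')
    have x2 := c.conj_xp hi (Pi.mulSingle l' e0)
    rw [pA_ob hi', sgJ_single] at x1 x2
    rw [sgD_cen _ cen_zD] at x1
    rw [sgD_e0] at x2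
    simp only [Units.val_neg, Units.val_one, zpow_neg, zpow_one] at x1 x2
    set x := c.E.f (xp i) with hx
    have x3 : x ^ 3 = 1 := by rw [← c.E.pow (xp_HH hi), xp_pow_three, c.E.one]
    obtain ⟨d, ρ, hC, e⟩ := c.of_comm (g := g⁻¹ * x * g) (by
      have e1 : c.K.j (zl l) = g⁻¹ * c.K.j (zl l') * g := by rw [← gz, hγ]; group
      rw [e1]
      calc _ = g⁻¹ * (c.K.j (zl l') * x * (c.K.j (zl l'))⁻¹) * c.K.j (zl l') * g := by
            rw [x1]; group
        _ = _ := by group)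
    have c3 : Th l (d, ρ) ^ 3 = 1 := c.E.eq_one (pow_mem hC 3) (by
      rw [c.E.pow hC, e, show g⁻¹ * x * g = g⁻¹ * x * g⁻¹⁻¹ by simp, conj_pow, x3]; simp)
    have hd : d = 1 := by
      rw [← map_pow, map_eq_one_iff _ (Th_inj l)] at c3
      exact cube_D d (congrArg Prod.fst c3)
    subst hd
    have x4 : g⁻¹ * x * g * c.K.j w1 = c.K.j w1 * (g⁻¹ * x * g) := by
      rw [← e, c.hj, c.E.comm_iff hC (jA_HH _ _), s1, jA_even l sgD_e1, ← map_mul, ← map_mul]
      simp
    have x5 : c.K.j (γ' w1) * x * (c.K.j (γ' w1))⁻¹ = x := by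
      rw [hγ]
      calc _ = g * (c.K.j w1 * (g⁻¹ * x * g)) * (c.K.j w1)⁻¹ * g⁻¹ := by group
        _ = _ := by rw [← x4]; group
    have x6 : x = x⁻¹ := by
      rcases g1 with a | a
      · rw [← x2, ← s0', ← a, x5]
      · rw [a, map_mul] at x5
        rw [← x2, ← s0']
        calc x = _ := x5.symm
          _ = c.K.j w0' * (c.K.j (zl l') * x * (c.K.j (zl l'))⁻¹) * (c.K.j w0')⁻¹ := by group
          _ = _ := by rw [x1]
    have x7 : x = 1 := by
      calc x = x * x⁻¹ * x := by group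
        _ = x ^ 3 := by rw [← x6]; simp [pow_succ]
        _ = 1 := x3
    have := xp_false i
    rw [c.E.eq_one (xp_HH hi) x7] at this
    simp at this
  refine ⟨l', hl, key, ?_⟩
  convert T0.isConj using 2
  funext k
  by_cases hk : k = l
  · simp [hk, e0l, hl.symm]
  · obtain ⟨q, e⟩ := key _ (ob_ne hk (false, false))
    obtain rfl : k = l' := by simp at e; exact e.1
    simp [hk, h1]

theorem exists_cfg_FF [Subsingleton γ] {l : ι} (Ψ : FF (Lam γ l) →* G)
    (inj : Function.Injective Ψ) (hC : Ψ.range = centralizer {Ψ (tF _)}) :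
    ∃ c : Cfg G γ {l}, ∀ p : FF (Lam γ l), c.E.f (Th l p.1) = Ψ p := by
  obtain ⟨e, he⟩ := exists_equiv_FF (γ := γ) l
  obtain ⟨E, hE⟩ := Emb.exists_of_hom (Ψ.comp e.symm.toMonoidHom) (inj.comp e.symm.injective)
  have h1 : ∀ p : FF (Lam γ l), E.f (Th l p.1) = Ψ p := fun p => by
    rw [← he, ← E.hom_apply, hE]; simp
  obtain ⟨c, hc⟩ := exists_cfg l E (by
    rw [← zl_eq, jA_zl, show Th l (zD, 1) = Th l (tF (Lam γ l)).1 from rfl, h1, ← hC, hE,
      MonoidHom.range_comp, MonoidHom.range_eq_top.2 e.symm.surjective, ← MonoidHom.range_eq_map])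
  exact ⟨c, by rw [hc]; exact h1⟩

theorem thm2 [Subsingleton γ] (hG : ∀ N : Subgroup G, N.index ≠ 2) {l l0 : ι} (hl0 : l ≠ l0)
    (Ψ : FF (Lam γ l) →* G) (inj : Function.Injective Ψ)
    (hC : Ψ.range = centralizer {Ψ (tF _)}) : Nonempty (G ≃* alternatingGroup (Pt ι γ)) := by
  obtain ⟨c, hc⟩ := exists_cfg_FF Ψ inj hC
  rcases c.good_or hG with h | ⟨l', hl, key, h⟩
  · exact c.good_top hG hl0 h
  obtain ⟨d, ρ, e⟩ := exists_Th (γ := γ) (l := l) (c := jA (Pi.mulSingle l e0 * zl l'))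
    (by rw [← map_mul, ← map_mul, zl_comm l])
  have hd : d = e0 := by
    have : ∀ d : D, (∀ q, act d q = act e0 q) → d = e0 := by decide
    refine this d fun q => ?_
    have := Th_pt l d ρ q
    rw [e, jA_pt] at this
    simpa [hl.symm] using this.symm
  subst hd
  have h2 : ρ * ρ = 1 := by
    have : Th l ((e0, ρ) * (e0, ρ)) = 1 := by
      rw [map_mul, e, ← map_mul, mul_assoc, ← mul_assoc (zl l'), ← zl_comm, mul_assoc, zl_sq,
        mul_one, ← Pi.mulSingle_mul, ni0.1]; simp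
    exact congrArg Prod.snd ((map_eq_one_iff _ (Th_inj l)).1 this)
  have hf : ∀ x, ρ x ≠ x := by
    rintro ⟨x, hx⟩ h
    have := Th_out l e0 ρ ⟨x, hx⟩
    rw [e, h] at this
    rcases x with i | b
    · obtain ⟨q, rfl⟩ := key i fun q e => hx q (by rw [e])
      exact z_moves q (by simpa [jA_pt, hl, act_one] using this)
    · rw [jA_b, map_mul, sgJ_single, sgJ_single, sgD_e0, sgD_cen _ cen_zD] at this
      cases b <;> simp [sgnSec] at this
  have h6 : Fintype.card (Lam γ l) = 6 := by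
    have a1 := card_Lam (γ := γ) l
    have a2 : Fintype.card γ = 0 := Fintype.card_eq_zero_iff.2 ⟨fun g => by
      obtain ⟨q, e⟩ := key (.inr g) (by intro q; simp)
      simp at e⟩
    have a3 : Fintype.card ι = 2 := by
      rw [← Finset.card_pair hl, ← Finset.card_univ]
      congr 1
      refine (Finset.eq_univ_iff_forall.2 fun k => ?_).symm
      by_cases hk : k = l
      · simp [hk]
      · obtain ⟨q, e⟩ := key _ (ob_ne hk (false, false))
        simp at e; simp [e.1]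
    rw [card_Pt] at a1
    omega
  obtain ⟨ω, h3, h4⟩ := exists_outer h6 (lp_ne l) h2 hf
  obtain ⟨a, ha⟩ := exists_FF_aut ω h3
  have ht : a (tF _) = tF _ := Subtype.ext (by rw [ha]; simp [tF])
  obtain ⟨c', hc'⟩ := exists_cfg_FF (Ψ.comp a.toMonoidHom) (inj.comp a.injective) (by
    rw [MonoidHom.range_comp, MonoidHom.range_eq_top.2 a.surjective, ← MonoidHom.range_eq_map,
      hC]; simp [ht])
  refine c'.good_top hG hl0 ?_
  have m1 : (e0, swap (lp l false) (lp l true)) ∈ FF (Lam γ l) := by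
    rw [mem_FF, sgD_e0, Perm.sign_swap (lp_ne l)]
  have b1 : c'.K.j (zl l) = c.K.j (zl l) := by
    rw [c'.hj, c.hj, jA_zl]
    exact (hc' (tF _)).trans ((congrArg Ψ ht).trans (hc (tF _)).symm)
  have b2 : c'.K.j (Pi.mulSingle l e0) = c.K.j (Pi.mulSingle l e0 * zl l') := by
    rw [c'.hj, c.hj, jA_single, sgD_e0, ← e, ← h4]
    exact (hc' ⟨_, m1⟩).trans (by simpa [ha] using (hc (a ⟨_, m1⟩)).symm)
  rwa [b1, b2]

end H24.Ko
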