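import Mathlib
import Cfsg.Agent.Lib.Kondo.T3
import Cfsg.Agent.Lib.Inv73.Transfer
import Cfsg.Agent.Lib.Transfer.Residual

/-! The complement to a four-group in its centralizer. -/

set_option autoImplicit false
set_option linter.unusedSectionVars false

namespace H24.Ko

open DihedralGroup Subgroup Equiv Cfsg

variable {G : Type*} [Group G] [Finite G] {ι : Type} [Fintype ι] [DecidableEq ι]

def chM : D →* ℤˣ := MonoidHom.mk' chD (by decide)

def zsec (I : Finset ι) : ℤˣ →* (ι → D) where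
  toFun u := if u = 1 then 1 else zI I
  map_one' := by simp
  map_mul' u v := by
    rcases Int.units_eq_one_or u with rfl | rfl <;> rcases Int.units_eq_one_or v with rfl | rfl <;>
      simp [zI_sq]

theorem zsec_eq (I : Finset ι) (u : ℤˣ) : zsec I u = 1 ∨ zsec I u = zI I := by
  by_cases h : u = 1
  · exact Or.inl (if_pos h)
  · exact Or.inr (if_neg h)

theorem zsec_comm (I : Finset ι) (u : ℤˣ) (d : ι → D) : zsec I u * d = d * zsec I u := by
  rcases zsec_eq I u with h | h <;> simp [h, zI_comm]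

theorem zsec_cen (I : Finset ι) (u : ℤˣ) (k : ι) : cen (zsec I u k) := by
  rcases zsec_eq I u with h | h <;> simp [h, zI_cen, cen_one]

theorem zsec_l {I : Finset ι} {l : ι} (h : l ∉ I) (u : ℤˣ) : zsec I u l = 1 := by
  rcases zsec_eq I u with e | e <;> simp [e, zI, h]

theorem pi_gen (P : Subgroup (ι → D)) (h0 : ∀ k, Pi.mulSingle k e0 ∈ P)
    (h1 : ∀ k, Pi.mulSingle k e1 ∈ P) (d : ι → D) : d ∈ P := by
  rw [← Finset.noncommProd_mulSingle d]
  refine noncommProd_mem _ _ fun k _ => ?_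
  have : ∀ a : D, a = 1 ∨ a = e0 ∨ a = e1 ∨ a = e0 * e1 ∨ a = e1 * e0 ∨ a = e0 * e1 * e0 ∨
      a = e1 * e0 * e1 ∨ a = e0 * e1 * e0 * e1 := by decide
  rcases this (d k) with h | h | h | h | h | h | h | h <;>
    simp only [h, Pi.mulSingle_mul, Pi.mulSingle_one] <;>
    (repeat' first | exact one_mem _ | exact h0 k | exact h1 k | apply mul_mem)

theorem zI_mem (P : Subgroup (ι → D)) (I : Finset ι) (h : ∀ k ∈ I, zl k ∈ P) : zI I ∈ P := by
  induction I using Finset.induction_on with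
  | empty => rw [zI_empty]; exact one_mem _
  | insert a s ha ih =>
    rw [zI_insert _ _ ha]
    exact mul_mem (h a (by simp)) (ih fun k hk => h k (by simp [hk]))

theorem single_mem (P : Subgroup (ι → D)) (h : ∀ k, zl k ∈ P) {w : ι → D} {l : ι}
    (hc : ∀ k, k ≠ l → cen (w k)) (hw : w ∈ P) : Pi.mulSingle l (w l) ∈ P := by
  obtain ⟨I, -, e⟩ := split_single w l hc
  rw [e] at hw
  exact (mul_mem_cancel_right (zI_mem P I fun k _ => h k)).1 hw

/-- a dihedral group adapted to the fusion at one place -/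
structure Loc (K : Dat G ι) (l : ι) where
  δ : D →* (ι → D)
  u0 : G
  u1 : G
  T0 : K.Tv l (δ e0) u0
  T1 : K.Tv l (δ e1) u1
  hδ : ∀ d, δ d l = d
  hc : ∀ d k, k ≠ l → cen (δ d k)
  hz : δ zD = zl l

theorem exists_loc (K : Dat G ι) (hG : ∀ N : Subgroup G, N.index ≠ 2) (l : ι) :
    Nonempty (Loc K l) := by
  obtain ⟨w0, u0, T0, e0l⟩ := K.exists_tv hG l e0 ni0
  obtain ⟨w1, u1, T1, e1l⟩ := K.exists_tv hG l e1 ni1
  obtain ⟨I0, h0, a0⟩ := split_single w0 l T0.cen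
  obtain ⟨I1, h1, a1⟩ := split_single w1 l T1.cen
  let δ : D →* (ι → D) := MonoidHom.mk'
    (fun d => Pi.mulSingle l d * zsec I0 (sgD d) * zsec I1 (sgD d * chM d)) fun a b => by
      have key : ∀ s s' x x' y y' : ι → D, (∀ d, x * d = d * x) → (∀ d, y * d = d * y) →
          s * s' * (x * x') * (y * y') = s * x * y * (s' * x' * y') := by
        intro s s' x x' y y' hx hy
        calc _ = s * (s' * x) * (x' * y) * y' := by simp only [mul_assoc]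
          _ = s * x * (s' * y) * x' * y' := by rw [← hx, ← hy]; simp only [mul_assoc]
          _ = _ := by rw [← hy]; simp only [mul_assoc]
      rw [map_mul sgD, map_mul chM, mul_mul_mul_comm, Pi.mulSingle_mul, map_mul, map_mul]
      exact key _ _ _ _ _ _ (zsec_comm _ _) (zsec_comm _ _)
  have hd : ∀ d, δ d = Pi.mulSingle l d * zsec I0 (sgD d) * zsec I1 (sgD d * chM d) :=
    fun _ => rfl
  have b0 : δ e0 = w0 := by
    rw [hd, show sgD e0 * chM e0 = 1 by decide, map_one, mul_one, a0, e0l, sgD_e0]; rfl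
  have b1 : δ e1 = w1 := by
    rw [hd, show sgD e1 * chM e1 = -1 by decide, sgD_e1, map_one, mul_one, a1, e1l]; rfl
  refine ⟨⟨δ, u0, u1, b0 ▸ T0, b1 ▸ T1, fun d => by simp [hd, zsec_l h0, zsec_l h1],
    fun d k hk => ?_, ?_⟩⟩
  · rw [hd]
    exact cen_mul _ _ (cen_mul _ _ (single_cen _ _ _ hk) (zsec_cen _ _ _)) (zsec_cen _ _ _)
  · rw [hd, show sgD zD * chM zD = 1 by decide, show sgD zD = 1 by decide]; simp

namespace Loc

variable {K : Dat G ι} {l : ι} (A : Loc K l)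

def CV : Subgroup G := centralizer {K.j (zl l)} ⊓ centralizer {K.j (A.δ e1)}

theorem mem_CV {x : G} : x ∈ A.CV ↔
    x * K.j (zl l) = K.j (zl l) * x ∧ x * K.j (A.δ e1) = K.j (A.δ e1) * x := by
  simp [CV, mem_centralizer_singleton_iff]

def L0 : Subgroup G := (pResidual 2 A.CV).map A.CV.subtype

theorem L0_le : A.L0 ≤ A.CV := map_subtype_le _

theorem cv_comm {x : G} (hx : x ∈ A.CV) {d : D} (hd : sgD d = 1) :
    x * K.j (A.δ d) = K.j (A.δ d) * x := by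
  obtain ⟨h1, h2⟩ := A.mem_CV.1 hx
  rcases Cfg.ker_cases d hd with rfl | rfl | rfl | rfl
  · simp
  · rwa [A.hz]
  · exact h2
  · rw [map_mul, map_mul, A.hz, ← mul_assoc, h2, mul_assoc, h1, mul_assoc]

theorem j_CV {y : ι → D} (h : y l * e1 = e1 * y l) : K.j y ∈ A.CV :=
  A.mem_CV.2 ⟨by rw [← map_mul, ← map_mul, zl_comm], by
    rw [← map_mul, ← map_mul, A.T1.comm (mem_Yl.2 (by rwa [A.hδ]))]⟩

theorem dl_CV {d : D} (hd : sgD d = 1) : K.j (A.δ d) ∈ A.CV :=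
  A.j_CV (by rw [A.hδ]; revert d; decide)

theorem vt : K.j (A.δ (e1 * zD)) = K.j (A.δ e1) * K.j (zl l) := by rw [map_mul, map_mul, A.hz]

theorem tv_comm : K.j (zl l) * K.j (A.δ e1) = K.j (A.δ e1) * K.j (zl l) := by
  rw [← map_mul, ← map_mul, zl_comm]

theorem t_sq : K.j (zl l) * K.j (zl l) = 1 := by rw [← map_mul, zl_sq, map_one]

theorem dl_sq {d : D} (h : d * d = 1) : K.j (A.δ d) * K.j (A.δ d) = 1 := by
  rw [← map_mul, ← map_mul, h, map_one, map_one]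

/-- an element normalizing the four-group normalizes its centralizer -/
theorem norm_CV {g : G} (h : ∀ d, sgD d = 1 → ∃ d', sgD d' = 1 ∧
    g * K.j (A.δ d') * g⁻¹ = K.j (A.δ d)) {x : G} (hx : x ∈ A.CV) : g * x * g⁻¹ ∈ A.CV := by
  have key : ∀ d, sgD d = 1 → g * x * g⁻¹ * K.j (A.δ d) = K.j (A.δ d) * (g * x * g⁻¹) := by
    intro d hd
    obtain ⟨d', h1, h2⟩ := h d hd
    rw [← h2]
    calc _ = g * (x * K.j (A.δ d')) * g⁻¹ := by group
      _ = _ := by rw [A.cv_comm hx h1]; group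
  exact A.mem_CV.2 ⟨A.hz ▸ key zD (by decide), key e1 sgD_e1⟩

theorem norm_L0 {g : G} (h : ∀ x ∈ A.CV, g * x * g⁻¹ ∈ A.CV) {x : G} (hx : x ∈ A.L0) :
    g * x * g⁻¹ ∈ A.L0 :=
  (mem_normalizer_iff.1 (H4.normalizer_le_normalizer_pResidual A.CV
    (mem_normalizer_fintype h)) x).1 hx

theorem conj_L0 {g : G} (h : g ∈ A.CV) {x : G} (hx : x ∈ A.L0) : g * x * g⁻¹ ∈ A.L0 :=
  A.norm_L0 (fun _ hy => mul_mem (mul_mem h hy) (inv_mem h)) hx

def X0 : Subgroup G where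
  carrier := {x | x * K.j (zl l) * x⁻¹ = K.j (zl l) ∧ (x * K.j (A.δ e1) * x⁻¹ = K.j (A.δ e1) ∨
    x * K.j (A.δ e1) * x⁻¹ = K.j (A.δ e1) * K.j (zl l))}
  one_mem' := by simp
  mul_mem' := by
    rintro a b ⟨a1, a2⟩ ⟨b1, b2⟩
    have e : ∀ s, a * b * s * (a * b)⁻¹ = a * (b * s * b⁻¹) * a⁻¹ := fun s => by group
    refine ⟨by rw [e, b1, a1], ?_⟩
    rw [e]
    rcases b2 with b2 | b2 <;> rw [b2]
    · exact a2
    · rw [← conj_mul, a1]
      rcases a2 with a2 | a2 <;> rw [a2]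
      · exact Or.inr rfl
      · exact Or.inl (by rw [mul_assoc, t_sq, mul_one])
  inv_mem' := by
    rintro a ⟨a1, a2⟩
    have e : ∀ {s s'}, a * s * a⁻¹ = s' → a⁻¹ * s' * a⁻¹⁻¹ = s := fun h => by rw [← h]; group
    refine ⟨e a1, ?_⟩
    rcases a2 with a2 | a2
    · exact Or.inl (e a2)
    · exact Or.inr (e (by rw [← conj_mul, a1, a2, mul_assoc, t_sq, mul_one]))

theorem mem_X0 {x : G} : x ∈ A.X0 ↔ x * K.j (zl l) * x⁻¹ = K.j (zl l) ∧
    (x * K.j (A.δ e1) * x⁻¹ = K.j (A.δ e1) ∨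
    x * K.j (A.δ e1) * x⁻¹ = K.j (A.δ e1) * K.j (zl l)) := Iff.rfl

theorem CV_le : A.CV ≤ A.X0 := fun _ hx =>
  ⟨mul_inv_eq_iff_eq_mul.2 (A.mem_CV.1 hx).1, Or.inl (mul_inv_eq_iff_eq_mul.2 (A.mem_CV.1 hx).2)⟩

theorem j_X0 (y : ι → D) : K.j y ∈ A.X0 := by
  refine ⟨by rw [← map_inv, ← map_mul, ← map_mul, zl_comm]; simp, ?_⟩
  have : y * A.δ e1 * y⁻¹ = Pi.mulSingle l (y l) * A.δ e1 * (Pi.mulSingle l (y l))⁻¹ := by
    funext k
    by_cases hk : k = l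
    · simp [hk]
    · simp [hk, ← cen_comm _ (y k) (A.hc e1 k hk)]
  rw [← map_inv, ← map_mul, ← map_mul, this, ← map_mul]
  by_cases h : y l * A.δ e1 l = A.δ e1 l * y l
  · left
    congr 1
    funext k
    by_cases hk : k = l
    · simp [hk, h]
    · simp [hk]
  · exact Or.inr (by rw [conj_single_nc _ _ h])

theorem X0_norm {g : G} (hg : g ∈ A.X0) {x : G} (hx : x ∈ A.CV) : g * x * g⁻¹ ∈ A.CV := by
  refine A.norm_CV (fun d hd => ?_) hx
  obtain ⟨h1, h2⟩ := hg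
  rcases Cfg.ker_cases d hd with rfl | rfl | rfl | rfl
  · exact ⟨1, by simp, by simp⟩
  · exact ⟨zD, hd, by rwa [A.hz]⟩
  · rcases h2 with h2 | h2
    · exact ⟨e1, hd, h2⟩
    · exact ⟨e1 * zD, by decide, by rw [vt, ← conj_mul, h1, h2, mul_assoc, t_sq, mul_one]⟩
  · rcases h2 with h2 | h2
    · exact ⟨e1 * zD, hd, by rw [vt, ← conj_mul, h1, h2]⟩
    · exact ⟨e1, by decide, by rw [vt, h2]⟩

theorem exists_chi : ∃ χ : A.X0 →* ℤˣ, χ ⟨K.j (A.δ e1), A.j_X0 _⟩ = -1 ∧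
    χ ⟨K.j (A.δ (e1 * zD)), A.j_X0 _⟩ = -1 := by
  obtain ⟨T, hT⟩ := (K.pJ.comap_subtype (K := A.X0)).exists_le_sylow
  have hn : (T : Subgroup A.X0).map A.X0.subtype ≤ normalizer (K.j.range : Set G) :=
    K.le_norm (T.isPGroup'.map _) fun d => ⟨⟨_, A.j_X0 d⟩, hT ⟨d, rfl⟩, rfl⟩
  let φ : (T : Subgroup A.X0) →* ℤˣ := (chi0.comp (Gam K.j K.inj)).comp
    ((A.X0.subtype.comp (T : Subgroup A.X0).subtype).codRestrict _ fun x => hn ⟨x.1, x.2, rfl⟩)
  have hφ : ∀ (x : (T : Subgroup A.X0)) (d : D), chD d = -1 → x.1.1 = K.j (A.δ d) →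
      φ x = -1 := by
    intro x d hd e
    have : φ x = chi0 (Gam K.j K.inj ⟨K.j (A.δ d), mem_norm_j _ _⟩) := by
      simp only [← e]; rfl
    rw [this, Gam_j, chi0_conj, Finset.prod_eq_single l
      (fun b _ hb => chD_cen _ (A.hc d b hb)) (by simp), A.hδ, hd]
  have key : ∀ x : A.X0, (x.1 = K.j (A.δ e1) ∨ x.1 = K.j (A.δ e1) * K.j (zl l)) →
      MonoidHom.transfer φ x = -1 := by
    intro x hx
    have h2 : x ^ 2 = 1 := Subtype.ext (by
      change x.1 ^ 2 = 1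
      rcases hx with h | h
      · rw [h, sq, A.dl_sq ni1.1]
      · rw [h, sq, ← vt, A.dl_sq (by decide)])
    refine H73.transfer_eq_neg_one _ (Nat.odd_iff.2 (Nat.two_dvd_ne_zero.1 T.not_dvd_index)) φ x
      fun g k hk h0 h1 _ => ?_
    rcases (Nat.dvd_prime Nat.prime_two).1 (h1.trans (orderOf_dvd_of_pow_eq_one h2)) with rfl | rfl
    · obtain ⟨a1, a2⟩ := (g⁻¹).2
      simp only [InvMemClass.coe_inv, inv_inv] at a1 a2
      have : (g⁻¹ * x ^ 1 * g : A.X0).1 = K.j (A.δ e1) ∨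
          (g⁻¹ * x ^ 1 * g : A.X0).1 = K.j (A.δ (e1 * zD)) := by
        rw [vt]
        simp only [pow_one, MulMemClass.coe_mul, InvMemClass.coe_inv]
        rcases hx with h | h <;> rw [h]
        · exact a2
        · have e : (g : G)⁻¹ * (K.j (A.δ e1) * K.j (zl l)) * g =
            ((g : G)⁻¹ * K.j (A.δ e1) * g) * ((g : G)⁻¹ * K.j (zl l) * g) := by group
          rw [e, a1]
          rcases a2 with a2 | a2 <;> rw [a2]
          · exact Or.inr rfl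
          · exact Or.inl (by rw [mul_assoc, t_sq, mul_one])
      rcases this with h | h
      · exact (hφ _ _ (by decide) h).trans (by simp)
      · exact (hφ _ _ (by decide) h).trans (by simp)
    · have : (⟨_, hk⟩ : (T : Subgroup A.X0)) = 1 := Subtype.ext (by simp [h2])
      rw [this]; simp
  exact ⟨_, key _ (Or.inl rfl), key _ (Or.inr A.vt)⟩

theorem L0_inf {d : D} (hd : sgD d = 1) (h : K.j (A.δ d) ∈ A.L0) : d = 1 := by
  obtain ⟨χ, h1, h2⟩ := A.exists_chi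
  have key : ∀ x (hx : x ∈ A.L0), χ ⟨x, A.CV_le (A.L0_le hx)⟩ = 1 := by
    rintro _ ⟨x, hx, rfl⟩
    exact H4.pResidual_le_ker (IsPGroup.of_card (n := 1) (by simp))
      (χ.comp (inclusion A.CV_le)) hx
  rcases Cfg.ker_cases d hd with rfl | rfl | rfl | rfl
  · rfl
  · exfalso
    have h3 : A.u1 * K.j (A.δ zD) * A.u1⁻¹ = K.j (A.δ (e1 * zD)) := by
      rw [A.hz, A.T1.z, vt, map_mul, tv_comm]
    refine absurd ((key _ (h3 ▸ A.norm_L0 (fun x => A.norm_CV fun d hd => ?_) h)).symm.trans h2)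
      (by decide)
    rcases Cfg.ker_cases d hd with rfl | rfl | rfl | rfl
    · exact ⟨1, by simp, by simp⟩
    · exact ⟨e1 * zD, by decide, by
        rw [vt, ← conj_mul, A.T1.fix, A.T1.z, map_mul, tv_comm, ← mul_assoc, A.dl_sq ni1.1,
          one_mul, A.hz]⟩
    · exact ⟨e1, hd, A.T1.fix⟩
    · exact ⟨zD, by decide, h3⟩
  · exact absurd ((key _ h).symm.trans h1) (by decide)
  · exact absurd ((key _ h).symm.trans h2) (by decide)

theorem W_le {l' : ι} {w' : ι → D} {u' : G} (T' : K.Tv l' w' u') (hl : l' ≠ l)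
    (h : ¬ K.Adj w' (A.δ e1)) : ∃ x ∈ A.L0, x * K.j w' * x⁻¹ = K.j (zl l') ∧
      x * K.j (zl l') * x⁻¹ = K.j (zl l') * K.j w' ∧ K.j w' ∈ A.L0 ∧ K.j (zl l') ∈ A.L0 ∧
      (¬ K.Adj w' (A.δ e0) → x * K.j (A.δ e0) = K.j (A.δ e0) * x) := by
  obtain ⟨f, hf⟩ := exists_nc _ T'.ni.2
  have hw := conj_single_nc w' l' hf
  set y := u' * K.j (Pi.mulSingle l' f) with hy
  have e : ∀ d, y * K.j d * y⁻¹ =
      u' * K.j (Pi.mulSingle l' f * d * (Pi.mulSingle l' f)⁻¹) * u'⁻¹ := fun d => by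
    simp only [hy, map_mul, map_inv]; group
  have a1 : y * K.j w' * y⁻¹ = K.j (zl l') := by
    rw [e, hw, Dat.conj_mul, T'.fix, T'.z, ← map_mul, ← mul_assoc, zl_comm, mul_assoc, T'.sq,
      mul_one]
  have a2 : y * K.j (zl l') * y⁻¹ = K.j (zl l') * K.j w' := by
    rw [e, zl_comm, mul_inv_cancel_right, T'.z, map_mul]
  have a3 : y * (K.j (zl l') * K.j w') * y⁻¹ = K.j w' := by
    rw [← conj_mul, a1, a2, ← map_mul, ← map_mul, zl_comm, ← mul_assoc, zl_sq, one_mul]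
  have e3 : ∀ s, y ^ 3 * s * (y ^ 3)⁻¹ = y * (y * (y * s * y⁻¹) * y⁻¹) * y⁻¹ := fun s => by
    simp only [pow_succ, pow_zero, one_mul, mul_inv_rev, mul_assoc]
  have pw : ∀ s, y ^ 3 * s * (y ^ 3)⁻¹ = s → ∀ k : ℕ,
      y ^ 4 ^ k * s * (y ^ 4 ^ k)⁻¹ = y * s * y⁻¹ := by
    intro s hs k
    obtain ⟨m, hm⟩ : ∃ m, 4 ^ k = 1 + 3 * m :=
      ⟨4 ^ k / 3, by have := Nat.div_add_mod (4 ^ k) 3; rw [Nat.pow_mod] at this; simp at this; omega⟩
    have h1 : Commute (y ^ 3) s := mul_inv_eq_iff_eq_mul.1 hs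
    rw [hm, pow_add, pow_one, pow_mul, mul_assoc y, (h1.pow_left m).eq]
    group
  have cy : ∀ {b : D} {u : G}, K.Tv l (A.δ b) u → ¬ K.Adj w' (A.δ b) →
      y * K.j (A.δ b) = K.j (A.δ b) * y := by
    intro b u T h
    rw [← mul_inv_eq_iff_eq_mul, e, conj_single_cen _ _ _ (T.cen _ hl), (T'.nadj T hl h).1]
  have ym : y ∈ A.CV := A.mem_CV.2 ⟨by
    rw [← mul_inv_eq_iff_eq_mul, e, zl_comm, mul_inv_cancel_right, T'.fzl hl.symm], cy A.T1 h⟩
  obtain ⟨k, hk⟩ := H4.exists_pow_mem_pResidual (⟨y, ym⟩ : A.CV) 2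
  have xm : y ^ 4 ^ k ∈ A.L0 := by
    rw [show 4 ^ k = 2 ^ k * 2 ^ k by rw [← mul_pow]; rfl, pow_mul]
    exact pow_mem (show y ^ 2 ^ k ∈ A.L0 from ⟨_, hk, rfl⟩) _
  have b1 := (pw _ (by rw [e3, a1, a2, a3]) k).trans a1
  have b2 := (pw _ (by rw [e3, a2, a3, a1]) k).trans a2
  have wm : K.j w' ∈ A.L0 := by
    have : K.j w' = ((K.j (zl l'))⁻¹ * y ^ 4 ^ k * (K.j (zl l'))⁻¹⁻¹) * (y ^ 4 ^ k)⁻¹ := by
      rw [← inv_mul_eq_iff_eq_mul.2 b2]; group
    rw [this]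
    exact mul_mem (A.conj_L0 (inv_mem (A.j_CV (by simp [hl.symm]))) xm) (inv_mem xm)
  exact ⟨_, xm, b1, b2, wm, b1 ▸ mul_mem (mul_mem xm wm) (inv_mem xm),
    fun h0 => ((show Commute y _ from cy A.T0 h0).pow_left _).eq⟩

/-- the adjacency pattern at the other places -/
def Pat : Prop := ∀ l', l' ≠ l → ∃ w0' u0' w1' u1', K.Tv l' w0' u0' ∧ w0' l' = e0 ∧
  K.Tv l' w1' u1' ∧ w1' l' = e1 ∧ ¬ K.Adj w0' (A.δ e1) ∧ ¬ K.Adj w1' (A.δ e1) ∧
  (K.Adj (A.δ e0) w0' ↔ ¬ K.Adj (A.δ e0) w1')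

theorem zl_L0 (hP : A.Pat) {k : ι} (hk : k ≠ l) : K.j (zl k) ∈ A.L0 := by
  obtain ⟨w, u, -, -, T, -, -, -, h, -⟩ := hP k hk
  obtain ⟨-, -, -, -, -, h, -⟩ := A.W_le T hk h
  exact h

theorem zI_L0 (hP : A.Pat) {I : Finset ι} (h : l ∉ I) : K.j (zI I) ∈ A.L0 :=
  zI_mem (A.L0.comap K.j) I fun _ hk => A.zl_L0 hP (by rintro rfl; exact h hk)

theorem not_inner (hP : A.Pat) {l' : ι} (hl : l' ≠ l)
    (nc : ∀ g ∈ normalizer (K.j.range : Set G), (∀ l, g * K.j (zl l) = K.j (zl l) * g) →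
      g ∈ K.j.range) {s : G} (hs : s ∈ A.L0)
    (h : ∀ x ∈ A.L0, K.j (A.δ e0) * x * (K.j (A.δ e0))⁻¹ = s * x * s⁻¹) : False := by
  have c1 : ∀ y : ι → D, K.j y ∈ A.L0 → y l = 1 ∨ y l = zD →
      y ∈ (centralizer {s}).comap K.j := by
    intro y hy hc
    have := h _ hy
    rw [← map_inv, ← map_mul, ← map_mul, ← A.T0.comm (mem_Yl.2 (cen_comm _ _ hc)),
      mul_inv_cancel_right] at this
    exact mem_centralizer_singleton_iff.2 (mul_inv_eq_iff_eq_mul.1 this.symm).symm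
  have c2 : ∀ k, zl k ∈ (centralizer {s}).comap K.j := by
    intro k
    by_cases hk : k = l
    · exact mem_centralizer_singleton_iff.2 (hk ▸ (A.mem_CV.1 (A.L0_le hs)).1.symm)
    · exact c1 _ (A.zl_L0 hP hk) (Or.inl (by simp [Ne.symm hk]))
  have c3 : ∀ y, s * K.j y = K.j y * s := by
    intro y
    refine (mem_centralizer_singleton_iff.1 (pi_gen ((centralizer {s}).comap K.j)
      (fun k => ?_) (fun k => ?_) y)).symm <;> by_cases hk : k = l
    · rw [hk, ← A.hδ e0]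
      refine single_mem _ c2 A.T0.cen (mem_centralizer_singleton_iff.2 ?_)
      simpa [mul_inv_eq_iff_eq_mul] using h s hs
    · obtain ⟨w, u, -, -, T, e, -, -, h, -⟩ := hP k hk
      obtain ⟨-, -, -, -, h, -⟩ := A.W_le T hk h
      exact e ▸ single_mem _ c2 T.cen (c1 _ h (T.cen _ (Ne.symm hk)))
    · rw [hk, ← A.hδ e1]
      exact single_mem _ c2 A.T1.cen
        (mem_centralizer_singleton_iff.2 (A.mem_CV.1 (A.L0_le hs)).2.symm)
    · obtain ⟨-, -, w, u, -, -, T, e, -, h, -⟩ := hP k hk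
      obtain ⟨-, -, -, -, h, -⟩ := A.W_le T hk h
      exact e ▸ single_mem _ c2 T.cen (c1 _ h (T.cen _ (Ne.symm hk)))
  obtain ⟨y, rfl⟩ := nc s (mem_normalizer_fintype (by
    rintro _ ⟨d, rfl⟩; exact ⟨d, by rw [c3]; simp⟩)) fun k => c3 _
  obtain ⟨I, rfl⟩ := exists_zI y fun k => by
    by_contra hn
    obtain ⟨f, hf⟩ := exists_nc _ hn
    have := K.inj (by simpa using c3 (Pi.mulSingle k f) :
      K.j (y * Pi.mulSingle k f) = K.j (Pi.mulSingle k f * y))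
    exact hf (by simpa using (congrFun this k).symm)
  obtain ⟨w0, u0, w1, u1, T0, -, T1, -, n0, n1, hiff⟩ := hP l' hl
  have key : ∀ {w u}, K.Tv l' w u → ¬ K.Adj w (A.δ e1) →
      K.wt (K.j (A.δ e0 * w * zI I)) = K.wt (K.j (A.δ e0 * zl l' * zI I)) := by
    intro w u T n
    obtain ⟨x, hx, a, -⟩ := A.W_le T hl n
    refine K.wt_eq (g := x) ?_
    have b : x * (K.j (A.δ e0) * K.j (zI I)) * x⁻¹ = K.j (A.δ e0) * K.j (zI I) := by
      have h1 := h x hx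
      have h2 : (K.j (zI I))⁻¹ = K.j (zI I) :=
        inv_eq_of_mul_eq_one_left (by rw [← map_mul, zI_sq, map_one])
      have h3 : (K.j (A.δ e0))⁻¹ = K.j (A.δ e0) := inv_eq_of_mul_eq_one_left (A.dl_sq ni0.1)
      rw [h2, h3] at h1
      calc _ = (K.j (A.δ e0))⁻¹ * (K.j (A.δ e0) * x * K.j (A.δ e0)) * K.j (zI I) * x⁻¹ := by group
        _ = (K.j (A.δ e0))⁻¹ * K.j (zI I) * x * (K.j (zI I) * K.j (zI I)) * x⁻¹ := by
          rw [h1]; group
        _ = _ := by rw [← map_mul, zI_sq, map_one, h3]; group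
    rw [← Cfg.swap_mid, ← Cfg.swap_mid, Dat.conj_mul, a, map_mul, b, ← map_mul, ← map_mul]
  have := (key T0 n0).trans (key T1 n1).symm
  by_cases h0 : K.Adj (A.δ e0) w0
  · rw [(A.T0.adj T0 hl.symm h0).2, (A.T0.nadj T1 hl.symm (hiff.1 h0)).2] at this
    omega
  · rw [(A.T0.nadj T0 hl.symm h0).2,
      (A.T0.adj T1 hl.symm (by by_contra h1; exact h0 (hiff.2 h1))).2] at this
    omega

/-- the product of the complement with the four-group -/
def LV : Subgroup G where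
  carrier := {x | ∃ s ∈ A.L0, ∃ d, sgD d = 1 ∧ x = s * K.j (A.δ d)}
  one_mem' := ⟨1, one_mem _, 1, by simp, by simp⟩
  mul_mem' := by
    rintro _ _ ⟨a, ha, d, hd, rfl⟩ ⟨b, hb, d', hd', rfl⟩
    refine ⟨a * b, mul_mem ha hb, d * d', by rw [map_mul, hd, hd', mul_one], ?_⟩
    rw [map_mul, map_mul, mul_assoc, ← mul_assoc _ b, ← A.cv_comm (A.L0_le hb) hd]
    simp only [mul_assoc]
  inv_mem' := by
    rintro _ ⟨a, ha, d, hd, rfl⟩
    have : sgD d⁻¹ = 1 := by rw [map_inv, hd, inv_one]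
    exact ⟨a⁻¹, inv_mem ha, d⁻¹, this, by
      rw [A.cv_comm (A.L0_le (inv_mem ha)) this, mul_inv_rev, map_inv, map_inv]⟩

theorem L0_LV {x : G} (h : x ∈ A.L0) : x ∈ A.LV := ⟨x, h, 1, by simp, by simp⟩
theorem dl_LV {d : D} (h : sgD d = 1) : K.j (A.δ d) ∈ A.LV := ⟨1, one_mem _, d, h, by simp⟩

theorem conj_LV {g : G} (h : g ∈ A.CV) {x : G} (hx : x ∈ A.LV) : g * x * g⁻¹ ∈ A.LV := by
  obtain ⟨s, hs, d, hd, rfl⟩ := hx
  exact ⟨_, A.conj_L0 h hs, d, hd, by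
    rw [← conj_mul, mul_inv_eq_iff_eq_mul.2 (A.cv_comm h hd)]⟩

theorem zl_LV (hP : A.Pat) (k : ι) : K.j (zl k) ∈ A.LV := by
  by_cases hk : k = l
  · rw [hk, ← A.hz]; exact A.dl_LV (by decide)
  · exact A.L0_LV (A.zl_L0 hP hk)

theorem single_LV (hP : A.Pat) {k : ι} (hk : k ≠ l) :
    K.j (Pi.mulSingle k e0) ∈ A.LV ∧ K.j (Pi.mulSingle k e1) ∈ A.LV := by
  obtain ⟨w0, u0, w1, u1, T0, a0, T1, a1, n0, n1, -⟩ := hP k hk
  obtain ⟨-, -, -, -, h0, -⟩ := A.W_le T0 hk n0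
  obtain ⟨-, -, -, -, h1, -⟩ := A.W_le T1 hk n1
  exact ⟨a0 ▸ single_mem (A.LV.comap K.j) (A.zl_LV hP) T0.cen (A.L0_LV h0),
    a1 ▸ single_mem (A.LV.comap K.j) (A.zl_LV hP) T1.cen (A.L0_LV h1)⟩

end Loc

end H24.Ko
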