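import Mathlib
import Cfsg.Agent.Lib.Kondo.C2

/-! The centralizer of an involution in the complement. -/

set_option autoImplicit false
set_option linter.unusedSectionVars false

namespace H24.Ko

open DihedralGroup Subgroup Equiv Cfsg

variable {G : Type*} [Group G] [Finite G] {ι γ : Type} [Fintype ι] [DecidableEq ι] [Fintype γ]
  [DecidableEq γ]

theorem iso_of_central {A B : Type*} [Group A] [Group B] (V : Subgroup G) (f : A →* G)
    (g : B →* G) (hc : ∀ b, ∀ ν ∈ V, g b * ν = ν * g b) (hf : ∀ a, f a ∈ V → a = 1)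
    (hg : ∀ b, g b ∈ V → b = 1) (h1 : ∀ a, ∃ b, ∃ ν ∈ V, f a = g b * ν)
    (h2 : ∀ b, ∃ a, ∃ ν ∈ V, f a = g b * ν) : Nonempty (B ≃* A) := by
  have uq : ∀ {b b' ν ν'}, ν ∈ V → ν' ∈ V → g b * ν = g b' * ν' → b = b' := by
    intro b b' ν ν' a a' e
    have : g (b'⁻¹ * b) = ν' * ν⁻¹ := by
      rw [map_mul, map_inv, inv_mul_eq_iff_eq_mul, ← mul_assoc, ← e, mul_inv_cancel_right]
    exact (inv_mul_eq_one.1 (hg _ (this ▸ mul_mem a' (inv_mem a)))).symm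
  choose φ ν hν e using h1
  let ψ : A →* B := MonoidHom.mk' φ fun a a' => uq (hν _) (mul_mem (hν a) (hν a')) (by
    rw [← e, map_mul, map_mul, e, e, mul_assoc, ← mul_assoc (ν a), ← hc _ _ (hν a)]
    simp only [mul_assoc])
  refine ⟨(MulEquiv.ofBijective ψ ⟨(injective_iff_map_eq_one ψ).2 fun a h => hf a ?_,
    fun b => ?_⟩).symm⟩
  · rw [e, show φ a = 1 from h]; simpa using hν a
  · obtain ⟨a, ν', h, e'⟩ := h2 b
    exact ⟨a, uq (hν a) h ((e a).symm.trans e')⟩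

theorem exists_res {l : ι} {d : ι → D} (h : d l = 1) :
    ∃ ρ : Perm (Lam γ l), Th l (1, ρ) = jA d := by
  obtain ⟨ρ, e⟩ := exists_sub (γ := γ) (l := l) (c := jA d) fun q => by rw [jA_pt, h, act_one]
  exact ⟨ρ, by rw [Th_one, e]⟩

variable {I : Finset ι} {l : ι} {a : Perm (Lam γ l)}

theorem zI_Th (hl : l ∈ I) (ha : Th l (1, a) = jA (zI (I.erase l))) :
    (jA (zI I) : Perm (Pt ι γ)) = Th l (zD, a) := by
  rw [zI_erase hl, map_mul, jA_zl, ← ha, ← map_mul]; simp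

theorem Th_HH (hl : l ∈ I) (ha : Th l (1, a) = jA (zI (I.erase l))) {d : D}
    {ρ : Perm (Lam γ l)} :
    Th l (d, ρ) ∈ HH γ I ↔ ρ * a = a * ρ ∧ sgD d * Perm.sign ρ = 1 := by
  rw [mem_HH, zI_Th hl ha, ← map_mul, ← map_mul, (Th_inj l).eq_iff, sign_Th]
  simp [cen_comm zD d cen_zD]

theorem a_sq (ha : Th l (1, a) = jA (zI (I.erase l))) : a * a = 1 := by
  have : Th l ((1, a) * (1, a)) = 1 := by rw [map_mul, ha, ← map_mul, zI_sq, map_one]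
  exact congrArg Prod.snd ((map_eq_one_iff _ (Th_inj l)).1 this)

theorem a_sign (ha : Th l (1, a) = jA (zI (I.erase l))) : Perm.sign a = 1 := by
  have := sign_Th l 1 a
  rw [ha, show Perm.sign (jA (zI (I.erase l))) = 1 from jA_alt _] at this
  simpa using this.symm

namespace Cfg

variable (c : Cfg G γ I) (A : Loc c.K l) (hG : ∀ N : Subgroup G, N.index ≠ 2) (hl : l ∈ I)

include hG hl

theorem pat : A.Pat := by
  intro l' h
  obtain ⟨w0, u0, T0, a0⟩ := c.K.exists_tv hG l' e0 ni0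
  obtain ⟨w1, u1, T1, a1⟩ := c.K.exists_tv hG l' e1 ni1
  obtain ⟨h1, h2, h3⟩ := iso hl h.symm A.T0 (A.hδ _) A.T1 (A.hδ _) T0 a0 T1 a1
  exact ⟨w0, u0, w1, u1, T0, a0, T1, a1, by rwa [← A.T1.adj_symm T0 h.symm],
    by rwa [← A.T1.adj_symm T1 h.symm], h3⟩

theorem v_Th (ha : Th l (1, a) = jA (zI (I.erase l))) {d : D} (hd : sgD d = 1) :
    ∃ ρ, (ρ = 1 ∨ ρ = a) ∧ (jA (A.δ d) : Perm (Pt ι γ)) = Th l (d, ρ) := by
  have h1 : ∃ ρ, (ρ = 1 ∨ ρ = a) ∧ (jA (A.δ e1) : Perm (Pt ι γ)) = Th l (e1, ρ) := by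
    rcases w1_eq hG hl A.T1 (A.hδ _) with h | h
    · exact ⟨1, Or.inl rfl, by rw [h, jA_even l sgD_e1]⟩
    · exact ⟨a, Or.inr rfl, by rw [h, map_mul, jA_even l sgD_e1, ← ha, ← map_mul]; simp⟩
  rcases ker_cases d hd with rfl | rfl | rfl | rfl
  · exact ⟨1, Or.inl rfl, by rw [map_one, map_one]; exact (map_one _).symm⟩
  · exact ⟨1, Or.inl rfl, by rw [A.hz, jA_zl]⟩
  · exact h1
  · obtain ⟨ρ, h, e⟩ := h1
    exact ⟨ρ, h, by rw [map_mul, map_mul, e, A.hz, jA_zl, ← map_mul]; simp⟩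

omit hG in
theorem of_ty {g : G} (h1 : g * c.K.j (zl l) = c.K.j (zl l) * g)
    (h2 : g * c.K.j (zI (I.erase l)) = c.K.j (zI (I.erase l)) * g) :
    ∃ d ρ, Th l (d, ρ) ∈ HH γ I ∧ c.E.f (Th l (d, ρ)) = g := by
  obtain ⟨C, hC, rfl⟩ := c.exists_of_comm (g := g) (by
    rw [zI_erase hl, map_mul, ← mul_assoc, h1, mul_assoc, h2, mul_assoc])
  rw [c.hj, c.E.comm_iff hC (jA_HH _ _)] at h1
  obtain ⟨d, ρ, rfl⟩ := exists_Th h1
  exact ⟨d, ρ, hC, rfl⟩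

theorem ty_X0 {g : G} (h1 : g * c.K.j (zl l) = c.K.j (zl l) * g)
    (h2 : g * c.K.j (zI (I.erase l)) = c.K.j (zI (I.erase l)) * g) : g ∈ A.X0 := by
  obtain ⟨a, ha⟩ := exists_res (γ := γ) (l := l) (d := zI (I.erase l)) (by simp [zI])
  obtain ⟨d, ρ, hC, rfl⟩ := c.of_ty hl h1 h2
  refine ⟨mul_inv_eq_iff_eq_mul.2 h1, ?_⟩
  obtain ⟨σ, hσ, e⟩ := c.v_Th A hG hl ha sgD_e1
  have h3 : ρ * σ * ρ⁻¹ = σ := by
    rcases hσ with rfl | rfl
    · simp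
    · exact mul_inv_eq_iff_eq_mul.2 ((Th_HH hl ha).1 hC).1
  rw [← map_mul, c.hj, c.hj, ← c.E.conj hC (jA_HH _ _), map_mul, e, jA_zl, ← map_inv, ← map_mul,
    ← map_mul, ← map_mul]
  rcases conj_or d e1 with h | h
  · left; simp [h, h3]
  · right; simp [h, h3]

theorem Th_CV (ha : Th l (1, a) = jA (zI (I.erase l))) {ρ : Perm (Lam γ l)}
    (h : Th l (1, ρ) ∈ HH γ I) : c.E.f (Th l (1, ρ)) ∈ A.CV := by
  obtain ⟨σ, hσ, e⟩ := c.v_Th A hG hl ha sgD_e1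
  rw [A.mem_CV, c.hj, c.hj, c.E.comm_iff h (jA_HH _ _), c.E.comm_iff h (jA_HH _ _), e,
    ← map_mul, ← map_mul]
  refine ⟨Th_comm _ _, ?_⟩
  rcases hσ with rfl | rfl
  · simp
  · simp [((Th_HH hl ha).1 h).1]

theorem Th_LV (ha : Th l (1, a) = jA (zI (I.erase l))) {k : ι} (hk : k ∈ I.erase l)
    {ρ : Perm (Lam γ l)} (h : Th l (1, ρ) ∈ HH γ I) : c.E.f (Th l (1, ρ)) ∈ A.LV := by
  have hkl := Finset.ne_of_mem_erase hk
  let N : Subgroup (Perm (Lam γ l)) := ((A.LV.comap c.E.hom).map (HH γ I).subtype).comap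
    ((Th l).comp (MonoidHom.inr _ _))
  have hN : ∀ {ρ}, ρ ∈ N ↔ Th l (1, ρ) ∈ HH γ I ∧ c.E.f (Th l (1, ρ)) ∈ A.LV := by
    intro ρ
    refine ⟨?_, fun h => ⟨⟨_, h.1⟩, h.2, rfl⟩⟩
    rintro ⟨⟨x, hx⟩, h1, h2⟩
    obtain rfl : x = Th l (1, ρ) := h2
    exact ⟨hx, h1⟩
  have ap : ∀ b, a (lp l b) = lp l b := fun b => Subtype.ext (by
    rw [← Th_out l 1, ha]; simp [lp, jA_b, sgJ_zI])
  have aq : ∀ q : Q, a (lq hkl q) = lq hkl (q.1, !q.2) := fun q => Subtype.ext (by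
    rw [← Th_out l 1, ha]; simp [lq, jA_pt, zI, hk, act_z])
  have li : ∀ q q' : Q, (lq hkl q : Lam γ l) = lq hkl q' ↔ q = q' := fun q q' =>
    ⟨fun e => by simpa [lq] using congrArg Subtype.val e, fun e => by rw [e]⟩
  obtain ⟨s0, s1⟩ := A.single_LV (c.pat A hG hl) hkl
  have h' := (Th_HH hl ha).1 h
  refine (hN.1 (normal_gen (a_sq ha) N (fun b h1 h2 y hy => ?_) (lp_ne l) (ap _) (ap _)
    (x0 := lq hkl (true, false)) (y0 := lq hkl (false, true)) (by simp [aq, li])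
    (by simp [aq, li]) (by simp [li]) (by simp [aq, li]) ?_ ?_ ρ h'.1 (by simpa using h'.2))).2
  · have hb : Th l (1, b) ∈ HH γ I := (Th_HH hl ha).2 ⟨h1, by simpa using h2⟩
    have e : Th l (1, b * y * b⁻¹) = Th l (1, b) * Th l (1, y) * (Th l (1, b))⁻¹ := by
      rw [← map_inv, ← map_mul, ← map_mul]; simp
    rw [hN] at hy ⊢
    rw [e, c.E.conj hb hy.1]
    exact ⟨mul_mem (mul_mem hb hy.1) (inv_mem hb), A.conj_LV (c.Th_CV A hG hl ha hb) hy.2⟩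
  · have e : Th l (1, swap (lq hkl (true, false)) (a (lq hkl (true, false))) *
        swap (lp l false) (lp l true)) = jA (Pi.mulSingle k e0) := by
      rw [Th_one, map_mul, Perm.ofSubtype_swap_eq, Perm.ofSubtype_swap_eq, aq, jA_e0]; rfl
    rw [hN, e, ← c.hj]
    exact ⟨jA_HH _ _, s0⟩
  · have e : Th l (1, swap (lq hkl (true, false)) (lq hkl (false, true)) *
        swap (a (lq hkl (true, false))) (a (lq hkl (false, true)))) = jA (Pi.mulSingle k e1) := by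
      rw [Th_one, map_mul, Perm.ofSubtype_swap_eq, Perm.ofSubtype_swap_eq, aq, aq, jA_e1]; rfl
    rw [hN, e, ← c.hj]
    exact ⟨jA_HH _ _, s1⟩

theorem split_CV (ha : Th l (1, a) = jA (zI (I.erase l))) {g : G} (h1 : g ∈ A.CV)
    (h2 : g * c.K.j (zI (I.erase l)) = c.K.j (zI (I.erase l)) * g) :
    ∃ ρ d, Th l (1, ρ) ∈ HH γ I ∧ sgD d = 1 ∧ c.E.f (Th l (1, ρ)) = g * c.K.j (A.δ d) := by
  obtain ⟨d, ρ, hC, rfl⟩ := c.of_ty hl (A.mem_CV.1 h1).1 h2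
  obtain ⟨σ, -, e⟩ := c.v_Th A hG hl ha sgD_e1
  have h3 := (A.mem_CV.1 h1).2
  rw [c.hj, c.E.comm_iff hC (jA_HH _ _), e, ← map_mul, ← map_mul, (Th_inj l).eq_iff] at h3
  have h4 : sgD d⁻¹ = 1 := by
    have : ∀ d : D, d * e1 = e1 * d → sgD d⁻¹ = 1 := by decide
    exact this d (congrArg Prod.fst h3)
  obtain ⟨τ, -, e'⟩ := c.v_Th A hG hl ha h4
  have h5 : Th l (1, ρ * τ) = Th l (d, ρ) * jA (A.δ d⁻¹) := by rw [e', ← map_mul]; simp
  exact ⟨ρ * τ, d⁻¹, h5 ▸ mul_mem hC (jA_HH _ _), h4, by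
    rw [h5, c.E.mul _ hC _ (jA_HH _ _), c.hj]⟩

theorem y_LV {k : ι} (hk : k ∈ I.erase l) {g : G} (h1 : g ∈ A.CV)
    (h2 : g * c.K.j (zI (I.erase l)) = c.K.j (zI (I.erase l)) * g) : g ∈ A.LV := by
  obtain ⟨a, ha⟩ := exists_res (γ := γ) (l := l) (d := zI (I.erase l)) (by simp [zI])
  obtain ⟨ρ, d, h3, h4, e⟩ := c.split_CV A hG hl ha h1 h2
  exact (mul_mem_cancel_right (A.dl_LV h4)).1 (e ▸ c.Th_LV A hG hl ha hk h3)

theorem exists_iso {k : ι} (hk : k ∈ I.erase l) :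
    ∃ (a : alternatingGroup (Lam γ l)) (y : A.L0), orderOf a = 2 ∧ orderOf y = 2 ∧
      y = c.K.j (zI (I.erase l)) ∧ Nonempty (centralizer {y} ≃* centralizer {a}) := by
  obtain ⟨a, ha⟩ := exists_res (γ := γ) (l := l) (d := zI (I.erase l)) (by simp [zI])
  have hy := A.zI_L0 (c.pat A hG hl) (Finset.notMem_erase l I)
  have hne : zI (I.erase l) ≠ 1 := fun e => by
    rw [← zI_empty] at e
    rw [zI_inj e] at hk
    simp at hk
  let a' : alternatingGroup (Lam γ l) := ⟨a, a_sign ha⟩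
  have m1 : ∀ ρ : centralizer {a'}, Th l (1, ρ.1.1) ∈ HH γ I := fun ρ => (Th_HH hl ha).2
    ⟨congrArg Subtype.val (mem_centralizer_singleton_iff.1 ρ.2), by
      simpa using Perm.mem_alternatingGroup.1 ρ.1.2⟩
  refine ⟨a', ⟨_, hy⟩, orderOf_eq_prime (Subtype.ext (by simp [a', sq, a_sq ha])) fun e => hne ?_,
    orderOf_eq_prime (Subtype.ext (by simp [sq, ← map_mul, zI_sq]))
      fun e => hne (c.K.inj (by simpa using congrArg Subtype.val e)), rfl, ?_⟩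
  · refine jA_inj (γ := γ) ?_
    rw [← ha, show a = 1 from congrArg Subtype.val e, map_one]; exact map_one _
  refine iso_of_central (sgD.ker.map (c.K.j.comp A.δ)) (c.E.hom.comp
    ((((Th l).comp (MonoidHom.inr _ _)).comp ((alternatingGroup _).subtype.comp
      (centralizer {a'}).subtype)).codRestrict _ m1)) (A.L0.subtype.comp (Subgroup.subtype _))
      ?_ ?_ ?_ ?_ ?_
  · rintro b _ ⟨d, hd, rfl⟩
    exact A.cv_comm (A.L0_le b.1.2) hd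
  · rintro ρ ⟨d, hd, e⟩
    obtain ⟨τ, -, e'⟩ := c.v_Th A hG hl ha hd
    have h1 : c.K.j (A.δ d) = c.E.f (Th l (1, ρ.1.1)) := e
    rw [c.hj] at h1
    have h2 := c.E.inj _ (jA_HH _ _) _ (m1 ρ) h1
    have h3 : d = 1 := congrArg Prod.fst (Th_inj l (e'.symm.trans h2))
    rw [h3, map_one, map_one, eq_comm, map_eq_one_iff _ (Th_inj l)] at h2
    exact Subtype.ext (Subtype.ext (congrArg Prod.snd h2))
  · rintro b ⟨d, hd, e⟩
    have h1 : c.K.j (A.δ d) = b.1.1 := e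
    have h2 := A.L0_inf hd (h1 ▸ b.1.2)
    exact Subtype.ext (Subtype.ext (by rw [← h1, h2]; simp))
  · intro ρ
    obtain ⟨s, hs, d, hd, e⟩ := c.Th_LV A hG hl ha hk (m1 ρ)
    refine ⟨⟨⟨s, hs⟩, mem_centralizer_singleton_iff.2 (Subtype.ext ?_)⟩, _, ⟨d, hd, rfl⟩, e⟩
    have h1 : c.E.f (Th l (1, ρ.1.1)) * c.K.j (zI (I.erase l)) =
        c.K.j (zI (I.erase l)) * c.E.f (Th l (1, ρ.1.1)) := by
      rw [c.hj, c.E.comm_iff (m1 ρ) (jA_HH _ _), ← ha, ← map_mul, ← map_mul]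
      simp [((Th_HH hl ha).1 (m1 ρ)).1]
    rw [e, mul_assoc, ← A.cv_comm (A.L0_le hy) hd, ← mul_assoc, ← mul_assoc] at h1
    exact mul_right_cancel h1
  · intro b
    obtain ⟨ρ, d, h3, h4, e⟩ := c.split_CV A hG hl ha (A.L0_le b.1.2)
      (congrArg Subtype.val (mem_centralizer_singleton_iff.1 b.2))
    have h5 := (Th_HH hl ha).1 h3
    exact ⟨⟨⟨ρ, by simpa using h5.2⟩, mem_centralizer_singleton_iff.2 (Subtype.ext h5.1)⟩, _,
      ⟨d, h4, rfl⟩, e⟩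

theorem vy_CV {b : G} (h1 : b * c.K.j (zl l) = c.K.j (zl l) * b)
    (h2 : b * (c.K.j (zI (I.erase l)) * c.K.j (A.δ e1)) =
      c.K.j (zI (I.erase l)) * c.K.j (A.δ e1) * b) : b ∈ A.CV := by
  obtain ⟨u, T⟩ := A.T1.flip
  have a1 : u * c.K.j (zl l) * u⁻¹ = c.K.j (A.δ e1) := by
    rw [T.z, zl_comm, ← mul_assoc, zl_sq, one_mul]
  have a2 : u * c.K.j (A.δ e1) * u⁻¹ = c.K.j (zl l) := by
    have := T.fix
    rw [Dat.conj_mul, a1, map_mul, ← A.tv_comm] at this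
    exact mul_right_cancel this
  have a3 := T.fz _ (Finset.notMem_erase l I)
  have cj : ∀ {s s'}, u * s * u⁻¹ = s' → (b * s = s * b ↔ u * b * u⁻¹ * s' = s' * (u * b * u⁻¹)) := by
    rintro s _ rfl
    rw [conj_mul, conj_mul, mul_left_inj, mul_right_inj]
  obtain ⟨C, hC, e⟩ := c.exists_of_comm (g := u * b * u⁻¹) ((cj (by
    rw [← conj_mul, a2, a3, zI_erase hl, ← zl_comm, map_mul])).1 h2)
  refine A.mem_CV.2 ⟨h1, (cj a2).2 ?_⟩
  have h3 := (cj a1).1 h1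
  rw [← e, c.hj, c.E.comm_iff hC (jA_HH _ _)] at h3 ⊢
  rcases w1_eq hG hl A.T1 (A.hδ _) with h | h
  · exact comm_zl hl (by decide) sgD_e1 hC (h ▸ h3)
  · refine comm_zl hl (e := e1 * zD) (by decide) (by decide) hC ?_
    have : Pi.mulSingle l (e1 * zD) = A.δ e1 * zI I := by
      rw [h, zI_erase hl, ← zl_comm, mul_assoc, ← mul_assoc (zI _), zI_sq, one_mul,
        Pi.mulSingle_mul]
    rw [this, map_mul, ← mul_assoc, h3, mul_assoc, (mem_HH.1 hC).1, mul_assoc]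

end Cfg

end H24.Ko
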