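import Mathlib
import Cfsg.Agent.Lib.Kondo.C3
import Cfsg.Agent.Lib.InvChar.SymSix
import Cfsg.Agent.Lib.Perm29.AutAlt

/-! The centralizer of an involution of weight one. -/

set_option autoImplicit false
set_option linter.unusedSectionVars false

namespace H24.Ko

open DihedralGroup Subgroup Equiv Cfsg

variable {G : Type*} [Group G] [Finite G] {ι : Type} [Fintype ι] [DecidableEq ι]
  {Λ : Type} [Fintype Λ] [DecidableEq Λ]

theorem aut_perm (h4 : 4 ≤ Fintype.card Λ) (φ : MulAut (alternatingGroup Λ))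
    {x : alternatingGroup Λ} (hx : 3 ∣ orderOf x) (hφ : φ x = x) :
    ∃ g : Perm Λ, ∀ x, (φ x).1 = g * x.1 * g⁻¹ := by
  by_cases h6 : Fintype.card Λ = 6
  swap
  · exact H29.exists_perm_of_aut h4 h6 φ
  let e : Λ ≃ Fin 6 := Fintype.equivFinOfCardEq h6
  let ε := e.altCongrHom
  obtain ⟨g, hg⟩ := H29.exists_perm_of_isThreeCycle (by simp) ((ε.symm.trans φ).trans ε)
    (H72.isThreeCycle_of_fix _ (x := ε (x ^ (orderOf x / 3)))
      (by rw [MulEquiv.orderOf_eq, orderOf_pow_orderOf_div (orderOf_pos x).ne' hx])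
      (by simp [hφ]))
  refine ⟨e.permCongrHom.symm g, fun y => e.permCongrHom.injective ?_⟩
  have := hg (ε y)
  simp only [MulEquiv.trans_apply, MulEquiv.symm_apply_apply] at this
  rw [map_mul, map_mul, map_inv, MulEquiv.apply_symm_apply]
  exact this

theorem exists_Psi (E : Emb (alternatingGroup Λ) G) (δ : D →* G) (π : Perm Λ)
    (hs : Perm.sign π = -1) (h2 : π * π = 1)
    (h0 : ∀ x ∈ alternatingGroup Λ, δ e0 * E.f x * (δ e0)⁻¹ = E.f (π * x * π⁻¹))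
    (h1 : ∀ d, sgD d = 1 → ∀ x ∈ alternatingGroup Λ, E.f x * δ d = δ d * E.f x)
    (hL : ∀ d, δ d ∈ E.hom.range → d = 1) : ∃ Ψ : FF Λ →* G, Function.Injective Ψ ∧
      Ψ (tF Λ) = δ zD ∧ Ψ.range = δ.range ⊔ E.hom.range := by
  let p : ℤˣ →* Perm Λ :=
    { toFun u := if u = 1 then 1 else π
      map_one' := by simp
      map_mul' u v := by
        rcases Int.units_eq_one_or u with rfl | rfl <;>
          rcases Int.units_eq_one_or v with rfl | rfl <;> simp [h2] }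
  have hp : ∀ u, Perm.sign (p u) = u := fun u => by
    rcases Int.units_eq_one_or u with rfl | rfl <;> simp [p, hs]
  have cj : ∀ d, ∀ x ∈ alternatingGroup Λ,
      (δ d)⁻¹ * E.f x * δ d = E.f ((p (sgD d))⁻¹ * x * p (sgD d)) := by
    intro d x hx
    rcases Int.units_eq_one_or (sgD d) with h | h
    · rw [h, mul_assoc, h1 d h x hx]; simp
    · have e : d = (d * e0) * e0⁻¹ := by simp
      have h3 : sgD (d * e0) = 1 := by rw [map_mul, h, sgD_e0]; decide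
      have h4 : π⁻¹ = π := inv_eq_of_mul_eq_one_left h2
      rw [h, e, map_mul, map_inv]
      calc _ = δ e0 * ((δ (d * e0))⁻¹ * (E.f x * δ (d * e0))) * (δ e0)⁻¹ := by group
        _ = _ := by rw [h1 _ h3 x hx, inv_mul_cancel_left, h0 x hx]; simp [p, h4]
  have m : ∀ q : FF Λ, (p (sgD q.1.1))⁻¹ * q.1.2 ∈ alternatingGroup Λ := fun q => by
    rw [Perm.mem_alternatingGroup, map_mul, map_inv, hp, ← mem_FF.1 q.2, inv_mul_cancel]
  have m' : ∀ {x} (u : ℤˣ), x ∈ alternatingGroup Λ → (p u)⁻¹ * x * p u ∈ alternatingGroup Λ :=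
    fun u hx => Normal.conj_mem' inferInstance _ hx _
  let Ψ : FF Λ →* G := MonoidHom.mk' (fun q => δ q.1.1 * E.f ((p (sgD q.1.1))⁻¹ * q.1.2))
    fun q q' => by
      have := cj q'.1.1 _ (m q)
      calc _ = δ q.1.1 * δ q'.1.1 * (E.f ((p (sgD q'.1.1))⁻¹ * ((p (sgD q.1.1))⁻¹ * q.1.2) *
          p (sgD q'.1.1)) * E.f ((p (sgD q'.1.1))⁻¹ * q'.1.2)) := by
            rw [← E.mul _ (m' _ (m q)) _ (m q')]
            simp [mul_assoc]
        _ = _ := by rw [← this]; group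
  have hΨ : ∀ q, Ψ q = δ q.1.1 * E.f ((p (sgD q.1.1))⁻¹ * q.1.2) := fun _ => rfl
  refine ⟨Ψ, (injective_iff_map_eq_one Ψ).2 fun q h => ?_, by
    simp [hΨ, tF, sgD_cen _ cen_zD, E.one], le_antisymm ?_ (sup_le ?_ ?_)⟩
  · rw [hΨ] at h
    have h3 := hL q.1.1 (eq_inv_of_mul_eq_one_left h ▸ inv_mem (E.mem (m q)))
    have h4 := m q
    simp only [h3, map_one, inv_one, one_mul] at h h4
    exact Subtype.ext (Prod.ext h3 (E.eq_one h4 h))
  · rintro _ ⟨q, rfl⟩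
    exact mul_mem_sup ⟨_, rfl⟩ (E.mem (m q))
  · rintro _ ⟨d, rfl⟩
    exact ⟨⟨(d, p (sgD d)), mem_FF.2 (hp _).symm⟩, by simp [hΨ, E.one]⟩
  · rintro _ ⟨x, rfl⟩
    exact ⟨⟨(1, x), mem_FF.2 (by simpa using (Perm.mem_alternatingGroup.1 x.2).symm)⟩, by
      simp [hΨ, E.hom_apply]⟩

namespace Loc

variable {K : Dat G ι} {l : ι} (A : Loc K l)

/-- the involutions of the complement -/
def Fus : Prop := ∃ Ch : ℕ → Finset ι, (∀ i, l ∉ Ch i) ∧ ∀ s ∈ A.L0, s * s = 1 →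
  ∃ x ∈ A.L0, x * K.j (zI (Ch (K.wt s))) * x⁻¹ = s

theorem fus_of (hP : A.Pat) (E : Emb (alternatingGroup Λ) G) (hE : E.hom.range = A.L0)
    (hn : Fintype.card Λ < 4 * Fintype.card ι) : A.Fus := by
  classical
  have h1 : ∀ i : ℕ, ∃ I : Finset ι, l ∉ I ∧ (i < Fintype.card ι → I.card = i) := by
    intro i
    by_cases h : i < Fintype.card ι
    · obtain ⟨I, h1, h2⟩ := Finset.exists_subset_card_eq (s := Finset.univ.erase l) (n := i)
        (by simp; omega)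
      exact ⟨I, fun h => by simpa using h1 h, fun _ => h2⟩
    · exact ⟨∅, by simp, fun h' => absurd h' h⟩
  choose Ch a b using h1
  have h2 : ∀ i, ∃ σ ∈ alternatingGroup Λ, E.f σ = K.j (zI (Ch i)) := fun i =>
    E.exists_of_mem (hE ▸ A.zI_L0 hP (a i))
  choose ζ h2 h3 using h2
  have hpos : 0 < Fintype.card ι := Fintype.card_pos_iff.2 ⟨l⟩
  have h4 : ∀ i : Fin (Fintype.card ι - 1), K.wt (E.f (ζ (i + 1))) = i + 1 := fun i => by
    rw [h3, K.wt_zI, b _ (by omega)]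
  refine ⟨Ch, a, fun s hs h => ?_⟩
  obtain ⟨σ, hσ, rfl⟩ := E.exists_of_mem (hE ▸ hs)
  by_cases h0 : σ = 1
  · subst h0
    rw [E.one, K.wt_one, Finset.card_eq_zero.1 (b 0 hpos)]
    exact ⟨1, one_mem _, by simp [zI_empty]⟩
  obtain ⟨i, c, hc, e⟩ := pigeon E K.wt K.wt_conj (n := Fintype.card ι - 1) (by omega)
    (fun i => ζ (i + 1)) (fun i => h2 _) (fun i => E.eq_one (mul_mem (h2 _) (h2 _)) (by
      rw [E.mul _ (h2 _) _ (h2 _), h3, ← map_mul, zI_sq, map_one]))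
    (fun i e => by have := h4 i; rw [e, E.one, K.wt_one] at this; omega) h4 hσ
    (E.eq_one (mul_mem hσ hσ) (by rw [E.mul _ hσ _ hσ, h])) h0
  refine ⟨E.f c, hE ▸ E.mem hc, ?_⟩
  rw [← e, E.conj hc (h2 _), K.wt_conj, h4, h3]

variable {A}

theorem Fus.conj (hF : A.Fus) {s s' : G} (hs : s ∈ A.L0) (hs' : s' ∈ A.L0) (h : s * s = 1)
    (h' : s' * s' = 1) (e : K.wt s = K.wt s') : ∃ x ∈ A.L0, x * s * x⁻¹ = s' := by
  obtain ⟨Ch, -, hF⟩ := hF
  obtain ⟨x, hx, a⟩ := hF s hs h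
  obtain ⟨x', hx', a'⟩ := hF s' hs' h'
  rw [e] at a
  exact ⟨x' * x⁻¹, mul_mem hx' (inv_mem hx), by rw [← a', ← a]; group⟩

theorem Fus.eq_one (hF : A.Fus) {s : G} (hs : s ∈ A.L0) (h : s * s = 1) (e : K.wt s = 0) :
    s = 1 := by
  obtain ⟨x, -, a⟩ := hF.conj (one_mem _) hs (by simp) h (by rw [K.wt_one, e])
  simpa using a.symm

theorem Fus.wt (hF : A.Fus) {s : G} (hs : s ∈ A.L0) (h : s * s = 1) {d : D} (hd : sgD d = 1)
    (h1 : d ≠ 1) : K.wt (s * K.j (A.δ d)) = K.wt s + 1 := by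
  obtain ⟨Ch, a, hF⟩ := hF
  obtain ⟨x, hx, e⟩ := hF s hs h
  have := a (K.wt s)
  generalize Ch (K.wt s) = I at e this
  rw [← e, ← mul_inv_eq_iff_eq_mul.2 (A.cv_comm (A.L0_le hx) hd), conj_mul, K.wt_conj, K.wt_conj,
    ← map_mul, zI_comm, K.wt_zI]
  rcases Cfg.ker_cases d hd with rfl | rfl | rfl | rfl
  · exact absurd rfl h1
  · rw [A.hz, ← zI_insert _ _ this, K.wt_zI, Finset.card_insert_of_notMem this]
  · rw [A.T1.wt, Finset.erase_eq_of_notMem this, add_comm]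
  · obtain ⟨u, T⟩ := A.T1.flip
    rw [map_mul A.δ, A.hz, T.wt, Finset.erase_eq_of_notMem this, add_comm]

theorem sq_part {s : G} (hs : s ∈ A.L0) {d : D} (hd : sgD d = 1)
    (h : s * K.j (A.δ d) * (s * K.j (A.δ d)) = 1) : s * s = 1 := by
  have : ∀ d : D, sgD d = 1 → d * d = 1 := by decide
  rwa [mul_assoc, ← mul_assoc _ s, ← A.cv_comm (A.L0_le hs) hd, mul_assoc, A.dl_sq (this d hd),
    mul_one] at h

theorem Fus.up (hF : A.Fus) {s : G} (hs : s ∈ A.LV) (h : s * s = 1)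
    (e : K.wt s + 1 = K.wt (s * K.j (zl l))) : s ∈ A.L0 := by
  obtain ⟨s, hs, d, hd, rfl⟩ := hs
  have h2 := sq_part hs hd h
  by_cases h1 : d = 1
  · simpa [h1] using hs
  rw [hF.wt hs h2 hd h1, ← A.hz, mul_assoc, ← map_mul, ← map_mul] at e
  by_cases h3 : d * zD = 1
  · rw [h3] at e; simp at e; omega
  · rw [hF.wt hs h2 (by rw [map_mul, hd]; decide) h3] at e; omega

theorem Fus.iso (hF : A.Fus) {s : G} (hs : s ∈ A.LV) (h : s * s = 1) (e : K.wt s = 1)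
    (e' : K.wt (s * K.j (zl l)) = 1) :
    s = K.j (A.δ e1) ∨ s = K.j (A.δ e1) * K.j (zl l) := by
  obtain ⟨s, hs, d, hd, rfl⟩ := hs
  have h2 := sq_part hs hd h
  have h3 := hF.wt hs h2 (d := zD) (by decide) zD_ne
  rcases Cfg.ker_cases d hd with rfl | rfl | rfl | rfl
  · rw [A.hz] at h3
    simp only [map_one, mul_one] at e e'
    omega
  · rw [A.hz, mul_assoc, t_sq, mul_one] at e'
    omega
  · rw [hF.wt hs h2 hd (by decide)] at e
    rw [hF.eq_one hs h2 (by omega), one_mul]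
    exact Or.inl rfl
  · rw [hF.wt hs h2 hd (by decide)] at e
    rw [hF.eq_one hs h2 (by omega), one_mul]
    exact Or.inr A.vt

theorem al_v : K.j (A.δ e0) * K.j (A.δ e1) * (K.j (A.δ e0))⁻¹ =
    K.j (A.δ e1) * K.j (zl l) := by
  rw [← vt, ← map_inv, ← map_inv, ← map_mul, ← map_mul, ← map_mul, ← map_mul]
  congr 2

theorem mul_al {x : G} (hx : x ∈ A.X0) (h : x ∉ A.CV) : x * K.j (A.δ e0) ∈ A.CV := by
  obtain ⟨h1, h2⟩ := hx
  have h3 := h2.resolve_left fun e =>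
    h (A.mem_CV.2 ⟨mul_inv_eq_iff_eq_mul.1 h1, mul_inv_eq_iff_eq_mul.1 e⟩)
  have e : ∀ s, x * K.j (A.δ e0) * s * (x * K.j (A.δ e0))⁻¹ =
    x * (K.j (A.δ e0) * s * (K.j (A.δ e0))⁻¹) * x⁻¹ := fun s => by group
  refine A.mem_CV.2 ⟨mul_inv_eq_iff_eq_mul.1 ?_, mul_inv_eq_iff_eq_mul.1 ?_⟩
  · rw [e, (A.j_X0 _).1, h1]
  · rw [e, al_v, ← conj_mul, h1, h3, mul_assoc, t_sq, mul_one]

theorem cent_le (hP : A.Pat) (hF : A.Fus) [IsSimpleGroup A.L0] {I : Finset ι} (hI : l ∉ I)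
    {l' : ι} (hl' : l' ∈ I)
    (nc : ∀ g ∈ normalizer (K.j.range : Set G), (∀ l, g * K.j (zl l) = K.j (zl l) * g) →
      g ∈ K.j.range)
    (h1 : ∀ g, g * K.j (zl l) = K.j (zl l) * g → g * K.j (zI I) = K.j (zI I) * g → g ∈ A.X0)
    (h2 : ∀ g ∈ A.CV, g * K.j (zI I) = K.j (zI I) * g → g ∈ A.LV)
    (h3 : ∀ b, b * K.j (zl l) = K.j (zl l) * b →
      b * (K.j (zI I) * K.j (A.δ e1)) = K.j (zI I) * K.j (A.δ e1) * b → b ∈ A.CV) :
    A.CV ≤ A.LV ∧ centralizer {K.j (zl l)} ≤ A.X0 := by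
  have hy := A.zI_L0 hP hI
  have y2 : K.j (zI I) * K.j (zI I) = 1 := by rw [← map_mul, zI_sq, map_one]
  have cs : ∀ (g s : G), s * s = 1 → g * s * g⁻¹ * (g * s * g⁻¹) = 1 := fun g s h => by
    rw [conj_mul, h]; simp
  have hLV : A.CV ≤ A.LV := by
    intro g hg
    obtain ⟨x, hx, e⟩ := hF.conj (A.conj_L0 hg hy) hy (cs _ _ y2) y2 (K.wt_conj _ _)
    refine (mul_mem_cancel_left (A.L0_LV hx)).1 (h2 _ (mul_mem (A.L0_le hx) hg) ?_)
    rw [← mul_inv_eq_iff_eq_mul]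
    exact Eq.trans (by group) e
  refine ⟨hLV, ?_⟩
  set X := centralizer {K.j (zl l)} with hX
  have mX : ∀ {g}, g ∈ X ↔ g * K.j (zl l) = K.j (zl l) * g := mem_centralizer_singleton_iff
  have jX : ∀ d, K.j d ∈ X := fun d => mX.2 (by rw [← map_mul, ← map_mul, zl_comm])
  have wX : ∀ g ∈ X, ∀ s, K.wt (g * s * g⁻¹ * K.j (zl l)) = K.wt (s * K.j (zl l)) := by
    intro g hg s
    rw [← mul_inv_eq_iff_eq_mul.2 (mX.1 hg), conj_mul, K.wt_conj,
      mul_inv_eq_iff_eq_mul.2 (mX.1 hg)]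
  have wy : K.wt (K.j (zI I)) + 1 = K.wt (K.j (zI I) * K.j (zl l)) := by
    rw [← A.hz, hF.wt hy y2 (by decide) zD_ne]
  have wv : K.wt (K.j (A.δ e1)) = 1 := A.T1.wt1
  have wv' : K.wt (K.j (A.δ e1) * K.j (zl l)) = 1 := by rw [← al_v, K.wt_conj, wv]
  have v2 := A.dl_sq ni1.1
  have key : ∀ g ∈ X, g * K.j (zI I) * g⁻¹ ∈ A.CV := by
    intro g hg
    have bX := mul_mem (mul_mem hg (jX (zI I))) (inv_mem hg)
    have wb : ∀ x ∈ X, K.wt (x * (g * K.j (zI I) * g⁻¹) * x⁻¹) + 1 =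
        K.wt (x * (g * K.j (zI I) * g⁻¹) * x⁻¹ * K.j (zl l)) := fun x hx => by
      rw [wX x hx, wX g hg, K.wt_conj, K.wt_conj, wy]
    rcases dih X v2 (cs g _ y2) (jX _) bX with ⟨x, hx, e⟩ | ⟨s, hs, s2, s1, sa, sb, h⟩
    · have := wb 1 (one_mem _)
      rw [one_mul, inv_one, mul_one, ← e, wX x hx, K.wt_conj, wv, wv'] at this
      omega
    have hvs : K.j (A.δ e1) * s ∈ A.LV :=
      hLV (mul_mem (A.dl_CV sgD_e1) (A.mem_CV.2 ⟨mX.1 hs, sa⟩))
    have vs2 : K.j (A.δ e1) * s * (K.j (A.δ e1) * s) = 1 := by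
      rw [mul_assoc, ← mul_assoc s, sa, mul_assoc, s2, mul_one, v2]
    rcases h with ⟨x, hx, e⟩ | ⟨ρ, hρ, -, a, b, -⟩
    · have h4 := hF.up hvs vs2 (e ▸ wb x hx)
      obtain ⟨x', hx', e'⟩ := hF.conj h4 hy vs2 y2 (by rw [← e, K.wt_conj, K.wt_conj])
      have c' := A.L0_le hx'
      have e2 : K.j (zI I) * K.j (A.δ e1) = x' * s * x'⁻¹ := by
        rw [← e', ← mul_inv_eq_iff_eq_mul.2 (A.mem_CV.1 c').2, conj_mul,
          mul_inv_eq_iff_eq_mul.2 (A.mem_CV.1 c').2, ← sa, mul_assoc s, v2, mul_one]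
      have h5 := h3 (x' * (g * K.j (zI I) * g⁻¹) * x'⁻¹)
        (mX.1 (mul_mem (mul_mem c'.1 bX) (inv_mem c'.1))) (by rw [e2, conj_mul, conj_mul, sb])
      exact (mul_mem_cancel_left c').1 ((mul_mem_cancel_right (inv_mem c')).1 h5)
    · exfalso
      have a' : ρ⁻¹ * K.j (A.δ e1) * ρ⁻¹⁻¹ = K.j (A.δ e1) * s := by rwa [inv_inv]
      rcases hF.iso hvs vs2 (by rw [← a', K.wt_conj, wv]) (by rw [← a', wX _ (inv_mem hρ), wv'])
        with h | h
      · exact s1 (by simpa using h)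
      · have h4 := wb 1 (one_mem _)
        rw [one_mul, inv_one, mul_one, ← mul_left_cancel h, ← b,
          show ρ⁻¹ * _ * ρ = ρ⁻¹ * (g * K.j (zI I) * g⁻¹) * ρ⁻¹⁻¹ by rw [inv_inv], K.wt_conj ρ⁻¹]
          at h4
        omega
  intro g hg
  refine ⟨mul_inv_eq_iff_eq_mul.2 (mX.1 hg), ?_⟩
  have aX := mul_mem (mul_mem hg (jX (A.δ e1))) (inv_mem hg)
  set a := g * K.j (A.δ e1) * g⁻¹ with ha
  have k2 : ∀ x ∈ X, a * (x * K.j (zI I) * x⁻¹) = x * K.j (zI I) * x⁻¹ * a := by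
    intro x hx
    have := (A.mem_CV.1 (key _ (mul_mem (inv_mem hg) hx))).2
    calc _ = g * (K.j (A.δ e1) * (g⁻¹ * x * K.j (zI I) * (g⁻¹ * x)⁻¹)) * g⁻¹ := by rw [ha]; group
      _ = _ := by rw [← this, ha]; group
  by_cases hc : a ∈ A.CV
  · exact hF.iso (hLV hc) (cs _ _ v2) (by rw [ha, K.wt_conj, wv]) (by rw [ha, wX g hg, wv'])
  exfalso
  obtain ⟨s, hs, d, hd, e⟩ := hLV (mul_al (h1 a (mX.1 aX) (by simpa using k2 1 (one_mem _))) hc)
  have k3 : ∀ x ∈ A.L0, x * a = a * x := by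
    have h4 : normalClosure {(⟨_, hy⟩ : A.L0)} ≤ (centralizer {a}).comap A.L0.subtype := by
      refine (closure_le _).2 fun x hx => ?_
      obtain ⟨_, rfl, hx⟩ := Group.mem_conjugatesOfSet_iff.1 hx
      obtain ⟨x, rfl⟩ := isConj_iff.1 hx
      exact mem_centralizer_singleton_iff.2 (k2 x (A.L0_le x.2).1).symm
    rcases (normalClosure_normal (s := {(⟨_, hy⟩ : A.L0)})).eq_bot_or_eq_top with h | h
    · have := subset_normalClosure (s := {(⟨_, hy⟩ : A.L0)}) rfl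
      rw [h, SetLike.mem_coe, mem_bot, Subtype.ext_iff] at this
      have h5 := K.wt_zI I
      rw [show K.j (zI I) = 1 from this, K.wt_one, eq_comm, Finset.card_eq_zero] at h5
      simp [h5] at hl'
    · exact fun x hx => mem_centralizer_singleton_iff.1 (h4 (x := ⟨x, hx⟩) (h ▸ mem_top _))
  refine A.not_inner hP (l' := l') (fun h => hI (h ▸ hl')) nc hs fun x hx => ?_
  rw [eq_inv_mul_of_mul_eq e]
  calc _ = a⁻¹ * (s * (K.j (A.δ d) * x) * (K.j (A.δ d))⁻¹ * s⁻¹ * a) := by group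
    _ = a⁻¹ * (s * x * s⁻¹ * a) := by rw [← A.cv_comm (A.L0_le hx) hd]; group
    _ = _ := by rw [k3 _ (mul_mem (mul_mem hs hx) (inv_mem hs))]; group

theorem exists_FF (hP : A.Pat) (E : Emb (alternatingGroup Λ) G) (hE : E.hom.range = A.L0)
    (h4 : 4 ≤ Fintype.card Λ) {l' : ι} (hl : l' ≠ l)
    (nc : ∀ g ∈ normalizer (K.j.range : Set G), (∀ l, g * K.j (zl l) = K.j (zl l) * g) →
      g ∈ K.j.range) (h1 : A.CV ≤ A.LV) (h2 : centralizer {K.j (zl l)} ≤ A.X0) :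
    ∃ Ψ : FF Λ →* G, Function.Injective Ψ ∧ Ψ.range = centralizer {Ψ (tF Λ)} := by
  have hn : K.j (A.δ e0) ∈ normalizer (E.hom.range : Set G) := mem_normalizer_fintype (by
    rw [hE]; exact fun x => A.norm_L0 fun _ => A.X0_norm (A.j_X0 _))
  let e := MonoidHom.ofInjective E.hom_inj
  let φ : MulAut (alternatingGroup Λ) :=
    (e.trans (normalizerMonoidHom E.hom.range ⟨_, hn⟩)).trans e.symm
  have hφ : ∀ x, E.f (φ x) = K.j (A.δ e0) * E.f x * (K.j (A.δ e0))⁻¹ := fun x =>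
    congrArg Subtype.val (e.apply_symm_apply _)
  obtain ⟨x, hx, h3⟩ : ∃ x ∈ A.L0, 3 ∣ orderOf x ∧ x * K.j (A.δ e0) = K.j (A.δ e0) * x := by
    have key : ∀ {w u}, K.Tv l' w u → ¬ K.Adj w (A.δ e1) → ¬ K.Adj (A.δ e0) w →
        ∃ x ∈ A.L0, 3 ∣ orderOf x ∧ x * K.j (A.δ e0) = K.j (A.δ e0) * x := by
      intro w u T n1 n0
      obtain ⟨x, hx, a, b, -, -, c⟩ := A.W_le T hl n1
      refine ⟨x, hx, by_contra fun h => ?_, c (by rwa [← A.T0.adj_symm T hl.symm])⟩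
      have c3 : Commute (x ^ 3) (K.j w) := by
        refine mul_inv_eq_iff_eq_mul.1 ?_
        calc _ = x * (x * (x * K.j w * x⁻¹) * x⁻¹) * x⁻¹ := by
              simp only [pow_succ, pow_zero, one_mul, mul_inv_rev, mul_assoc]
          _ = _ := by rw [a, b, ← conj_mul, a, b, ← map_mul, ← map_mul, zl_comm, ← mul_assoc,
              zl_sq, one_mul]
      obtain ⟨k, hk⟩ := mem_zpowers_pow_iff.2 ((Nat.Prime.coprime_iff_not_dvd Nat.prime_three).2 h)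
      have c1 : Commute x (K.j w) := hk ▸ c3.zpow_left k
      rw [c1.eq, mul_inv_cancel_right] at a
      exact T.ni.2 (Or.inr (by rw [K.inj a]; simp))
    obtain ⟨w0, u0, w1, u1, T0, -, T1, -, n0, n1, h⟩ := hP l' hl
    by_cases h0 : K.Adj (A.δ e0) w0
    · exact key T1 n1 (h.1 h0)
    · exact key T0 n0 h0
  obtain ⟨x, rfl⟩ : x ∈ E.hom.range := hE ▸ hx
  obtain ⟨π, hπ⟩ := aut_perm h4 φ (x := x) (by rw [← orderOf_injective _ E.hom_inj]; exact h3.1)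
    (E.hom_inj (by rw [E.hom_apply, hφ, ← E.hom_apply, ← h3.2]; simp))
  have h0 : ∀ x ∈ alternatingGroup Λ,
      K.j (A.δ e0) * E.f x * (K.j (A.δ e0))⁻¹ = E.f (π * x * π⁻¹) := fun x hx => by
    rw [← hφ ⟨x, hx⟩, hπ]
  have m : ∀ x ∈ alternatingGroup Λ, π * x * π⁻¹ ∈ alternatingGroup Λ := fun x hx =>
    Normal.conj_mem inferInstance _ hx _
  obtain ⟨Ψ, a, b, c⟩ := exists_Psi E (K.j.comp A.δ) π
    ((Int.units_eq_one_or _).resolve_left fun h =>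
      A.not_inner hP hl nc (s := E.f π) (hE ▸ E.mem h) fun x hx => by
        obtain ⟨x, hx', rfl⟩ := E.exists_of_mem (hE ▸ hx)
        rw [h0 x hx', E.conj h hx'])
    (H29.eq_one_of_centralizes_alt h4 fun x hx => by
      refine E.inj _ (Normal.conj_mem inferInstance _ hx _) _ hx ?_
      rw [show π * π * x * (π * π)⁻¹ = π * (π * x * π⁻¹) * π⁻¹ by group, ← h0 _ (m x hx),
        ← h0 x hx]
      calc _ = K.j (A.δ e0) * K.j (A.δ e0) * E.f x * (K.j (A.δ e0) * K.j (A.δ e0))⁻¹ := by group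
        _ = _ := by rw [A.dl_sq ni0.1]; simp) h0
    (fun d hd x hx => A.cv_comm (A.L0_le (hE ▸ E.mem hx)) hd) (fun d hd => by
      rw [hE] at hd
      refine A.L0_inf ?_ hd
      have := K.inj (by simpa using (A.mem_CV.1 (A.L0_le hd)).2 :
        K.j (A.δ (d * e1)) = K.j (A.δ (e1 * d)))
      have h5 := congrFun this l
      rw [A.hδ, A.hδ] at h5
      exact (by decide : ∀ d : D, d * e1 = e1 * d → sgD d = 1) d h5)
  refine ⟨Ψ, a, ?_⟩
  have k1 : A.CV ≤ Ψ.range := fun x hx => by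
    obtain ⟨s, hs, d, -, rfl⟩ := h1 hx
    rw [c, hE]
    exact mul_mem (mem_sup_right hs) (mem_sup_left ⟨d, rfl⟩)
  rw [b, MonoidHom.comp_apply, A.hz]
  refine le_antisymm ?_ fun x hx => ?_
  · rw [c, hE]
    refine sup_le ?_ fun x hx => (A.L0_le hx).1
    rintro _ ⟨d, rfl⟩
    exact mem_centralizer_singleton_iff.2 (mul_inv_eq_iff_eq_mul.1 (A.j_X0 _).1)
  · by_cases hc : x ∈ A.CV
    · exact k1 hc
    · exact (mul_mem_cancel_right (c ▸ mem_sup_left ⟨e0, rfl⟩)).1 (k1 (mul_al (h2 hx) hc))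

end Loc

end H24.Ko
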