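import Mathlib
import Cfsg.Agent.Lib.Kondo.C4
import Cfsg.Agent.Lib.TwoFusion.FusionTools

/-! Transport to the model and the inductive step. -/

set_option autoImplicit false
set_option linter.unusedSectionVars false

namespace H24.Ko

open DihedralGroup Subgroup Equiv Cfsg

variable {G : Type*} [Group G] [Finite G] {ι γ : Type} [Fintype ι] [DecidableEq ι] [Fintype γ]
  [DecidableEq γ]

theorem exists_model [Subsingleton γ] {α : Type} [Fintype α] [DecidableEq α]
    (h : Fintype.card α = Fintype.card (Pt ι γ)) {a : alternatingGroup α} (ha : orderOf a = 2)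
    {z : G} (hz : orderOf z = 2) (e : centralizer {z} ≃* centralizer {a}) :
    ∃ I : Finset ι, I.Nonempty ∧ ∃ E : Emb (HH γ I) G, E.hom.range = centralizer {z} ∧
      E.f (jA (zI I)) = z := by
  have a2 : a.1 * a.1 = 1 := by
    have := pow_orderOf_eq_one a
    rw [ha, sq] at this
    exact congrArg Subtype.val this
  obtain ⟨s, hs⟩ := four_dvd a2 a.2
  have h1 : a.1.support.card ≤ Fintype.card α := Finset.card_le_univ _
  have h3 : Fintype.card γ ≤ 1 := Fintype.card_le_one_iff_subsingleton.2 ‹_›
  obtain ⟨I, -, hI⟩ := Finset.exists_subset_card_eq (s := (Finset.univ : Finset ι)) (n := s)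
    (by rw [h, card_Pt] at h1; simp; omega)
  let e0 : Pt ι γ ≃ α := (Fintype.equivOfCardEq h).symm
  obtain ⟨c, hc⟩ := isConj_iff.1 (isConj_of_card (σ := e0.permCongrHom (jA (zI I))) (τ := a.1)
    (by rw [← map_pow, ← map_pow, sq, zI_sq, map_one, map_one]) (by rw [sq, a2]) (by
      have : (e0.permCongrHom (jA (zI I))).support = (jA (zI I)).support.map e0.toEmbedding := by
        ext w
        simp [Equiv.permCongrHom, Perm.mem_support, ← Equiv.eq_symm_apply]
      rw [hs, ← hI, ← supp_zI (γ := γ), this, Finset.card_map]))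
  let ω : Perm (Pt ι γ) ≃* Perm α := e0.permCongrHom.trans (MulAut.conj c)
  have hω : ∀ σ, Perm.sign (ω σ) = Perm.sign σ := fun σ => by
    simp [ω, Equiv.permCongrHom, mul_comm, ← mul_assoc]
  have hωa : ω (jA (zI I)) = a := hc
  let f : HH γ I →* centralizer {a} :=
    ((ω.toMonoidHom.comp (HH γ I).subtype).codRestrict (alternatingGroup α) fun x =>
      (hω x).trans (mem_HH.1 x.2).2).codRestrict _ fun x => mem_centralizer_singleton_iff.2
        (Subtype.ext (by
          change ω x * a = a * ω x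
          rw [← hωa, ← map_mul, ← map_mul, (mem_HH.1 x.2).1]))
  have hf : ∀ x, (f x).1.1 = ω x := fun _ => rfl
  have fi : Function.Injective f := fun x y h =>
    Subtype.ext (ω.injective (by rw [← hf, ← hf, h]))
  have fs : Function.Surjective f := fun y => ⟨⟨ω.symm y.1.1, mem_HH.2 ⟨ω.injective (by
      rw [map_mul, map_mul, hωa, ω.apply_symm_apply]
      exact congrArg Subtype.val (mem_centralizer_singleton_iff.1 y.2)), by
      rw [← hω, ω.apply_symm_apply]; exact y.1.2⟩⟩,
    Subtype.ext (Subtype.ext (ω.apply_symm_apply _))⟩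
  obtain ⟨E, hE⟩ := Emb.exists_of_hom ((centralizer {z}).subtype.comp (e.symm.toMonoidHom.comp f))
    (Subtype.val_injective.comp (e.symm.injective.comp fi))
  have hr : E.hom.range = centralizer {z} := by
    rw [hE, MonoidHom.range_comp, MonoidHom.range_eq_top.2 (e.symm.surjective.comp fs),
      ← MonoidHom.range_eq_map, range_subtype]
  have hne : I.Nonempty := by
    rw [← Finset.card_pos, hI]
    by_contra h0
    have : a.1.support.card = 0 := by omega
    rw [Finset.card_eq_zero, Perm.support_eq_empty_iff] at this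
    rw [show a = 1 from Subtype.ext this] at ha
    simp at ha
  obtain ⟨l, hl⟩ := hne
  refine ⟨I, ⟨l, hl⟩, E, hr, ?_⟩
  obtain ⟨c, hc, rfl⟩ := E.exists_of_mem (x := z) (hr ▸ mem_centralizer_singleton_iff.2 rfl)
  rw [center_HH hl hc (fun h => by rw [h, E.one] at hz; simp at hz) fun x hx =>
    (E.comm_iff hc hx).1 (mem_centralizer_singleton_iff.1 (hr ▸ E.mem hx)).symm]

theorem Loc.res_L0 {K : Dat G ι} {l : ι} (A : Loc K l) : pResidual 2 A.L0 = ⊤ := by
  have := H4.map_pResidual_equiv (n := 2)
    (equivMapOfInjective (pResidual 2 A.CV) A.CV.subtype A.CV.subtype_injective)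
  rw [H4.pResidual_pResidual, ← MonoidHom.range_eq_map, MonoidHom.range_eq_top.2
    (MulEquiv.surjective _)] at this
  exact this.symm

theorem Cfg.step [Subsingleton γ] {I : Finset ι} {l k : ι} (c : Cfg G γ I) (A : Loc c.K l)
    (hG : ∀ N : Subgroup G, N.index ≠ 2) (hl : l ∈ I) (hk : k ∈ I.erase l)
    (e : A.L0 ≃* alternatingGroup (Lam γ l)) : Nonempty (G ≃* alternatingGroup (Pt ι γ)) := by
  have hkl := Finset.ne_of_mem_erase hk
  have h1 := card_Lam (γ := γ) l
  have h2 : 2 ≤ Fintype.card ι := Fintype.one_lt_card_iff.2 ⟨_, _, hkl⟩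
  have h3 : Fintype.card γ ≤ 1 := Fintype.card_le_one_iff_subsingleton.2 ‹_›
  rw [card_Pt] at h1
  obtain ⟨E, hE⟩ := Emb.exists_of_hom (A.L0.subtype.comp e.symm.toMonoidHom)
    (Subtype.val_injective.comp e.symm.injective)
  have hr : E.hom.range = A.L0 := by
    rw [hE, MonoidHom.range_comp, MonoidHom.range_eq_top.2 e.symm.surjective,
      ← MonoidHom.range_eq_map, range_subtype]
  have hP := c.pat A hG hl
  have := alternatingGroup.isSimpleGroup (α := Lam γ l)
    (by simp only [Nat.card_eq_fintype_card]; omega)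
  have : IsSimpleGroup A.L0 := e.isSimpleGroup
  obtain ⟨a, b⟩ := Loc.cent_le hP (A.fus_of hP E hr (by omega)) (Finset.notMem_erase l I) hk c.nc
    (fun g => c.ty_X0 A hG hl) (fun g => c.y_LV A hG hl hk) (fun g => c.vy_CV A hG hl)
  obtain ⟨Ψ, h4, h5⟩ := Loc.exists_FF hP E hr (by omega) hkl c.nc a b
  exact thm2 hG hkl.symm Ψ h4 h5

end H24.Ko
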