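import Mathlib
import Cfsg.Agent.Lib.Kondo.C5
import Cfsg.Agent.Lib.Core.CoprimeAbelian
import Cfsg.Agent.Lib.SL2.Klein
import Cfsg.Agent.Lib.Invol.Count

/-! The case of degree seven. -/

set_option autoImplicit false
set_option linter.unusedSectionVars false

namespace H24.Ko

open DihedralGroup Subgroup Equiv Cfsg H40.Alt

variable {G : Type*} [Group G] [Finite G] {ι γ : Type} [Fintype ι] [DecidableEq ι] [Fintype γ]
  [DecidableEq γ]

theorem cube_cases {θ x : G} (h : θ ^ 3 = 1) (hx : x ∈ zpowers θ) : x = 1 ∨ x = θ ∨ x = θ⁻¹ := by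
  obtain ⟨k, rfl⟩ := mem_zpowers_iff.1 hx
  rw [zpow_eq_zpow_emod k (n := 3) (by exact_mod_cast h)]
  have : k % 3 = 0 ∨ k % 3 = 1 ∨ k % 3 = 2 := by omega
  rcases this with e | e | e <;> rw [e]
  · simp
  · simp
  · refine Or.inr (Or.inr (eq_inv_of_mul_eq_one_left ?_))
    rw [← h, pow_succ]; norm_cast

theorem Cfg.seven [Subsingleton ι] [Unique γ] {l : ι} (c : Cfg G γ {l})
    (hG : ∀ N : Subgroup G, N.index ≠ 2) : IsSimpleGroup G ∧ ¬ IsCyclic G ∧
    (∃ w : G, Nat.card (centralizer {w}) ≤ 4) ∧ Nat.card G ≠ 60 ∧ Nat.card G ≠ 360 ∧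
    Nat.card G ≠ 168 := by
  obtain ⟨A⟩ := exists_loc c.K hG l
  have hδ : ∀ y : ι → D, A.δ (y l) = y := fun y => funext fun k => by
    rw [Subsingleton.elim k l, A.hδ]
  have o0 : ob l (.inr default : (ι × Q) ⊕ γ) := fun q => by simp
  set θ := c.E.f (xp (.inr default)) with hθ
  set t := c.K.j (zl l) with ht
  have θ3 : θ ^ 3 = 1 := by rw [← c.E.pow (xp_HH o0), xp_pow_three, c.E.one]
  have θ1 : θ ≠ 1 := fun e => by
    have := xp_false (.inr default : (ι × Q) ⊕ γ)
    rw [c.E.eq_one (xp_HH o0) e] at this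
    simp at this
  have θi : θ ≠ θ⁻¹ := fun e => θ1 (by
    calc θ = θ * θ⁻¹ * θ := by group
      _ = θ ^ 3 := by rw [← e]; simp [pow_succ]
      _ = 1 := θ3)
  have jθ : ∀ y, c.K.j y * θ * (c.K.j y)⁻¹ = θ ^ (sgD (y l) : ℤ) := fun y => by
    rw [c.conj_xp o0, sgJ_apply, Fintype.prod_subsingleton _ l]; rfl
  have hC : ∀ x, x * t = t * x → ∃ y, ∃ s ∈ zpowers θ, x = c.K.j y * s := by
    intro x hx
    obtain ⟨C, hC, rfl⟩ := c.exists_of_comm (g := x) (by rwa [← zl_eq])
    obtain ⟨d, hd⟩ := exists_fix_pt (c := C) fun k => by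
      rw [Subsingleton.elim k l, zl_eq]; exact (mem_HH.1 hC).1
    have hm := mul_mem (inv_mem (jA_HH {l} d)) hC
    have := H60.LyC.fix_mem (ι := (ι × Q) ⊕ γ) Function.Embedding.inr (mem_HH.1 hm).2 (by
      rintro (⟨k, q⟩ | g) hi
      · exact hd k q
      · exact absurd ⟨g, rfl⟩ hi)
    rw [Set.range_unique, ← zpowers_eq_closure] at this
    obtain ⟨k, hk⟩ := mem_zpowers_iff.1 this
    refine ⟨d, c.E.f ((jA d)⁻¹ * C), ⟨k, by rw [← hk]; exact (c.E.zpow (xp_HH o0) k).symm⟩, ?_⟩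
    rw [c.hj, ← c.E.mul _ (jA_HH _ _) _ hm, mul_inv_cancel_left]
  have nθ : ∀ {g}, g * θ * g⁻¹ ∈ zpowers θ → g ∈ normalizer (zpowers θ : Set G) := fun h =>
    mem_normalizer_fintype (by
      rintro _ ⟨k, rfl⟩
      rw [← conj_zpow]; exact zpow_mem h k)
  have jn : ∀ y, c.K.j y ∈ normalizer (zpowers θ : Set G) := fun y =>
    nθ (by rw [jθ]; exact zpow_mem (mem_zpowers θ) _)
  have j3 : ∀ y, c.K.j y ∈ zpowers θ → y = 1 := by
    rintro y ⟨k, hk⟩
    have : c.K.j (y ^ 3) = 1 := by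
      rw [map_pow, ← hk, ← zpow_natCast, ← zpow_mul, mul_comm, zpow_mul, zpow_natCast, θ3, one_zpow]
    rw [map_eq_one_iff _ c.K.inj] at this
    exact funext fun k => cube_D _ (congrFun this k)
  have odd : ∀ x, x * t = t * x → Odd (orderOf x) → x ∈ zpowers θ := by
    intro x hx ho
    obtain ⟨y, s, hs, rfl⟩ := hC x hx
    have h1 : ∀ n : ℕ, (c.K.j y ^ n)⁻¹ * (c.K.j y * s) ^ n ∈ zpowers θ := by
      intro n
      induction n with
      | zero => simp
      | succ n ih =>
        have := mul_mem ((mem_normalizer_iff.1 (inv_mem (jn y)) _).1 ih) hs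
        convert this using 1
        simp only [pow_succ]; group
    have h2 := h1 (orderOf (c.K.j y * s))
    rw [pow_orderOf_eq_one, mul_one, inv_mem_iff, ← map_pow] at h2
    have h3 : y ^ 8 = 1 := funext fun k => (by decide : ∀ d : D, d ^ 8 = 1) _
    have h4 : y = 1 := by
      rw [← orderOf_eq_one_iff]
      exact Nat.eq_one_of_dvd_coprimes (Nat.Coprime.pow_right 3 (Nat.coprime_two_right.2 ho))
        (orderOf_dvd_of_pow_eq_one (j3 _ h2)) (orderOf_dvd_of_pow_eq_one h3)
    simpa [h4] using hs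
  have oc : ∀ g x : G, orderOf (g * x * g⁻¹) = orderOf x := fun g x =>
    (MulAut.conj g).orderOf_eq x
  have oθ : orderOf θ = 3 := orderOf_eq_prime θ3 θ1
  have cV : ∀ d, sgD d = 1 → c.K.j (A.δ d) * θ = θ * c.K.j (A.δ d) := fun d hd => by
    rw [← mul_inv_eq_iff_eq_mul, jθ, A.hδ, hd]; simp
  have mv : ∀ {g d}, sgD d = 1 → g * c.K.j (A.δ d) * g⁻¹ = t →
      g ∈ normalizer (zpowers θ : Set G) := by
    intro g d hd e
    refine nθ (odd _ ?_ (by rw [oc, oθ]; decide))
    rw [← e, conj_mul, conj_mul, cV d hd]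
  have odd' : ∀ {g s}, g ∈ normalizer (zpowers θ : Set G) → g * t * g⁻¹ = s → ∀ x,
      x * s = s * x → Odd (orderOf x) → x ∈ zpowers θ := by
    rintro g _ hg rfl x hx ho
    rw [mem_normalizer_iff.1 (inv_mem hg)]
    refine odd _ ?_ (by rwa [oc])
    calc _ = g⁻¹ * (x * (g * t * g⁻¹)) * g := by group
      _ = _ := by rw [hx]; group
  obtain ⟨u, T⟩ := A.T1.flip
  have a1 : u * t * u⁻¹ = c.K.j (A.δ e1) := by
    rw [T.z, zl_comm, ← mul_assoc, zl_sq, one_mul]
  have a2 : u * c.K.j (A.δ e1) * u⁻¹ = t := by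
    have := T.fix
    rw [Dat.conj_mul, a1, map_mul, ← A.tv_comm] at this
    exact mul_right_cancel this
  have a3 : A.u1 * c.K.j (A.δ (e1 * zD)) * A.u1⁻¹ = t := by
    rw [A.vt, ← conj_mul, A.T1.fix, A.T1.z, map_mul, A.tv_comm, ← mul_assoc, A.dl_sq ni1.1,
      one_mul]
  have dne : ∀ {d d'}, d ≠ d' → c.K.j (A.δ d) ≠ c.K.j (A.δ d') := fun h e =>
    h (by simpa [A.hδ] using congrFun (c.K.inj e) l)
  have al : c.K.j (A.δ e0) * θ * (c.K.j (A.δ e0))⁻¹ = θ⁻¹ := by rw [jθ, A.hδ, sgD_e0]; simp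
  have nn : normalizer (zpowers θ : Set G) ≠ ⊤ := by
    intro h
    refine hG (centralizer {θ}) (index_eq_two_iff.2 ⟨c.K.j (A.δ e0), fun b => ?_⟩)
    simp only [mem_centralizer_singleton_iff, ← mul_inv_eq_iff_eq_mul]
    have e : b * c.K.j (A.δ e0) * θ * (b * c.K.j (A.δ e0))⁻¹ = (b * θ * b⁻¹)⁻¹ := by
      rw [conj_inv, ← al]; group
    rw [e]
    rcases cube_cases θ3 ((mem_normalizer_iff.1 (h ▸ mem_top b) θ).1 (mem_zpowers θ)) with
      h | h | h
    · exact absurd (by simpa using h) θ1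
    · rw [h]; exact Or.inr ⟨rfl, θi.symm⟩
    · rw [h, inv_inv]; exact Or.inl ⟨rfl, θi.symm⟩
  have nJ : normalizer (c.K.j.range : Set G) ≤ c.K.j.range := fun g hg => c.nc g hg fun k => by
    have := Gam_spec c.K.j c.K.inj ⟨g, hg⟩ (zl k)
    rw [sig_spec, Subsingleton.elim (sig _ k) k] at this
    exact mul_inv_eq_iff_eq_mul.1 this.symm
  have hS : (c.K.S : Subgroup G) = c.K.j.range := le_antisymm
    ((c.K.le_norm c.K.S.isPGroup' c.K.le).trans nJ) (by rintro _ ⟨d, rfl⟩; exact c.K.le d)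
  have t1 : t ≠ 1 := by simpa [A.hz] using dne zD_ne
  have : Nontrivial G := ⟨_, _, t1⟩
  have simple : IsSimpleGroup G := by
    refine ⟨fun N hN => ?_⟩
    rcases Nat.even_or_odd (Nat.card N) with h | h
    · right
      obtain ⟨s, hs⟩ := exists_prime_orderOf_dvd_card' 2 h.two_dvd
      have s2 : orderOf s.1 = 2 := by rw [orderOf_coe, hs]
      obtain ⟨P, hP⟩ := (IsPGroup.of_card (p := 2) (n := 1) (G := zpowers s.1)
        (by rw [Nat.card_zpowers, s2]; rfl)).exists_le_sylow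
      obtain ⟨g, rfl⟩ := MulAction.exists_smul_eq G c.K.S P
      obtain ⟨x, hx, e⟩ := hP (mem_zpowers _)
      obtain ⟨y, rfl⟩ : x ∈ c.K.j.range := hS ▸ hx
      have e' : g * c.K.j y * g⁻¹ = s := e
      have ym : c.K.j y ∈ N := by simpa [← e', mul_assoc] using hN.conj_mem' _ s.2 g
      obtain ⟨g', I, hI⟩ := c.K.fuse hG y (c.K.inj (by
        have := pow_orderOf_eq_one s.1
        rw [s2, ← e', sq, conj_mul, conj_eq_one_iff] at this
        simpa using this))
      have tm : t ∈ N := by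
        rcases Finset.subset_singleton_iff.1 (show I ⊆ {l} from fun k _ => by
          simp [Subsingleton.elim k l]) with rfl | rfl
        · rw [zI_empty, map_one, conj_eq_one_iff] at hI
          rw [← e', hI] at s2
          simp at s2
        · rw [ht, zl_eq, ← hI]; exact hN.conj_mem _ ym _
      have cm : ∀ {w u}, c.K.Tv l w u → c.K.j w ∈ N := fun T => by
        obtain ⟨g, e⟩ := isConj_iff.1 T.isConj
        exact e ▸ hN.conj_mem _ tm g
      have hle : (c.K.S : Subgroup G) ≤ N := by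
        rw [hS]
        rintro _ ⟨d, rfl⟩
        refine pi_gen (N.comap c.K.j) (fun k => ?_) (fun k => ?_) d <;>
          rw [Subsingleton.elim k l, ← hδ (Pi.mulSingle l _), Pi.mulSingle_eq_same]
        exacts [cm A.T0, cm A.T1]
      rw [← Sylow.normalizer_sup_eq_top' c.K.S hle, eq_comm, sup_eq_right]
      refine le_trans ?_ hle
      rw [← Sylow.coe_coe, hS]; exact nJ
    · left
      have hp : H29.IsPair t (c.K.j (A.δ e1)) := ⟨Loc.t_sq, t1, A.dl_sq ni1.1,
        by simpa using dne (show e1 ≠ 1 by decide),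
        by simpa [A.hz] using dne (show zD ≠ e1 by decide), A.tv_comm⟩
      have hV := hp.isKleinFour
      have od : ∀ x ∈ N, Odd (orderOf x) := fun x hx =>
        h.of_dvd_nat (by simpa using orderOf_dvd_natCard (⟨x, hx⟩ : N))
      have hle : N ≤ zpowers θ := H2.le_of_forall_centralizer_le hV.isMulCommutative
        IsKleinFour.not_isCyclic (by rw [normalizer_eq_top N]; exact le_top) (by
          rw [hV.card_four]; exact (Nat.coprime_two_left.2 h).pow_left 2) fun s hs s1 x hx => by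
        have h1 := mem_centralizer_singleton_iff.1 hx.2
        rcases hp.mem_closure.1 hs with rfl | rfl | rfl | rfl
        · exact absurd rfl s1
        · exact odd _ h1 (od _ hx.1)
        · exact odd' (mv sgD_e1 a2) a1 _ h1 (od _ hx.1)
        · exact odd' (mv (by decide) a3) (by rw [A.T1.z, map_mul]) _ h1 (od _ hx.1)
      by_contra hb
      obtain ⟨⟨x, hx⟩, x1⟩ := ne_bot_iff_exists_ne_one.1 hb
      have : N = zpowers θ := le_antisymm hle (zpowers_le.2 (by
        rcases cube_cases θ3 (hle hx) with rfl | rfl | rfl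
        · exact absurd rfl x1
        · exact hx
        · exact inv_mem_iff.1 hx))
      exact nn (this ▸ normalizer_eq_top N)
  have h24 : 24 ∣ Nat.card (centralizer {t}) := by
    refine Nat.Coprime.mul_dvd_of_dvd_of_dvd (m := 3) (n := 8) (by norm_num) ?_ ?_
    · rw [← oθ, ← Nat.card_zpowers]
      exact card_dvd_of_le (zpowers_le.2 (mem_centralizer_singleton_iff.2
        (by simpa [A.hz] using (cV zD (by decide)).symm)))
    · have := card_dvd_of_injective ((c.K.j.comp A.δ).codRestrict (centralizer {t}) fun d =>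
        mem_centralizer_singleton_iff.2 (mul_inv_eq_iff_eq_mul.1 (A.j_X0 _).1))
        fun a b h => by_contra fun h' => dne h' (congrArg Subtype.val h)
      rwa [DihedralGroup.nat_card] at this
  have hle : centralizer {t} ≤ normalizer (zpowers θ : Set G) := fun x hx => by
    obtain ⟨y, s, hs, rfl⟩ := hC x (mem_centralizer_singleton_iff.1 hx)
    exact mul_mem (jn y) (le_normalizer hs)
  obtain ⟨m, hm⟩ := h24
  have c1 := (centralizer {t}).card_mul_index
  have c2 := relIndex_mul_index hle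
  have c3 : (centralizer {t}).relIndex (normalizer (zpowers θ : Set G)) ≠ 1 := fun h => by
    have := mem_centralizer_singleton_iff.1 (relIndex_eq_one.1 h (mv sgD_e1 a2))
    rw [this, mul_inv_cancel_right] at a1
    exact dne (show zD ≠ e1 by decide) (by rwa [A.hz])
  have c4 := H9.card_dvd_factorial_index_of_simple nn
  have c5 : (normalizer (zpowers θ : Set G)).index ≠ 1 := by simpa using nn
  rw [hm, ← c2] at c1
  generalize (centralizer {t}).relIndex (normalizer (zpowers θ : Set G)) = r at c1 c3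
  generalize (normalizer (zpowers θ : Set G)).index = k at c1 c4 c5
  refine ⟨simple, fun h => dne (show e0 * e1 ≠ e1 * e0 by decide) (by
    simp only [map_mul]; exact h.isMulCommutative.is_comm.comm _ _),
    ⟨c.K.j (A.δ (DihedralGroup.r 1)), ?_⟩, fun h => ?_, fun h => ?_, fun h => ?_⟩
  · refine le_trans (card_le_of_le (K := zpowers (c.K.j (A.δ (DihedralGroup.r 1)))) fun x hx => ?_)
      (by rw [Nat.card_zpowers]; exact orderOf_le_of_pow_eq_one (by norm_num) (by
        rw [← map_pow, ← map_pow, show (DihedralGroup.r 1 : D) ^ 4 = 1 by decide]; simp))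
    have h1 := mem_centralizer_singleton_iff.1 hx
    obtain ⟨y, s, hs, rfl⟩ := hC x (by
      rw [ht, ← A.hz, ← r1_sq, map_mul, map_mul, ← mul_assoc, h1, mul_assoc, h1, mul_assoc])
    set w := c.K.j (A.δ (DihedralGroup.r 1)) with hw
    have h2 : w * θ * w⁻¹ = θ⁻¹ := by
      rw [hw, jθ, A.hδ, show sgD (DihedralGroup.r 1) = -1 by decide]; simp
    have h3 : w * s * w⁻¹ = s⁻¹ := by
      obtain ⟨k, rfl⟩ := mem_zpowers_iff.1 hs
      rw [← conj_zpow, h2]; simp
    have h4 : c.K.j (y⁻¹ * A.δ (DihedralGroup.r 1) * y * (A.δ (DihedralGroup.r 1))⁻¹) = s * s := by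
      simp only [map_mul, map_inv, ← hw]
      calc _ = (c.K.j y)⁻¹ * (w * (c.K.j y * s)) * w⁻¹ * (w * s * w⁻¹)⁻¹ := by group
        _ = _ := by rw [← h1, h3]; group
    have h5 := j3 _ (h4 ▸ mul_mem hs hs)
    rw [h5, map_one] at h4
    have h6 : s = 1 := by
      rcases cube_cases θ3 hs with h | h | h
      · exact h
      · exact absurd (eq_inv_of_mul_eq_one_left (h ▸ h4).symm) θi
      · exact absurd ((eq_inv_of_mul_eq_one_left (h ▸ h4).symm).trans (inv_inv θ)) θi.symm
    have h7 := congrFun h5 l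
    simp only [Pi.mul_apply, Pi.inv_apply, A.hδ, Pi.one_apply] at h7
    obtain ⟨n, hn⟩ := (by decide : ∀ d : D, d⁻¹ * DihedralGroup.r 1 * d * (DihedralGroup.r 1)⁻¹ = 1 →
      ∃ n : Fin 4, d = DihedralGroup.r 1 ^ n.1) _ h7
    rw [h6, mul_one, ← hδ y, hn, map_pow, map_pow]
    exact pow_mem (mem_zpowers _) _
  · rw [h, mul_assoc] at c1
    omega
  · rw [h] at c1 c4
    have h1 : m * (r * k) = 15 := by linarith
    have h2 : k ∣ 15 := ⟨m * r, by linarith⟩
    have h3 : k ≤ 15 := Nat.le_of_dvd (by norm_num) h2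
    have h4 : k ≠ 15 := by rintro rfl; exact c3 (Nat.eq_one_of_mul_eq_one_left (m := m) (by linarith))
    interval_cases k <;> revert h2 c4 h4 c5 <;> decide
  · rw [h] at c1
    have h2 : k ∣ 7 := ⟨m * r, by linarith⟩
    rcases (Nat.dvd_prime (by norm_num)).1 h2 with rfl | rfl
    · exact c5 rfl
    · exact c3 (Nat.eq_one_of_mul_eq_one_left (m := m) (by linarith))

end H24.Ko
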